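import Mathlib
import Cfsg.Agent.Solvable.Glauberman

/-!
# The residue `{0, 1}` of the closing of NO-1' (β), q ≥ 4: the points of a plane are `X`-invariant

`R ≤ V`, `C = N(R)`, `N = N(V)`, `X ⊴ N` transitive on the points `x R x⁻¹` of `V`, `n ∈ X - C`.  A set `Λ ⊆ C` is the set of
the elements `h` such that the line `h V h⁻¹` through `R` lies in a totally isotropic line `ℓ` of `Q / R` (which contains
the point given by `V`).  `Inv.inv` : the set of the points `h x R (h x)⁻¹` (`h ∈ Λ`, `x ∈ X`) is invariant under `X`.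

(#13663 (1)-(4) of helper802, #13971 (K5) of helper301.)
-/

set_option autoImplicit false

namespace Cfsg.Agent.Omega.NO1U

open Subgroup

variable {G : Type*} [Group G]

/-- The data which do not depend on `ℓ`.  `T` : the torus, `Y = C_Q(V) C_{Q'}(V)`. -/
structure Base (R V X Q Y T : Subgroup G) (n : G) : Prop where
  RV : R ≤ V
  XN : X ≤ normalizer (V : Set G)
  nX : n ∈ X
  nC : n ∉ normalizer (R : Set G)
  /-- `N = X (N ∩ C)` -/
  NX : ∀ m ∈ normalizer (V : Set G), ∃ x ∈ X, ∃ c ∈ normalizer (R : Set G), m = x * c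
  QX : Q ≤ X
  QC : Q ≤ normalizer (R : Set G)
  /-- `Q ⊴ C` -/
  CQ : ∀ c ∈ normalizer (R : Set G), ∀ u ∈ Q, c * u * c⁻¹ ∈ Q
  /-- `Q` is transitive on the points `≠ R` of `V` -/
  Qtr : ∀ x ∈ X, x ∉ normalizer (R : Set G) → ∃ u ∈ Q, (u * n)⁻¹ * x ∈ normalizer (R : Set G)
  YX : Y ≤ X
  YV : Y ≤ centralizer (V : Set G)
  nY : ∀ y ∈ Y, n * y * n⁻¹ ∈ Y
  Yp : IsPGroup 2 Y
  TX : T ≤ X
  TC : T ≤ normalizer (R : Set G)
  TY : T ≤ normalizer (Y : Set G)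
  Todd : (Nat.card T).Coprime 2
  nT : ∀ t ∈ T, n * t * n⁻¹ ∈ T
  /-- `C_Y(T) = 1` -/
  YT : ∀ y ∈ Y, (∀ t ∈ T, t * y = y * t) → y = 1
  /-- `[X, C(V)] ≤ Y` -/
  comm : ∀ x ∈ X, ∀ g ∈ centralizer (V : Set G), x * g * x⁻¹ * g⁻¹ ∈ Y

/-- The set `Λ` of the `h ∈ C` which move the point of `Q / R` given by `V` into a totally isotropic line `ℓ` through it. -/
structure Line (R V X Q Y : Subgroup G) (n : G) (Λ : Set G) : Prop where
  one : (1 : G) ∈ Λ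
  C : Λ ⊆ normalizer (R : Set G)
  mul : ∀ h ∈ Λ, ∀ m ∈ normalizer (R : Set G), m ∈ normalizer (V : Set G) → h * m ∈ Λ
  X : ∀ x ∈ X, x ∈ normalizer (R : Set G) → ∀ h ∈ Λ, x * h ∈ Λ
  /-- `Y` is transitive on the points `≠ e` of `ℓ` -/
  Ytr : ∀ h ∈ Λ, h ∉ normalizer (V : Set G) → ∀ h' ∈ Λ, h' ∉ normalizer (V : Set G) →
    ∃ y ∈ Y, h⁻¹ * (y * h') ∈ normalizer (V : Set G)
  /-- `h V h⁻¹` centralises `V` -/
  cen : ∀ h ∈ Λ, h ∉ normalizer (V : Set G) → ∀ v ∈ V, h * v * h⁻¹ ∈ centralizer (V : Set G)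
  /-- `Q = (Y ∩ Q) C_Q(h V h⁻¹)` -/
  cov : ∀ h ∈ Λ, h ∉ normalizer (V : Set G) → ∀ u ∈ Q, ∃ y ∈ Y, h⁻¹ * (y⁻¹ * u) * h ∈ centralizer (V : Set G)
  /-- a point `≠ R` of `h V h⁻¹` meets `Y` trivially -/
  disj : ∀ h ∈ Λ, h ∉ normalizer (V : Set G) → ∀ r ∈ R, h * (n * r * n⁻¹) * h⁻¹ ∈ Y → r = 1

/-- the elements which move `R` to a point of the union -/
def Pts (R X : Subgroup G) (Λ : Set G) : Set G :=
  {g | ∃ h ∈ Λ, ∃ x ∈ X, ∃ c ∈ normalizer (R : Set G), g = h * x * c}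

theorem centralizer_le_normalizer' {V : Subgroup G} : centralizer (V : Set G) ≤ normalizer (V : Set G) := by
  intro g hg
  rw [Subgroup.mem_normalizer_iff]
  intro x
  rw [Subgroup.mem_centralizer_iff] at hg
  constructor
  · intro hx
    have := hg x hx
    have e : g * x * g⁻¹ = x := by rw [← this]; group
    rw [e]; exact hx
  · intro hx
    have := hg _ hx
    have e : g * x * g⁻¹ = x := by
      have h2 : g * x * g⁻¹ * g = g * (g * x * g⁻¹) := this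
      have h3 : g * x = g * (g * x * g⁻¹) := by rw [← h2]; group
      exact (mul_left_cancel h3).symm
    rw [e] at hx; exact hx

namespace Base

variable {R V X Q Y T : Subgroup G} {n : G} (D : Base R V X Q Y T n)

include D

theorem VC (g : G) (hg : g ∈ centralizer (V : Set G)) : g ∈ normalizer (R : Set G) := by
  apply centralizer_le_normalizer'
  rw [Subgroup.mem_centralizer_iff] at hg ⊢
  exact fun r hr => hg r (D.RV hr)

theorem YC : Y ≤ normalizer (R : Set G) := fun y hy => D.VC y (D.YV hy)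

/-- `C(V)` is normalised by `N(V)` -/
theorem conjC {m g : G} (hm : m ∈ normalizer (V : Set G)) (hg : g ∈ centralizer (V : Set G)) :
    m * g * m⁻¹ ∈ centralizer (V : Set G) := by
  rw [Subgroup.mem_centralizer_iff] at hg ⊢
  intro v hv
  have h1 : m⁻¹ * v * m ∈ V := by
    have := (Subgroup.mem_normalizer_iff.1 (inv_mem hm) v).1 hv
    rwa [inv_inv] at this
  have h2 := hg _ h1
  calc v * (m * g * m⁻¹) = m * ((m⁻¹ * v * m) * g) * m⁻¹ := by group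
    _ = m * (g * (m⁻¹ * v * m)) * m⁻¹ := by rw [h2]
    _ = m * g * m⁻¹ * v := by group

theorem conjC' {m g : G} (hm : m ∈ normalizer (V : Set G)) (hg : g ∈ centralizer (V : Set G)) :
    m⁻¹ * g * m ∈ centralizer (V : Set G) := by
  have := D.conjC (inv_mem hm) hg
  rwa [inv_inv] at this

theorem nN : n ∈ normalizer (V : Set G) := D.XN D.nX

/-- one line: `Y` is transitive on the points `≠ R` of `h V h⁻¹` -/
theorem key {Λ : Set G} (L : Line R V X Q Y n Λ) {h x : G} (hh : h ∈ Λ) (hN : h ∉ normalizer (V : Set G))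
    (hx : x ∈ X) (hxC : x ∉ normalizer (R : Set G)) :
    ∃ y ∈ Y, ∃ c ∈ normalizer (R : Set G), h * x = y * (h * n) * c := by
  obtain ⟨u, hu, hc⟩ := D.Qtr x hx hxC
  have hu' : h * u * h⁻¹ ∈ Q := D.CQ h (L.C hh) u hu
  obtain ⟨y, hy, hcen⟩ := L.cov h hh hN _ hu'
  refine ⟨y, hy, n⁻¹ * (h⁻¹ * (y⁻¹ * (h * u * h⁻¹)) * h) * n * ((u * n)⁻¹ * x), mul_mem ?_ hc, by group⟩
  exact D.VC _ (D.conjC' D.nN hcen)

/-- `Y` is transitive on the points off `V` -/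
theorem key₂ {Λ : Set G} (L : Line R V X Q Y n Λ) {h₀ : G} (h₀Λ : h₀ ∈ Λ) (h₀N : h₀ ∉ normalizer (V : Set G))
    {h x : G} (hh : h ∈ Λ) (hN : h ∉ normalizer (V : Set G)) (hx : x ∈ X) (hxC : x ∉ normalizer (R : Set G)) :
    ∃ y ∈ Y, ∃ c ∈ normalizer (R : Set G), h * x = y * (h₀ * n) * c := by
  obtain ⟨y, hy, c, hc, e⟩ := D.key L hh hN hx hxC
  obtain ⟨y', hy', hm⟩ := L.Ytr h₀ h₀Λ h₀N h hh hN
  -- `h = y'⁻¹ h₀ m`, `m ∈ N ∩ C`
  set m := h₀⁻¹ * (y' * h) with hmdef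
  have hmC : m ∈ normalizer (R : Set G) :=
    mul_mem (inv_mem (L.C h₀Λ)) (mul_mem (D.YC hy') (L.C hh))
  obtain ⟨x', hx', c', hc', e'⟩ := D.NX _ (mul_mem hm D.nN)
  have hx'C : x' ∉ normalizer (R : Set G) := by
    intro hcon
    apply D.nC
    have e2 : n = m⁻¹ * (x' * c') := by rw [← e']; group
    rw [e2]
    exact mul_mem (inv_mem hmC) (mul_mem hcon hc')
  obtain ⟨y'', hy'', c'', hc'', e''⟩ := D.key L h₀Λ h₀N hx' hx'C
  refine ⟨y * (y'⁻¹ * y''), mul_mem hy (mul_mem (inv_mem hy') hy''), c'' * c' * c, mul_mem (mul_mem hc'' hc') hc, ?_⟩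
  calc h * x = y * (h * n) * c := e
    _ = y * (y'⁻¹ * (h₀ * (m * n))) * c := by rw [hmdef]; group
    _ = y * (y'⁻¹ * (h₀ * (x' * c'))) * c := by rw [e']
    _ = y * (y'⁻¹ * ((h₀ * x') * c')) * c := by group
    _ = y * (y'⁻¹ * ((y'' * (h₀ * n) * c'') * c')) * c := by rw [e'']
    _ = y * (y'⁻¹ * y'') * (h₀ * n) * (c'' * c' * c) := by group

/-- `n` fixes a point of `Pts` which is not on `V` -/
theorem exists_fixed [Finite G] {Λ : Set G} (L : Line R V X Q Y n Λ) {h₀ : G} (h₀Λ : h₀ ∈ Λ)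
    (h₀N : h₀ ∉ normalizer (V : Set G)) :
    ∃ y ∈ Y, (y * (h₀ * n))⁻¹ * (n * (y * (h₀ * n))) ∈ normalizer (R : Set G) := by
  -- `T` preserves the orbit of `h₀ n C` under `Y`
  have hYs : Group.IsSolvable Y := by
    have := D.Yp.isNilpotent
    infer_instance
  have hcop : (Nat.card T).Coprime (Nat.card Y) := by
    obtain ⟨k, hk⟩ := (IsPGroup.iff_card (p := 2)).1 D.Yp
    rw [hk]
    exact Nat.Coprime.pow_right k D.Todd
  have horb : ∀ t ∈ T, ∃ k ∈ Y, t • ((h₀ * n : G) : G ⧸ normalizer (R : Set G)) =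
      k • ((h₀ * n : G) : G ⧸ normalizer (R : Set G)) := by
    intro t ht
    have h1 := L.X t (D.TX ht) (D.TC ht) h₀ h₀Λ
    have hnot : t * h₀ ∉ normalizer (V : Set G) := by
      intro hcon
      apply h₀N
      have e : h₀ = t⁻¹ * (t * h₀) := by group
      rw [e]
      exact mul_mem (inv_mem (D.XN (D.TX ht))) hcon
    obtain ⟨y, hy, c, hc, e⟩ := D.key₂ L h₀Λ h₀N h1 hnot D.nX D.nC
    refine ⟨y, hy, ?_⟩
    change ((t * (h₀ * n) : G) : G ⧸ normalizer (R : Set G)) = ((y * (h₀ * n) : G) : G ⧸ normalizer (R : Set G))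
    rw [← mul_assoc t, e, QuotientGroup.eq]
    have e2 : (y * (h₀ * n) * c)⁻¹ * (y * (h₀ * n)) = c⁻¹ := by group
    rw [e2]; exact inv_mem hc
  obtain ⟨y, hy, hfix⟩ := Solvable.Glauberman.exists_smul_fixed T Y D.TY hcop (Or.inr hYs)
    ((h₀ * n : G) : G ⧸ normalizer (R : Set G)) horb
  refine ⟨y, hy, ?_⟩
  -- `g = h₁ n`, `h₁ = y h₀ ∈ Λ`
  set g := y * (h₀ * n) with hg
  have hTg : ∀ t ∈ T, g⁻¹ * t * g ∈ normalizer (R : Set G) := by
    intro t ht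
    have h1 := hfix t ht
    have h1 : ((t * (y * (h₀ * n)) : G) : G ⧸ normalizer (R : Set G)) = ((y * (h₀ * n) : G) : G ⧸ normalizer (R : Set G)) := h1
    rw [eq_comm, QuotientGroup.eq] at h1
    have e : g⁻¹ * t * g = (y * (h₀ * n))⁻¹ * (t * (y * (h₀ * n))) := by rw [hg]; group
    rw [e]; exact h1
  have h₁Λ : y * h₀ ∈ Λ := L.X y (D.YX hy) (D.YC hy) h₀ h₀Λ
  have h₁N : y * h₀ ∉ normalizer (V : Set G) := by
    intro hcon
    apply h₀N
    have e : h₀ = y⁻¹ * (y * h₀) := by group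
    rw [e]
    exact mul_mem (inv_mem (D.XN (D.YX hy))) hcon
  have hR3 : ∀ r ∈ R, g * r * g⁻¹ ∈ centralizer (V : Set G) := by
    intro r hr
    have h1 : n * r * n⁻¹ ∈ V := (Subgroup.mem_normalizer_iff.1 D.nN r).1 (D.RV hr)
    have h2 := L.cen _ h₁Λ h₁N _ h1
    have e : g * r * g⁻¹ = y * h₀ * (n * r * n⁻¹) * (y * h₀)⁻¹ := by rw [hg]; group
    rw [e]; exact h2
  have hdisj : ∀ r ∈ R, g * r * g⁻¹ ∈ Y → r = 1 := by
    intro r hr h1
    apply L.disj _ h₁Λ h₁N r hr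
    have e : y * h₀ * (n * r * n⁻¹) * (y * h₀)⁻¹ = g * r * g⁻¹ := by rw [hg]; group
    rw [e]; exact h1
  -- `T` centralises `R₃ = g R g⁻¹`
  have hTR : ∀ t ∈ T, ∀ r ∈ R, t * (g * r * g⁻¹) * t⁻¹ = g * r * g⁻¹ := by
    intro t ht r hr
    have h1 : t * (g * r * g⁻¹) * t⁻¹ * (g * r * g⁻¹)⁻¹ ∈ Y := D.comm t (D.TX ht) _ (hR3 r hr)
    have h2 : (g⁻¹ * t * g) * r * (g⁻¹ * t * g)⁻¹ ∈ R := (Subgroup.mem_normalizer_iff.1 (hTg t ht) r).1 hr
    have h3 := hdisj _ (mul_mem h2 (inv_mem hr)) (by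
      have e : g * ((g⁻¹ * t * g) * r * (g⁻¹ * t * g)⁻¹ * r⁻¹) * g⁻¹ =
          t * (g * r * g⁻¹) * t⁻¹ * (g * r * g⁻¹)⁻¹ := by group
      rw [e]; exact h1)
    have h4 : (g⁻¹ * t * g) * r * (g⁻¹ * t * g)⁻¹ = r := mul_inv_eq_one.1 h3
    calc t * (g * r * g⁻¹) * t⁻¹ = g * ((g⁻¹ * t * g) * r * (g⁻¹ * t * g)⁻¹) * g⁻¹ := by group
      _ = g * r * g⁻¹ := by rw [h4]
  have hTR' : ∀ t ∈ T, ∀ r ∈ R, t * (g * r * g⁻¹) = g * r * g⁻¹ * t := fun t ht r hr => by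
    have := hTR t ht r hr
    rwa [mul_inv_eq_iff_eq_mul] at this
  -- `n` normalises `R₃`
  have hnR : ∀ r ∈ R, (g⁻¹ * (n * g)) * r * (g⁻¹ * (n * g))⁻¹ ∈ R := by
    intro r hr
    have h1 : n * (g * r * g⁻¹) * n⁻¹ * (g * r * g⁻¹)⁻¹ ∈ Y := D.comm n D.nX _ (hR3 r hr)
    -- it commutes with `T`
    have h2 : ∀ t ∈ T, t * (n * (g * r * g⁻¹) * n⁻¹) = n * (g * r * g⁻¹) * n⁻¹ * t := by
      intro t ht
      -- `n⁻¹ t n ∈ T`
      have h3 : n⁻¹ * t * n ∈ T := by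
        have hfin : ∀ t ∈ T, n⁻¹ * t * n ∈ T := by
          have hle : T.map (MulAut.conj n).toMonoidHom ≤ T := by
            rintro _ ⟨t, ht, rfl⟩
            exact D.nT t ht
          have hcard : Nat.card T ≤ Nat.card (T.map (MulAut.conj n).toMonoidHom) := by
            rw [Subgroup.card_map_of_injective (MulAut.conj n).injective]
          have heq := Subgroup.eq_of_le_of_card_ge hle hcard
          intro t ht
          rw [← heq] at ht
          obtain ⟨s, hs, rfl⟩ := ht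
          have e : n⁻¹ * (MulAut.conj n).toMonoidHom s * n = s := by
            change n⁻¹ * (n * s * n⁻¹) * n = s
            group
          rw [e]; exact hs
        exact hfin t ht
      have h4 := hTR' _ h3 r hr
      calc t * (n * (g * r * g⁻¹) * n⁻¹) = n * ((n⁻¹ * t * n) * (g * r * g⁻¹)) * n⁻¹ := by group
        _ = n * (g * r * g⁻¹ * (n⁻¹ * t * n)) * n⁻¹ := by rw [h4]
        _ = n * (g * r * g⁻¹) * n⁻¹ * t := by group
    have h5 := D.YT _ h1 (by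
      intro t ht
      have h6 := h2 t ht
      have h7 := hTR' t ht r hr
      calc t * (n * (g * r * g⁻¹) * n⁻¹ * (g * r * g⁻¹)⁻¹)
          = (t * (n * (g * r * g⁻¹) * n⁻¹)) * (g * r * g⁻¹)⁻¹ := by group
        _ = n * (g * r * g⁻¹) * n⁻¹ * t * (g * r * g⁻¹)⁻¹ := by rw [h6]
        _ = n * (g * r * g⁻¹) * n⁻¹ * (g * r * g⁻¹)⁻¹ * (g * r * g⁻¹ * t) * (g * r * g⁻¹)⁻¹ := by group
        _ = n * (g * r * g⁻¹) * n⁻¹ * (g * r * g⁻¹)⁻¹ * (t * (g * r * g⁻¹)) * (g * r * g⁻¹)⁻¹ := by rw [h7]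
        _ = n * (g * r * g⁻¹) * n⁻¹ * (g * r * g⁻¹)⁻¹ * t := by group)
    rw [mul_inv_eq_one] at h5
    have e : g⁻¹ * (n * g) * r * (g⁻¹ * (n * g))⁻¹ = g⁻¹ * (n * (g * r * g⁻¹) * n⁻¹) * g := by group
    rw [e, h5]
    have e2 : g⁻¹ * (g * r * g⁻¹) * g = r := by group
    rw [e2]; exact hr
  have hle : R.map (MulAut.conj (g⁻¹ * (n * g))).toMonoidHom ≤ R := by
    rintro _ ⟨r, hr, rfl⟩
    exact hnR r hr
  have heq := Subgroup.eq_of_le_of_card_ge hle (by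
    rw [Subgroup.card_map_of_injective (MulAut.conj (g⁻¹ * (n * g))).injective])
  rw [Subgroup.mem_normalizer_iff]
  intro r
  refine ⟨fun hr => hnR r hr, fun hr => ?_⟩
  have hr' : (g⁻¹ * (n * g)) * r * (g⁻¹ * (n * g))⁻¹ ∈ R.map (MulAut.conj (g⁻¹ * (n * g))).toMonoidHom := by
    rw [heq]; exact hr
  obtain ⟨s, hs, he⟩ := hr'
  have he : (g⁻¹ * (n * g)) * s * (g⁻¹ * (n * g))⁻¹ = (g⁻¹ * (n * g)) * r * (g⁻¹ * (n * g))⁻¹ := he
  have : s = r := by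
    have := mul_right_cancel he
    exact mul_left_cancel this
  rw [← this]; exact hs

/-- **the points of the plane given by `ℓ` are invariant under `X`** -/
theorem inv [Finite G] {Λ : Set G} (L : Line R V X Q Y n Λ) {x g : G} (hx : x ∈ X) (hg : g ∈ Pts R X Λ) :
    x * g ∈ Pts R X Λ := by
  by_cases hΛ : ∀ h ∈ Λ, h ∈ normalizer (V : Set G)
  · -- only points of `V`
    obtain ⟨h, hh, x', hx', c, hc, rfl⟩ := hg
    obtain ⟨x'', hx'', c', hc', e⟩ := D.NX _ (mul_mem (D.XN hx) (mul_mem (hΛ h hh) (D.XN hx')))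
    refine ⟨1, L.one, x'', hx'', c' * c, mul_mem hc' hc, ?_⟩
    calc x * (h * x' * c) = x * (h * x') * c := by group
      _ = x'' * c' * c := by rw [e]
      _ = 1 * x'' * (c' * c) := by group
  push Not at hΛ
  obtain ⟨h₀, h₀Λ, h₀N⟩ := hΛ
  obtain ⟨y₀, hy₀, hfix⟩ := D.exists_fixed L h₀Λ h₀N
  -- the set of the `x` which preserve `Pts`
  have hC : ∀ x ∈ X, x ∈ normalizer (R : Set G) → ∀ g ∈ Pts R X Λ, x * g ∈ Pts R X Λ := by
    rintro x hx hxC _ ⟨h, hh, x', hx', c, hc, rfl⟩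
    exact ⟨x * h, L.X x hx hxC h hh, x', hx', c, hc, by group⟩
  have hn : ∀ g ∈ Pts R X Λ, n * g ∈ Pts R X Λ := by
    rintro _ ⟨h, hh, x', hx', c, hc, rfl⟩
    by_cases hN : h ∈ normalizer (V : Set G)
    · obtain ⟨x'', hx'', c', hc', e⟩ := D.NX _ (mul_mem D.nN (mul_mem hN (D.XN hx')))
      refine ⟨1, L.one, x'', hx'', c' * c, mul_mem hc' hc, ?_⟩
      calc n * (h * x' * c) = n * (h * x') * c := by group
        _ = x'' * c' * c := by rw [e]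
        _ = 1 * x'' * (c' * c) := by group
    by_cases hxC : x' ∈ normalizer (R : Set G)
    · exact ⟨1, L.one, n, D.nX, h * x' * c, mul_mem (mul_mem (L.C hh) hxC) hc, by group⟩
    obtain ⟨y, hy, c', hc', e⟩ := D.key₂ L h₀Λ h₀N hh hN hx' hxC
    -- `n y h₀ n = n (y y₀⁻¹) n⁻¹ n (y₀ h₀ n)`
    have h1 : n * (y * y₀⁻¹) * n⁻¹ ∈ Y := D.nY _ (mul_mem hy (inv_mem hy₀))
    refine ⟨n * (y * y₀⁻¹) * n⁻¹ * y₀ * h₀, ?_, n, D.nX,
      (y₀ * (h₀ * n))⁻¹ * (n * (y₀ * (h₀ * n))) * c' * c, mul_mem (mul_mem hfix hc') hc, ?_⟩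
    · exact L.X _ (mul_mem (D.YX h1) (D.YX hy₀)) (mul_mem (D.YC h1) (D.YC hy₀)) _ h₀Λ
    · calc n * (h * x' * c) = n * (h * x') * c := by group
        _ = n * (y * (h₀ * n) * c') * c := by rw [e]
        _ = _ := by group
  by_cases hxC : x ∈ normalizer (R : Set G)
  · exact hC x hx hxC g hg
  · obtain ⟨u, hu, hc⟩ := D.Qtr x hx hxC
    have e : x * g = u * (n * ((u * n)⁻¹ * x * g)) := by group
    rw [e]
    apply hC u (D.QX hu) (D.QC hu)
    apply hn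
    exact hC _ (mul_mem (inv_mem (mul_mem (D.QX hu) D.nX)) hx) hc g hg

end Base

end Cfsg.Agent.Omega.NO1U
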