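import Mathlib
import Cfsg.Agent.ParSys.FlagGP
import Cfsg.Agent.Omega.NO1U.PlaneInv

/-!
# The residue `{0, 1}` of the closing of NO-1' (β), q ≥ 4

`Plane.gpp` : `GPp B P i j 3 ∧ GPp B P j i 3`.  The points are the cosets of `C = N(R)`, the lines the cosets of
`N = N(V)`, in `Γ = ⟨P i, P j⟩`; `B` is the full stabiliser of the flag.
-/

set_option autoImplicit false

namespace Cfsg.Agent.Omega.NO1U

open Subgroup Cfsg.Agent.ParSys Cfsg.Agent.ParSys.RankTwo Cfsg.Agent.ParSys.FlagGP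

variable {G : Type*} [Group G]

/-- `P₀ = X B`, `P₁ ≤ C`; `Λ k` (`k : K`) the sets of the `h ∈ C` with `h e ≤ F_k` (`F_k` : the subspaces of the flag,
of dimension at least two), `Λ k₀` : the one of dimension two. -/
structure Plane {K : Type*} (C N X B P₀ P₁ : Subgroup G) (n : G) (Λ : K → Set G) (k₀ : K) : Prop where
  BC : B ≤ C
  BN : B ≤ N
  XN : X ≤ N
  P₀_eq : P₀ = X ⊔ B
  BP₁ : B ≤ P₁
  P₁C : P₁ ≤ C
  nX : n ∈ X
  nC : n ∉ C
  NX : ∀ m ∈ N, ∃ x ∈ X, ∃ c ∈ C, m = x * c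
  /-- `X` is 2-transitive on the points of `V` -/
  Xtr : ∀ x ∈ X, x ∉ C → ∃ a ∈ X ⊓ C, ∃ c ∈ C, x = a * n * c
  /-- two points are on at most one line -/
  two : ∀ g ∈ C, n⁻¹ * g * n ∈ C → g ∈ N
  ΛC : ∀ k, Λ k ⊆ C
  Λmul : ∀ k, ∀ h ∈ Λ k, ∀ m ∈ C, m ∈ N → h * m ∈ Λ k
  /-- the points of `F_k` are invariant under `X` -/
  inv : ∀ k, ∀ x ∈ X, ∀ h ∈ Λ k, ∀ x' ∈ X, ∃ h' ∈ Λ k, ∃ x'' ∈ X, ∃ c ∈ C, x * (h * x') = h' * x'' * c
  ΛP₁ : ∀ k, ∀ p ∈ P₁, ∀ h ∈ Λ k, p * h ∈ Λ k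
  one : (1 : G) ∈ Λ k₀
  /-- `P₁` is transitive on the points of `F₂` -/
  Λtr : ∀ h ∈ Λ k₀, ∃ p ∈ P₁, p⁻¹ * h ∈ N
  /-- `B` is the full stabiliser of the flag -/
  stab : ∀ g ∈ C, g ∈ N → (∀ k, ∀ h ∈ Λ k, g * h ∈ Λ k) → g ∈ B
  card : B.relIndex P₀ = B.relIndex P₁

namespace Plane

variable {K : Type*} {C N X B P₀ P₁ : Subgroup G} {n : G} {Λ : K → Set G} {k₀ : K}
  (D : Plane C N X B P₀ P₁ n Λ k₀)

/-- the elements which move the base point to a point of `F_k` -/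
def Pt (C X : Subgroup G) (L : Set G) : Set G := {g | ∃ h ∈ L, ∃ x ∈ X, ∃ c ∈ C, g = h * x * c}

theorem pt_mul {C X : Subgroup G} {L : Set G} {g c : G} (hg : g ∈ Pt C X L) (hc : c ∈ C) : g * c ∈ Pt C X L := by
  obtain ⟨h, hh, x, hx, c', hc', rfl⟩ := hg
  exact ⟨h, hh, x, hx, c' * c, mul_mem hc' hc, by group⟩

include D

theorem P₀N : P₀ ≤ N := by rw [D.P₀_eq]; exact sup_le D.XN D.BN

theorem BP₀ : B ≤ P₀ := by rw [D.P₀_eq]; exact le_sup_right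

theorem XP₀ : X ≤ P₀ := by rw [D.P₀_eq]; exact le_sup_left

theorem smul_pt (k : K) {g : G} (hg : g ∈ P₀ ⊔ P₁) : ∀ a ∈ Pt C X (Λ k), g * a ∈ Pt C X (Λ k) := by
  have hX : ∀ x ∈ X, ∀ a ∈ Pt C X (Λ k), x * a ∈ Pt C X (Λ k) := by
    rintro x hx _ ⟨h, hh, x', hx', c, hc, rfl⟩
    obtain ⟨h', hh', x'', hx'', c', hc', e⟩ := D.inv k x hx h hh x' hx'
    refine ⟨h', hh', x'', hx'', c' * c, mul_mem hc' hc, ?_⟩
    calc x * (h * x' * c) = x * (h * x') * c := by group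
      _ = h' * x'' * c' * c := by rw [e]
      _ = h' * x'' * (c' * c) := by group
  have hP : ∀ p ∈ P₁, ∀ a ∈ Pt C X (Λ k), p * a ∈ Pt C X (Λ k) := by
    rintro p hp _ ⟨h, hh, x', hx', c, hc, rfl⟩
    exact ⟨p * h, D.ΛP₁ k p hp h hh, x', hx', c, hc, by group⟩
  have hle : P₀ ⊔ P₁ = X ⊔ P₁ := by
    rw [D.P₀_eq, sup_assoc, sup_eq_right.2 D.BP₁]
  rw [hle, Subgroup.sup_eq_closure] at hg
  induction hg using Subgroup.closure_induction_left with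
  | one => intro a ha; rwa [one_mul]
  | mul_left a ha b hb ih =>
    intro z hz
    rw [mul_assoc]
    rcases ha with ha | ha
    · exact hX a ha _ (ih z hz)
    · exact hP a ha _ (ih z hz)
  | inv_mul_cancel a ha b hb ih =>
    intro z hz
    rw [mul_assoc]
    rcases ha with ha | ha
    · exact hX _ (inv_mem ha) _ (ih z hz)
    · exact hP _ (inv_mem ha) _ (ih z hz)

/-- an element of `C` which moves a point `≠ R` of `V` to a point of `V` lies in `N` -/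
theorem mem_N {g x : G} (hg : g ∈ C) (hx : x ∈ X) {c : G} (hc : c ∈ C) (e : g * n = x * c) : g ∈ N := by
  have hxC : x ∉ C := by
    intro hcon
    apply D.nC
    have e2 : n = g⁻¹ * (x * c) := by rw [← e]; group
    rw [e2]; exact mul_mem (inv_mem hg) (mul_mem hcon hc)
  obtain ⟨a, ha, c', hc', rfl⟩ := D.Xtr x hx hxC
  rw [mem_inf] at ha
  have h1 := D.two (a⁻¹ * g) (mul_mem (inv_mem ha.2) hg) (by
    have e2 : n⁻¹ * (a⁻¹ * g) * n = c' * c := by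
      calc n⁻¹ * (a⁻¹ * g) * n = n⁻¹ * a⁻¹ * (g * n) := by group
        _ = n⁻¹ * a⁻¹ * (a * n * c' * c) := by rw [e]
        _ = c' * c := by group
    rw [e2]; exact mul_mem hc' hc)
  have e3 : g = a * (a⁻¹ * g) := by group
  rw [e3]; exact mul_mem (D.XN ha.1) h1

/-- `(z, points of F_k)` determines `F_k` -/
theorem mem_of_pt (k : K) {g : G} (hg : g ∈ C) (hgn : g * n ∈ Pt C X (Λ k)) : g ∈ Λ k := by
  obtain ⟨h, hh, x, hx, c, hc, e⟩ := hgn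
  have h1 : h⁻¹ * g ∈ N := by
    apply D.mem_N (mul_mem (inv_mem (D.ΛC k hh)) hg) hx hc
    calc h⁻¹ * g * n = h⁻¹ * (g * n) := by group
      _ = h⁻¹ * (h * x * c) := by rw [e]
      _ = x * c := by group
  have := D.Λmul k h hh (h⁻¹ * g) (mul_mem (inv_mem (D.ΛC k hh)) hg) h1
  rwa [mul_inv_cancel_left] at this

theorem mem_B {g : G} (hg : g ∈ P₀ ⊔ P₁) (hC : g ∈ C) (hN : g ∈ N) : g ∈ B := by
  apply D.stab g hC hN
  intro k h hh
  apply D.mem_of_pt k (mul_mem hC (D.ΛC k hh))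
  have h1 : h * n ∈ Pt C X (Λ k) := ⟨h, hh, n, D.nX, 1, one_mem _, by group⟩
  rw [mul_assoc]
  exact D.smul_pt k hg _ h1

theorem mem_pt {g : G} (hg : g ∈ P₀ ⊔ P₁) : g ∈ Pt C X (Λ k₀) := by
  have h1 : (1 : G) ∈ Pt C X (Λ k₀) := ⟨1, D.one, 1, one_mem _, 1, one_mem _, by group⟩
  have := D.smul_pt k₀ hg _ h1
  rwa [mul_one] at this

/-- the lines through the base point -/
theorem line_base {g : G} (hg : g ∈ P₀ ⊔ P₁) (hC : g ∈ C) : ∃ p ∈ P₁, p⁻¹ * g ∈ N := by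
  have h1 := D.mem_pt (mul_mem hg (mem_sup_left (D.XP₀ D.nX)))
  exact D.Λtr g (D.mem_of_pt k₀ hC h1)

/-- join -/
theorem join {g : G} (hg : g ∈ P₀ ⊔ P₁) : ∃ p ∈ P₁, ∃ x ∈ X, ∃ c ∈ C, g = p * x * c := by
  obtain ⟨h, hh, x, hx, c, hc, rfl⟩ := D.mem_pt hg
  obtain ⟨p, hp, hm⟩ := D.Λtr h hh
  obtain ⟨x', hx', c', hc', e⟩ := D.NX _ (mul_mem hm (D.XN hx))
  refine ⟨p, hp, x', hx', c' * c, mul_mem hc' hc, ?_⟩
  calc h * x * c = p * (p⁻¹ * h * x) * c := by group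
    _ = p * (x' * c') * c := by rw [e]
    _ = _ := by group

omit D in
/-- the points -/
def pts (C Γ : Subgroup G) : Set (G ⧸ C) := {p | ∃ g ∈ Γ, p = (g : G ⧸ C)}

omit D in
/-- incidence -/
def inc (C N Γ : Subgroup G) (p : G ⧸ C) (l : G ⧸ N) : Prop := ∃ g ∈ Γ, p = (g : G ⧸ C) ∧ l = (g : G ⧸ N)

omit D in
theorem smul_mk {H : Subgroup G} (g x : G) : g • (x : G ⧸ H) = ((g * x : G) : G ⧸ H) := rfl

/-- a point `gC` on a line `hN`, brought into the form `g' x C`, `g' N`  -/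
theorem flags : Flags B P₀ P₁ (pts C (P₀ ⊔ P₁)) (pts N (P₀ ⊔ P₁)) (inc C N (P₀ ⊔ P₁)) ((1 : G) : G ⧸ C)
    ((1 : G) : G ⧸ N) where
  hp := ⟨1, one_mem _, rfl⟩
  hl := ⟨1, one_mem _, rfl⟩
  hpl := ⟨1, one_mem _, rfl, rfl⟩
  Bi := D.BP₀
  Bj := D.BP₁
  pts := by
    rintro g hg _ ⟨a, ha, rfl⟩
    refine ⟨g * a, mul_mem ?_ ha, rfl⟩
    exact hg.elim (fun h => mem_sup_left h) fun h => mem_sup_right h
  lns := by
    rintro g hg _ ⟨a, ha, rfl⟩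
    refine ⟨g * a, mul_mem ?_ ha, rfl⟩
    exact hg.elim (fun h => mem_sup_left h) fun h => mem_sup_right h
  inc' := by
    rintro g hg _ - _ - ⟨a, ha, rfl, rfl⟩
    refine ⟨g * a, mul_mem ?_ ha, rfl, rfl⟩
    exact hg.elim (fun h => mem_sup_left h) fun h => mem_sup_right h
  fixl g hg := by
    rw [smul_mk, mul_one, QuotientGroup.eq, mul_one]
    exact inv_mem (D.P₀N hg)
  fixp g hg := by
    rw [smul_mk, mul_one, QuotientGroup.eq, mul_one]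
    exact inv_mem (D.P₁C hg)
  trp := by
    rintro _ - ⟨g, hg, rfl, h⟩
    rw [QuotientGroup.eq, inv_one, one_mul] at h
    obtain ⟨x, hx, c, hc, rfl⟩ := D.NX g h
    refine ⟨x, D.XP₀ hx, ?_⟩
    rw [smul_mk, mul_one, QuotientGroup.eq, inv_mul_cancel_left]
    exact hc
  trl := by
    rintro _ - ⟨g, hg, h, rfl⟩
    rw [QuotientGroup.eq, inv_one, one_mul] at h
    obtain ⟨p, hp, hm⟩ := D.line_base hg h
    refine ⟨p, hp, ?_⟩
    rw [smul_mk, mul_one, QuotientGroup.eq]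
    exact hm
  stab g hg h1 h2 := by
    rw [smul_mk, mul_one, QuotientGroup.eq, mul_one] at h1 h2
    exact D.mem_B hg (by simpa using inv_mem h1) (by simpa using inv_mem h2)

/-- two points on a line -/
theorem pair {p p' : G ⧸ C} {l : G ⧸ N} (h : inc C N (P₀ ⊔ P₁) p l) (h' : inc C N (P₀ ⊔ P₁) p' l) (hne : p ≠ p') :
    ∃ g ∈ P₀ ⊔ P₁, p = (g : G ⧸ C) ∧ p' = ((g * n : G) : G ⧸ C) ∧ l = (g : G ⧸ N) := by
  obtain ⟨a, ha, rfl, rfl⟩ := h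
  obtain ⟨b, hb, rfl, hl⟩ := h'
  rw [QuotientGroup.eq] at hl
  obtain ⟨x, hx, c, hc, e⟩ := D.NX _ hl
  have hxC : x ∉ C := by
    intro hcon
    apply hne
    rw [QuotientGroup.eq, e]
    exact mul_mem hcon hc
  obtain ⟨u, hu, c', hc', rfl⟩ := D.Xtr x hx hxC
  rw [mem_inf] at hu
  refine ⟨a * u, mul_mem ha (mem_sup_left (D.XP₀ hu.1)), ?_, ?_, ?_⟩
  · rw [QuotientGroup.eq, inv_mul_cancel_left]; exact hu.2
  · rw [eq_comm, QuotientGroup.eq]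
    have e2 : (a * u * n)⁻¹ * b = c' * c := by
      calc (a * u * n)⁻¹ * b = (u * n)⁻¹ * (a⁻¹ * b) := by group
        _ = (u * n)⁻¹ * (u * n * c' * c) := by rw [e]
        _ = c' * c := by group
    rw [e2]; exact mul_mem hc' hc
  · rw [QuotientGroup.eq, inv_mul_cancel_left]; exact D.XN hu.1

theorem unique {p p' : G ⧸ C} (hne : p ≠ p') {l l' : G ⧸ N} (h1 : inc C N (P₀ ⊔ P₁) p l)
    (h2 : inc C N (P₀ ⊔ P₁) p' l) (h3 : inc C N (P₀ ⊔ P₁) p l') (h4 : inc C N (P₀ ⊔ P₁) p' l') : l = l' := by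
  obtain ⟨a, ha, rfl, rfl, rfl⟩ := D.pair h1 h2 hne
  obtain ⟨b, hb, h5, h6, rfl⟩ := D.pair h3 h4 hne
  rw [QuotientGroup.eq] at h5 h6 ⊢
  apply D.two _ h5
  have e : n⁻¹ * (a⁻¹ * b) * n = (a * n)⁻¹ * (b * n) := by group
  rw [e]; exact h6

theorem exists_line {p p' : G ⧸ C} (hp : p ∈ pts C (P₀ ⊔ P₁)) (hp' : p' ∈ pts C (P₀ ⊔ P₁)) :
    ∃ l ∈ pts N (P₀ ⊔ P₁), inc C N (P₀ ⊔ P₁) p l ∧ inc C N (P₀ ⊔ P₁) p' l := by
  obtain ⟨a, ha, rfl⟩ := hp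
  obtain ⟨b, hb, rfl⟩ := hp'
  obtain ⟨q, hq, x, hx, c, hc, e⟩ := D.join (mul_mem (inv_mem ha) hb)
  have haq : a * q ∈ P₀ ⊔ P₁ := mul_mem ha (mem_sup_right hq)
  refine ⟨((a * q : G) : G ⧸ N), ⟨_, haq, rfl⟩, ⟨a * q, haq, ?_, rfl⟩,
    ⟨a * q * x, mul_mem haq (mem_sup_left (D.XP₀ hx)), ?_, ?_⟩⟩
  · rw [QuotientGroup.eq, inv_mul_cancel_left]; exact D.P₁C hq
  · rw [eq_comm, QuotientGroup.eq]
    have e2 : (a * q * x)⁻¹ * b = c := by
      calc (a * q * x)⁻¹ * b = (q * x)⁻¹ * (a⁻¹ * b) := by group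
        _ = (q * x)⁻¹ * (q * x * c) := by rw [e]
        _ = c := by group
    rw [e2]; exact hc
  · rw [QuotientGroup.eq, inv_mul_cancel_left]; exact D.XN hx

/-- the number of the points on the base line -/
theorem card_points [Finite G] : {p | inc C N (P₀ ⊔ P₁) p ((1 : G) : G ⧸ N)}.ncard = B.relIndex P₀ := by
  classical
  let f : P₀ → G ⧸ C := fun g => ((g : G) : G ⧸ C)
  have hr : {p | inc C N (P₀ ⊔ P₁) p ((1 : G) : G ⧸ N)} = Set.range f := by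
    ext p
    constructor
    · rintro ⟨g, hg, rfl, h⟩
      obtain ⟨x, hx, h⟩ := D.flags.trp (g : G ⧸ C) ⟨g, hg, rfl⟩ ⟨g, hg, rfl, h⟩
      exact ⟨⟨x, hx⟩, by rw [← h, smul_mk, mul_one]⟩
    · rintro ⟨g, rfl⟩
      refine ⟨g, mem_sup_left g.2, rfl, ?_⟩
      rw [QuotientGroup.eq, inv_one, one_mul]; exact D.P₀N g.2
  rw [hr, Subgroup.relIndex, Subgroup.index, ← Nat.card_coe_set_eq]
  refine (Nat.card_congr (Equiv.ofBijective (Quotient.lift (fun g : P₀ => (⟨f g, g, rfl⟩ : Set.range f)) ?_)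
    ⟨?_, ?_⟩)).symm
  · intro a b hab
    have hab : a⁻¹ * b ∈ B.subgroupOf P₀ := QuotientGroup.leftRel_apply.1 hab
    rw [Subgroup.mem_subgroupOf] at hab
    exact Subtype.ext (QuotientGroup.eq.2 (D.BC hab))
  · intro a b
    induction a using QuotientGroup.induction_on with
    | H a =>
    induction b using QuotientGroup.induction_on with
    | H b =>
    intro h
    have h1 : f a = f b := congrArg Subtype.val h
    have h1 : (a : G)⁻¹ * b ∈ C := QuotientGroup.eq.1 h1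
    rw [QuotientGroup.eq, Subgroup.mem_subgroupOf]
    exact D.mem_B (mem_sup_left (a⁻¹ * b : P₀).2) h1 (D.P₀N (a⁻¹ * b : P₀).2)
  · rintro ⟨_, g, rfl⟩
    exact ⟨(g : P₀ ⧸ B.subgroupOf P₀), rfl⟩

/-- the number of the lines through the base point -/
theorem card_lines [Finite G] : {l | inc C N (P₀ ⊔ P₁) ((1 : G) : G ⧸ C) l}.ncard = B.relIndex P₁ := by
  classical
  let f : P₁ → G ⧸ N := fun g => ((g : G) : G ⧸ N)
  have hr : {l | inc C N (P₀ ⊔ P₁) ((1 : G) : G ⧸ C) l} = Set.range f := by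
    ext p
    constructor
    · rintro ⟨g, hg, h, rfl⟩
      obtain ⟨x, hx, h⟩ := D.flags.trl (g : G ⧸ N) ⟨g, hg, rfl⟩ ⟨g, hg, h, rfl⟩
      exact ⟨⟨x, hx⟩, by rw [← h, smul_mk, mul_one]⟩
    · rintro ⟨g, rfl⟩
      refine ⟨g, mem_sup_right g.2, ?_, rfl⟩
      rw [QuotientGroup.eq, inv_one, one_mul]; exact D.P₁C g.2
  rw [hr, Subgroup.relIndex, Subgroup.index, ← Nat.card_coe_set_eq]
  refine (Nat.card_congr (Equiv.ofBijective (Quotient.lift (fun g : P₁ => (⟨f g, g, rfl⟩ : Set.range f)) ?_)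
    ⟨?_, ?_⟩)).symm
  · intro a b hab
    have hab : a⁻¹ * b ∈ B.subgroupOf P₁ := QuotientGroup.leftRel_apply.1 hab
    rw [Subgroup.mem_subgroupOf] at hab
    exact Subtype.ext (QuotientGroup.eq.2 (D.BN hab))
  · intro a b
    induction a using QuotientGroup.induction_on with
    | H a =>
    induction b using QuotientGroup.induction_on with
    | H b =>
    intro h
    have h1 : f a = f b := congrArg Subtype.val h
    have h1 : (a : G)⁻¹ * b ∈ N := QuotientGroup.eq.1 h1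
    rw [QuotientGroup.eq, Subgroup.mem_subgroupOf]
    exact D.mem_B (mem_sup_right (a⁻¹ * b : P₁).2) (D.P₁C (a⁻¹ * b : P₁).2) h1
  · rintro ⟨_, g, rfl⟩
    exact ⟨(g : P₁ ⧸ B.subgroupOf P₁), rfl⟩

omit D in
theorem inc_smul {Γ : Subgroup G} {g : G} (hg : g ∈ Γ) {p : G ⧸ C} {l : G ⧸ N} :
    inc C N Γ (g • p) (g • l) ↔ inc C N Γ p l := by
  constructor
  · rintro ⟨a, ha, h1, h2⟩
    refine ⟨g⁻¹ * a, mul_mem (inv_mem hg) ha, ?_, ?_⟩
    · rw [← smul_mk, ← h1, inv_smul_smul]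
    · rw [← smul_mk, ← h2, inv_smul_smul]
  · rintro ⟨a, ha, rfl, rfl⟩
    exact ⟨g * a, mul_mem hg ha, rfl, rfl⟩

/-- the number of the lines through a point -/
theorem card_lines' [Finite G] {p : G ⧸ C} (hp : p ∈ pts C (P₀ ⊔ P₁)) :
    {l | inc C N (P₀ ⊔ P₁) p l}.ncard = B.relIndex P₁ := by
  obtain ⟨g, hg, rfl⟩ := hp
  rw [← D.card_lines]
  have e : {l : G ⧸ N | inc C N (P₀ ⊔ P₁) ((g : G) : G ⧸ C) l} =
      (fun l => g • l) '' {l | inc C N (P₀ ⊔ P₁) ((1 : G) : G ⧸ C) l} := by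
    ext l
    constructor
    · intro h
      have h : inc C N (P₀ ⊔ P₁) ((g : G) : G ⧸ C) l := h
      refine ⟨g⁻¹ • l, ?_, smul_inv_smul _ _⟩
      have h1 := (inc_smul (C := C) (N := N) (inv_mem hg)).2 h
      rw [smul_mk, inv_mul_cancel] at h1
      exact h1
    · rintro ⟨l, h, rfl⟩
      have h1 := (inc_smul (C := C) (N := N) hg).2 h
      rw [smul_mk, mul_one] at h1
      exact h1
  rw [e, Set.ncard_image_of_injective _ (MulAction.injective g)]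

/-- two lines meet -/
theorem exists_point [Finite G] {l l' : G ⧸ N} (hl : l ∈ pts N (P₀ ⊔ P₁)) (hl' : l' ∈ pts N (P₀ ⊔ P₁)) :
    ∃ p ∈ pts C (P₀ ⊔ P₁), inc C N (P₀ ⊔ P₁) p l ∧ inc C N (P₀ ⊔ P₁) p l' := by
  classical
  -- it is enough to consider the base line
  suffices hmain : ∀ l' ∈ pts N (P₀ ⊔ P₁), ∃ p ∈ pts C (P₀ ⊔ P₁),
      inc C N (P₀ ⊔ P₁) p ((1 : G) : G ⧸ N) ∧ inc C N (P₀ ⊔ P₁) p l' by
    obtain ⟨g, hg, rfl⟩ := hl
    obtain ⟨g', hg', rfl⟩ := hl'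
    obtain ⟨p, ⟨a, ha, rfl⟩, h1, h2⟩ := hmain ((g⁻¹ * g' : G) : G ⧸ N) ⟨_, mul_mem (inv_mem hg) hg', rfl⟩
    refine ⟨g • (a : G ⧸ C), ⟨g * a, mul_mem hg ha, rfl⟩, ?_, ?_⟩
    · have := (inc_smul (C := C) (N := N) hg).2 h1
      rwa [smul_mk (H := N), mul_one] at this
    · have := (inc_smul (C := C) (N := N) hg).2 h2
      rwa [smul_mk (H := N), mul_inv_cancel_left] at this
  rintro _ ⟨g, hg, rfl⟩
  set Γ := P₀ ⊔ P₁ with hΓ
  by_cases hon : inc C N Γ ((g : G) : G ⧸ C) ((1 : G) : G ⧸ N)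
  · exact ⟨_, ⟨g, hg, rfl⟩, hon, ⟨g, hg, rfl, rfl⟩⟩
  -- the lines joining the point `g C` to the points of the base line
  have hch : ∀ z : {z | inc C N Γ z ((1 : G) : G ⧸ N)}, ∃ l ∈ pts N Γ, inc C N Γ (z : G ⧸ C) l ∧
      inc C N Γ ((g : G) : G ⧸ C) l := by
    rintro ⟨z, a, ha, rfl, h⟩
    exact D.exists_line ⟨a, ha, rfl⟩ ⟨g, hg, rfl⟩
  choose F hF1 hF2 hF3 using hch
  have hinj : Function.Injective F := by
    rintro ⟨z, hz⟩ ⟨z', hz'⟩ h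
    by_contra hne
    have hne : z ≠ z' := fun h => hne (Subtype.ext h)
    have h1 := hF2 ⟨z, hz⟩
    have h2 := hF2 ⟨z', hz'⟩
    rw [← h] at h2
    have h3 := D.unique hne h1 h2 hz hz'
    have h4 := hF3 ⟨z, hz⟩
    rw [h3] at h4
    exact hon h4
  have hsub : Set.range F ⊆ {l | inc C N Γ ((g : G) : G ⧸ C) l} := by
    rintro _ ⟨z, rfl⟩
    exact hF3 z
  have hcard : (Set.range F).ncard = {l | inc C N Γ ((g : G) : G ⧸ C) l}.ncard := by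
    rw [D.card_lines' ⟨g, hg, rfl⟩, ← D.card, ← D.card_points, ← Nat.card_coe_set_eq, ← Nat.card_coe_set_eq]
    exact (Nat.card_congr (Equiv.ofInjective F hinj)).symm
  have heq := Set.eq_of_subset_of_ncard_le hsub hcard.ge (Set.toFinite _)
  have h1 : ((g : G) : G ⧸ N) ∈ {l | inc C N Γ ((g : G) : G ⧸ C) l} := ⟨g, hg, rfl, rfl⟩
  rw [← heq] at h1
  obtain ⟨⟨z, hz⟩, h2⟩ := h1
  have h3 := hF2 ⟨z, hz⟩
  rw [h2] at h3
  obtain ⟨a, ha, rfl, h4⟩ := hz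
  exact ⟨_, ⟨a, ha, rfl⟩, ⟨a, ha, rfl, h4⟩, h3⟩

/-- **the residue `{0, 1}` is a projective plane** -/
theorem gpp [Finite G] {I : Type*} {P : I → Subgroup G} (hBP : ∀ i, B ≤ P i) {i j : I} (hij : i ≠ j) (hi : P i = P₀)
    (hj : P j = P₁) : GPp B P i j 3 ∧ GPp B P j i 3 := by
  subst hi hj
  refine D.flags.gpp_three hBP hij ?_ ?_ ?_
  · intro p hp p' hp' _
    exact D.exists_line hp hp'
  · intro p _ p' _ hne l _ l' _ h1 h2 h3 h4
    exact D.unique hne h1 h2 h3 h4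
  · intro l hl l' hl' _
    exact D.exists_point hl hl'

end Plane

end Cfsg.Agent.Omega.NO1U
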