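import Cfsg.Agent.Omega.NO1U.PlaneBase
import Cfsg.Agent.Omega.NO1U.Plane

/-!
# NO-1' (β), closing, residue `{0, 1}`: the instances of `Line` and `Plane`

`XD.line` : `Lam (span {e₀, m})` is a `Line`; `XD.invL` : the points of every totally isotropic `L ∋ e₀` are invariant
under `X`; `XD.two` : two points are on at most one line; `XD.plane` : the structure `Plane`.
-/

set_option autoImplicit false
set_option linter.unusedVariables false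
set_option linter.unusedSectionVars false

open Subgroup
open scoped Pointwise
open Cfsg.Agent.Omega.NO1.Beta.Meet Cfsg.Agent.Omega.NOne.SU

namespace Cfsg.Agent.Omega.NO1U

universe u

variable {G : Type u} [Group G] {k F : Type*} [Field k] [Field F] [Algebra k F] {T : Quad k F} {S : Sylow 2 G}
  {I : Type*} {V : Subgroup G} {Rf Qf : I → Subgroup G} {i j : I} {v : k → F → k → G} {p p' : G → F}
  {Φ : Type*} [AddCommGroup Φ] [Module F Φ] {φ χ : G → Φ} {hm : Φ → Φ → F}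
  {W : Type*} [AddCommGroup W] [Module F W] {w : G → W} {g : W → W → F} {f₀ : W} {ι : Φ →ₗ[F] W}

namespace XD

variable (D : XD T S V Rf Qf i j v p p' φ χ) (o : Out T V (Rf i) (Qf i) (Qf j) v p φ χ hm w g f₀ ι)
include D

theorem hpts : ∀ m ∈ normalizer (V : Set G), (∀ d, ∃ a, m * v 0 0 d * m⁻¹ = v a 0 0) ∨
      ∃ y ∈ Qf i, ∀ d, ∃ d', m * v 0 0 d * m⁻¹ = y * v 0 0 d' * y⁻¹ := by
  intro m hm
  obtain ⟨l, h1, -⟩ := D.permN hm j
  by_cases hl : l = i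
  · left
    intro d
    have h2 : m * v 0 0 d * m⁻¹ ∈ Rf l := by
      rw [← h1]
      exact conj_mem_cj ((D.Rj _).2 ⟨d, rfl⟩)
    rw [hl] at h2
    exact (GEnd.mem_R D.g _).1 h2
  · right
    obtain ⟨y, hy, h2⟩ := D.M.tran i j l D.ne.symm hl
    refine ⟨y, hy, fun d => ?_⟩
    have h3 : m * v 0 0 d * m⁻¹ ∈ Rf l := by
      rw [← h1]
      exact conj_mem_cj ((D.Rj _).2 ⟨d, rfl⟩)
    rw [← h2, mem_cj] at h3
    obtain ⟨d', hd'⟩ := (D.Rj _).1 h3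
    refine ⟨d', ?_⟩
    rw [← hd']; group

include o

/-- `X ∩ N(R)` preserves every subspace `L`, `e₀ ∈ L ≤ e₀^⊥` -/
theorem lam_X {L : Submodule F W} (hL : w (v 0 1 0) ∈ L) (hiso : ∀ x ∈ L, ∀ y ∈ L, g x y = 0) {x h : G}
    (hx : x ∈ Qf i ⊔ Qf j) (hxR : x ∈ normalizer (Rf i : Set G)) (hh : h ∈ Lam (Rf i) v w L) :
    x * h ∈ Lam (Rf i) v w L := by
  refine ⟨mul_mem hxR hh.1, fun b => ?_⟩
  obtain ⟨s, -, hs⟩ := D.scal hx hxR
  set y := h * v 0 b 0 * h⁻¹ with hy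
  have hyQ : y ∈ Qf i := D.g.nor h hh.1 _ (D.g.E_le 0 b)
  have hyL : w y ∈ L := hh.2 b
  have hyV : y ∈ centralizer (V : Set G) := (OutL.mem_CV_iff D.g o hyQ).2 (hiso _ hyL _ hL)
  obtain ⟨a, ha⟩ := o.φ_eq y hyQ hyV
  obtain ⟨h1, h2⟩ := hs y (mem_inf.2 ⟨hyQ, hyV⟩)
  obtain ⟨a', ha'⟩ := o.φ_eq _ h1.1 h1.2
  have e : x * h * v 0 b 0 * (x * h)⁻¹ = x * y * x⁻¹ := by rw [hy]; group
  rw [e, ha', h2]
  have e2 : ι (φ y) = w y - a • w (v 0 1 0) := by rw [ha]; abel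
  rw [map_smul, e2]
  exact add_mem (L.smul_mem _ (sub_mem hyL (L.smul_mem _ hL))) (L.smul_mem _ hL)

/-- **the instance of `Line`** -/
theorem line {n : G} (hn : cj n (Rf i) = Rf j) {m : W} (hme : g m (w (v 0 1 0)) = 0) (hmm : g m m = 0) :
    Line (Rf i) V (Qf i ⊔ Qf j) (Qf i) (YY V Qf i j) n (Lam (Rf i) v w (Submodule.span F {w (v 0 1 0), m})) := by
  have hL : w (v 0 1 0) ∈ Submodule.span F {w (v 0 1 0), m} := Submodule.subset_span (by simp)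
  have hem : g (w (v 0 1 0)) m = 0 := OutL.g_swap D.g o hme
  have hiso : ∀ x ∈ Submodule.span F {w (v 0 1 0), m}, ∀ y ∈ Submodule.span F {w (v 0 1 0), m}, g x y = 0 := by
    intro x hx y hy
    obtain ⟨a, b, rfl⟩ := Submodule.mem_span_pair.1 hx
    obtain ⟨a', b', rfl⟩ := Submodule.mem_span_pair.1 hy
    rw [o.g_add, OutL.g_add' D.g o, OutL.g_add' D.g o, OutL.g_smul' D.g o, OutL.g_smul' D.g o, OutL.g_smul' D.g o,
      OutL.g_smul' D.g o, o.g_smul, o.g_smul, o.g_smul, o.g_smul, o.g_ee, hme, hmm, hem]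
    ring
  have hYg := Yg_eq (i := i) (j := j) D.M D.ne
  refine ⟨OutL.lam_one D.g o hL, fun c hc => hc.1, fun h hh m hm hmN => OutL.lam_mul D.g o hh hm hmN,
    fun x hx hxR h hh => D.lam_X o hL hiso hx hxR hh, ?_, ?_, ?_, ?_⟩
  · intro h hh hN h' hh' hN'
    rw [← hYg]
    exact OutL.Ytr D.g o D.f hme hmm hh hN hh' hN'
  · intro h hh hN x hx
    exact OutL.cen D.g o hL hiso D.hpts hh hx
  · intro h hh hN u hu
    rw [← hYg]
    exact OutL.cov D.g o hL hiso hh hN hu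
  · intro h hh hN r hr hY
    have h1 : n * r * n⁻¹ ∈ Rf j := by
      rw [← hn]; exact conj_mem_cj hr
    obtain ⟨d, hd⟩ := (D.Rj _).1 h1
    rw [hd, ← hYg] at hY
    have h2 := OutL.disj D.g o hL hiso hh hN hY
    rw [h2, GEnd.v_zero D.g] at hd
    calc r = n⁻¹ * (n * r * n⁻¹) * n := by group
      _ = 1 := by rw [hd]; group

/-- **the points of `L` are invariant under `X`** -/
theorem invL [Finite G] {T₀ : Subgroup G} {n : G}
    (B : Base (Rf i) V (Qf i ⊔ Qf j) (Qf i) (YY V Qf i j) T₀ n) (hn : cj n (Rf i) = Rf j)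
    {L : Submodule F W} (hL : w (v 0 1 0) ∈ L) (hiso : ∀ x ∈ L, ∀ y ∈ L, g x y = 0) :
    ∀ x ∈ Qf i ⊔ Qf j, ∀ h ∈ Lam (Rf i) v w L, ∀ x' ∈ Qf i ⊔ Qf j, ∃ h' ∈ Lam (Rf i) v w L,
      ∃ x'' ∈ Qf i ⊔ Qf j, ∃ c ∈ normalizer (Rf i : Set G), x * (h * x') = h' * x'' * c := by
  intro x hx h hh x' hx'
  by_cases hN : h ∈ normalizer (V : Set G)
  · obtain ⟨x'', hx'', c, hc, e⟩ := B.NX _ (mul_mem (B.XN hx) (mul_mem hN (B.XN hx')))
    exact ⟨1, OutL.lam_one D.g o hL, x'', hx'', c, hc, by rw [e, one_mul]⟩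
  · obtain ⟨m, hmL, hne, h1, h2⟩ := OutL.pointL D.g o hL hiso hh hN
    have hle : Submodule.span F {w (v 0 1 0), m} ≤ L := by
      rw [Submodule.span_le]
      rintro z (rfl | rfl)
      · exact hL
      · exact hmL
    have hh' : h ∈ Lam (Rf i) v w (Submodule.span F {w (v 0 1 0), m}) := by
      refine ⟨hh.1, fun b => ?_⟩
      obtain ⟨s, hs⟩ := h1 b
      rw [hs]
      exact Submodule.smul_mem _ _ (Submodule.subset_span (by simp))
    have hl := D.line o hn (hiso m hmL _ hL) (hiso m hmL _ hmL)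
    obtain ⟨h', hh'', x'', hx'', c, hc, e⟩ := B.inv hl hx (g := h * x') ⟨h, hh', x', hx', 1, one_mem _, by group⟩
    exact ⟨h', ⟨hh''.1, fun b => hle (hh''.2 b)⟩, x'', hx'', c, hc, e⟩

/-- **two points are on at most one line** -/
theorem two {n : G} (hn : cj n (Rf i) = Rf j) {c : G} (hc : c ∈ normalizer (Rf i : Set G))
    (hc' : n⁻¹ * c * n ∈ normalizer (Rf i : Set G)) : c ∈ normalizer (V : Set G) := by
  have hcj : cj c (Rf j) = Rf j := by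
    have h1 := cj_of_mem_normalizer hc'
    calc cj c (Rf j) = cj (n * (n⁻¹ * c * n)) (Rf i) := by
          rw [← hn, ← cj_mul]; congr 1; group
      _ = Rf j := by rw [cj_mul, h1, hn]
  apply o.stab c hc
  obtain ⟨y, hy, hy1⟩ := D.g.p_surj 1
  have h1 := D.g.act y hy 0 0 1
  have h2 : c * v 0 0 1 * c⁻¹ ∈ Rf j := by
    rw [← hcj]; exact conj_mem_cj ((D.Rj _).2 ⟨1, rfl⟩)
  obtain ⟨d, hd⟩ := (D.Rj _).1 h2
  have hcy : c * y * c⁻¹ ∈ Qf i := D.g.nor c hc y hy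
  have h3 := D.g.act _ hcy 0 0 d
  -- `[y, v 0 0 1] = v a₀ 1 0`
  have e1 : y * v 0 0 1 * y⁻¹ * (v 0 0 1)⁻¹ = v (T.nm 1) 1 0 := by
    rw [h1, hy1, mul_inv_eq_iff_eq_mul, ← D.g.v_add]
    simp
  have e2 : c * y * c⁻¹ * v 0 0 d * (c * y * c⁻¹)⁻¹ * (v 0 0 d)⁻¹ =
      v (T.nm (p (c * y * c⁻¹)) * d) (p (c * y * c⁻¹) * algebraMap k F d) 0 := by
    rw [h3, mul_inv_eq_iff_eq_mul, ← D.g.v_add]
    simp
  have e3 : c * v (T.nm 1) 1 0 * c⁻¹ = v (T.nm (p (c * y * c⁻¹)) * d) (p (c * y * c⁻¹) * algebraMap k F d) 0 := by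
    rw [← e1, ← e2, ← hd]; group
  refine ⟨p (c * y * c⁻¹) * algebraMap k F d, ?_⟩
  rw [← OutL.w_conj_E D.g o hc (T.nm 1) 1, e3, OutL.w_E D.g o]

/-- every singular vector of `L` lies in some `h e₀`, `h ∈ Lam L` -/
theorem lam_vec {L : Submodule F W} {m : W} (hm0 : m ≠ 0) (hmL : m ∈ L) (hmm : g m m = 0) :
    ∃ h ∈ Lam (Rf i) v w L, ∃ b, w (h * v 0 b 0 * h⁻¹) = m := by
  obtain ⟨c, hc, h1, -, s, hs⟩ := o.tran m hm0 hmm
  have hcR := D.g.CR_le_NR hc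
  have h2 : ∀ b, w (c * v 0 b 0 * c⁻¹) = b • s • m := by
    intro b
    rw [← hs]
    exact h1 b _ (D.g.E_le 0 1) _ (D.g.E_le 0 b) (o.w_e b)
  have hs0 : s ≠ 0 := by
    rintro rfl
    obtain ⟨m', hm', h3, h4⟩ := OutL.point D.g o hcR
    obtain ⟨b, hb⟩ := h4 1
    rw [h2, one_smul, zero_smul, smul_zero] at hb
    exact hm' hb.symm
  refine ⟨c, ⟨hcR, fun b => ?_⟩, s⁻¹, ?_⟩
  · rw [h2]
    exact L.smul_mem _ (L.smul_mem _ hmL)
  · rw [h2, smul_smul, inv_mul_cancel₀ hs0, one_smul]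

/-- `c (Lam L) ≤ Lam L` means `c L ≤ L` -/
theorem lam_stab {L : Submodule F W} (hiso : ∀ x ∈ L, ∀ y ∈ L, g x y = 0) {c : G}
    (hc : c ∈ normalizer (Rf i : Set G)) : (∀ h ∈ Lam (Rf i) v w L, c * h ∈ Lam (Rf i) v w L) ↔
      ∀ y ∈ Qf i, w y ∈ L → w (c * y * c⁻¹) ∈ L := by
  constructor
  · intro h1 y hy hyL
    by_cases h0 : w y = 0
    · have h2 : w (c * y * c⁻¹) = w (c * 1 * c⁻¹) := by
        apply OutL.w_conj_congr D.g o hc hy (one_mem _)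
        rw [h0, OutL.w_one D.g o]
      have e : c * 1 * c⁻¹ = 1 := by group
      rw [h2, e, OutL.w_one D.g o]
      exact L.zero_mem
    · obtain ⟨h, hh, b, hb⟩ := D.lam_vec o h0 hyL (hiso _ hyL _ hyL)
      have h2 := (h1 h hh).2 b
      have e : c * h * v 0 b 0 * (c * h)⁻¹ = c * (h * v 0 b 0 * h⁻¹) * c⁻¹ := by group
      rw [e] at h2
      rwa [OutL.w_conj_congr D.g o hc hy (D.g.nor h hh.1 _ (D.g.E_le 0 b)) hb.symm]
  · intro h1 h hh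
    refine ⟨mul_mem hc hh.1, fun b => ?_⟩
    have e : c * h * v 0 b 0 * (c * h)⁻¹ = c * (h * v 0 b 0 * h⁻¹) * c⁻¹ := by group
    rw [e]
    exact h1 _ (D.g.nor h hh.1 _ (D.g.E_le 0 b)) (hh.2 b)

/-- **the instance of `Plane`**: `Lk k` (`k : K`) = the subspaces `F_2, ..., F_m` of the flag, `Lk k₀ = F_2` -/
theorem plane [Finite G] {K : Type*} {Lk : K → Submodule F W} {k₀ : K} {B P₀ P₁ : Subgroup G}
    (hL : ∀ k, w (v 0 1 0) ∈ Lk k) (hiso : ∀ k, ∀ x ∈ Lk k, ∀ y ∈ Lk k, g x y = 0)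
    (hBC : B ≤ normalizer (Rf i : Set G)) (hBV : B ≤ normalizer (V : Set G))
    (hP₀ : P₀ = (Qf i ⊔ Qf j) ⊔ B) (hBP₁ : B ≤ P₁) (hP₁C : P₁ ≤ normalizer (Rf i : Set G))
    (hP₁L : ∀ k, ∀ c ∈ P₁, ∀ y ∈ Qf i, w y ∈ Lk k → w (c * y * c⁻¹) ∈ Lk k)
    (htr : ∀ h ∈ Lam (Rf i) v w (Lk k₀), ∃ c ∈ P₁, c⁻¹ * h ∈ normalizer (V : Set G))
    (hst : ∀ c ∈ normalizer (Rf i : Set G), c ∈ normalizer (V : Set G) →
      (∀ k, ∀ y ∈ Qf i, w y ∈ Lk k → w (c * y * c⁻¹) ∈ Lk k) → c ∈ B)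
    (hcard : B.relIndex P₀ = B.relIndex P₁) :
    ∃ n, Plane (normalizer (Rf i : Set G)) (normalizer (V : Set G)) (Qf i ⊔ Qf j) B P₀ P₁ n
      (fun k => Lam (Rf i) v w (Lk k)) k₀ := by
  obtain ⟨T₀, n, Bs, hn, -⟩ := D.exists_base o
  refine ⟨n, ?_⟩
  exact
    { BC := hBC
      BN := hBV
      XN := Bs.XN
      P₀_eq := hP₀
      BP₁ := hBP₁
      P₁C := hP₁C
      nX := Bs.nX
      nC := Bs.nC
      NX := Bs.NX
      Xtr := fun x hx hxC => by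
        obtain ⟨u, hu, h⟩ := Bs.Qtr x hx hxC
        exact ⟨u, mem_inf.2 ⟨Bs.QX hu, Bs.QC hu⟩, _, h, by group⟩
      two := fun c hc hc' => D.two o hn hc hc'
      ΛC := fun k h hh => hh.1
      Λmul := fun k h hh m hm hmN => OutL.lam_mul D.g o hh hm hmN
      inv := fun k => D.invL o Bs hn (hL k) (hiso k)
      ΛP₁ := fun k c hc h hh => (D.lam_stab o (hiso k) (hP₁C hc)).2 (hP₁L k c hc) h hh
      one := OutL.lam_one D.g o (hL k₀)
      Λtr := htr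
      stab := fun c hc hcV h => hst c hc hcV fun k => (D.lam_stab o (hiso k) hc).1 (h k)
      card := hcard }

end XD

end Cfsg.Agent.Omega.NO1U
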