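import Cfsg.Agent.Omega.NO1U.XCor
import Cfsg.Agent.ParSys.RankTwo

/-!
# Node 0 of the parabolic system (closing of NO-1' (β), q ≥ 4)

`B` : a subgroup of `N(R) ∩ N(V)` which contains `X ∩ N(R)` (the stabiliser of a flag of `Q / R` which starts with
`e = (V ∩ Q) / R`), `P₀ = X B`, `U ⊴ B` with `Y ≤ U`, `U ≤ Q C(V)`.

* `Nd.inf` : `P₀ ∩ N(R) = B`; `Nd.card` : `|P₀ : B| = |F| + 1`;
* `Nd.digon`, `Nd.digon'` : the residues `(0, j)`, `j ≥ 2`;
* `Nd.pan`, `Nd.clo` : the fields `pan`, `clo` of `SysL` at node 0.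
-/

set_option autoImplicit false
set_option linter.unusedVariables false
set_option linter.unusedSectionVars false

open Subgroup
open Cfsg.Agent.Omega.NO1.Beta.Meet Cfsg.Agent.Omega.NOne.SU Cfsg.Agent.ParSys Cfsg.Agent.ParSys.RankTwo

namespace Cfsg.Agent.Omega.NO1U

universe u

variable {G : Type u} [Group G] {k F : Type*} [Field k] [Field F] [Algebra k F]
variable {T : Quad k F} {S : Sylow 2 G} {I : Type*} {V : Subgroup G} {Rf Qf : I → Subgroup G} {i j : I}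
  {v : k → F → k → G} {p p' : G → F} {Φ : Type*} [AddCommGroup Φ] [Module F Φ] {φ χ : G → Φ}

/-- any group between `X` and `N(V)` has `|F| + 1` cosets mod the stabiliser of `R` -/
theorem XD.relIndex' (D : XD T S V Rf Qf i j v p p' φ χ) {H : Subgroup G} (hX : Qf i ⊔ Qf j ≤ H)
    (hN : H ≤ normalizer (V : Set G)) : (normalizer (Rf i : Set G)).relIndex H = Nat.card F + 1 := by
  rw [← D.card_I, Subgroup.relIndex, Subgroup.index]
  have h1 : ∀ x : ↥H, ∃ l, cj (x : G) (Rf i) = Rf l := fun x => by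
    obtain ⟨l, h, -⟩ := D.permN (hN x.2) i
    exact ⟨l, h⟩
  choose f hf using h1
  refine Nat.card_congr (Equiv.ofBijective (Quotient.lift f ?_) ⟨?_, ?_⟩)
  · intro a b hab
    have h2 : (a : G)⁻¹ * b ∈ normalizer (Rf i : Set G) := by
      have := (QuotientGroup.leftRel_apply.mp hab)
      rw [mem_subgroupOf] at this
      exact this
    apply D.M.inj
    rw [← hf, ← hf]
    exact D.cj_Rf_eq.mpr h2
  · intro a b
    induction a using QuotientGroup.induction_on with | _ a => ?_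
    induction b using QuotientGroup.induction_on with | _ b => ?_
    intro hab
    change f a = f b at hab
    rw [QuotientGroup.eq, mem_subgroupOf]
    apply D.cj_Rf_eq.mp
    rw [hf, hf, hab]
  · intro l
    obtain ⟨x, hx, h2, -⟩ := D.tranX l
    refine ⟨((⟨x, hX hx⟩ : ↥H) : ↥H ⧸ _), D.M.inj _ _ ?_⟩
    change Rf (f ⟨x, hX hx⟩) = Rf l
    rw [← hf, h2]

/-- The data at node 0. -/
structure Nd (V : Subgroup G) (Rf Qf : I → Subgroup G) (i j : I) (B U : Subgroup G) : Prop where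
  BR : B ≤ normalizer (Rf i : Set G)
  BV : B ≤ normalizer (V : Set G)
  XB : (Qf i ⊔ Qf j) ⊓ normalizer (Rf i : Set G) ≤ B
  UB : U ≤ B
  nor : ∀ b ∈ B, ∀ u ∈ U, b⁻¹ * u * b ∈ U
  YU : YY V Qf i j ≤ U
  UQ : ∀ u ∈ U, ∃ y ∈ Qf i, y⁻¹ * u ∈ centralizer (V : Set G)

namespace Nd

variable {B U : Subgroup G} (D : XD T S V Rf Qf i j v p p' φ χ) (E : Nd V Rf Qf i j B U)
include D E

theorem mem {g : G} : g ∈ (Qf i ⊔ Qf j) ⊔ B ↔ ∃ x ∈ Qf i ⊔ Qf j, ∃ b ∈ B, g = x * b := by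
  constructor
  · intro hg
    rw [Subgroup.sup_eq_closure] at hg
    induction hg using Subgroup.closure_induction_left with
    | one => exact ⟨1, one_mem _, 1, one_mem _, by group⟩
    | mul_left a ha b hb ih =>
      obtain ⟨x, hx, c, hc, rfl⟩ := ih
      rcases ha with ha | ha
      · exact ⟨a * x, mul_mem ha hx, c, hc, by group⟩
      · exact ⟨a * x * a⁻¹, D.N_X (E.BV ha) hx, a * c, mul_mem ha hc, by group⟩
    | inv_mul_cancel a ha b hb ih =>
      obtain ⟨x, hx, c, hc, rfl⟩ := ih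
      rcases ha with ha | ha
      · exact ⟨a⁻¹ * x, mul_mem (inv_mem (S := Subgroup G) ha) hx, c, hc, by group⟩
      · have ha' : a⁻¹ ∈ B := B.inv_mem ha
        exact ⟨a⁻¹ * x * a⁻¹⁻¹, D.N_X (E.BV ha') hx, a⁻¹ * c, mul_mem ha' hc, by group⟩
  · rintro ⟨x, hx, b, hb, rfl⟩
    exact mul_mem (mem_sup_left hx) (mem_sup_right hb)

/-- `P₀ ∩ N(R) = B` -/
theorem inf : ((Qf i ⊔ Qf j) ⊔ B) ⊓ normalizer (Rf i : Set G) = B := by
  apply le_antisymm
  · intro g hg'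
    obtain ⟨hg, hR⟩ := mem_inf.mp hg'
    obtain ⟨x, hx, b, hb, rfl⟩ := (mem D E).mp hg
    have h1 : x ∈ normalizer (Rf i : Set G) := by
      have := mul_mem hR (inv_mem (E.BR hb))
      rwa [mul_inv_cancel_right] at this
    exact mul_mem (E.XB ⟨hx, h1⟩) hb
  · exact le_inf le_sup_right E.BR

/-- `|P₀ : B| = |F| + 1` -/
theorem card : B.relIndex ((Qf i ⊔ Qf j) ⊔ B) = Nat.card F + 1 := by
  have h1 := D.relIndex' (H := (Qf i ⊔ Qf j) ⊔ B) le_sup_left (sup_le (XD.X_le_N D.M) E.BV)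
  have h2 := Subgroup.inf_relIndex_right (normalizer (Rf i : Set G)) ((Qf i ⊔ Qf j) ⊔ B)
  rw [inf_comm, inf D E] at h2
  rw [h2, h1]

section digon

variable {J : Type*} {P : J → Subgroup G} {a b : J}

theorem digon (hP : ∀ c, B ≤ P c) (ha : P a = (Qf i ⊔ Qf j) ⊔ B) (hb : P b ≤ normalizer (V : Set G))
    (hb' : P b ≤ normalizer (Rf i : Set G)) : GPp B P a b 2 := by
  refine gpp_two hP ?_ ?_
  · intro x hx hx'
    rw [ha] at hx
    rw [← inf D E]
    exact ⟨hx, hb' hx'⟩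
  · intro x hx q hq
    rw [ha] at hx
    obtain ⟨y, hy, c, hc, rfl⟩ := (mem D E).mp hx
    refine ⟨c * q, mul_mem (hP b hc) hq, (c * q)⁻¹ * y * (c * q)⁻¹⁻¹, ?_, by group⟩
    rw [ha]
    exact mem_sup_left (D.N_X (inv_mem (mul_mem (E.BV hc) (hb hq))) hy)

theorem digon' (hP : ∀ c, B ≤ P c) (ha : P a = (Qf i ⊔ Qf j) ⊔ B) (hb : P b ≤ normalizer (V : Set G))
    (hb' : P b ≤ normalizer (Rf i : Set G)) : GPp B P b a 2 := by
  refine gpp_two hP ?_ ?_
  · intro x hx hx'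
    rw [ha] at hx'
    rw [← inf D E]
    exact ⟨hx', hb' hx⟩
  · intro q hq x hx
    rw [ha] at hx
    obtain ⟨y, hy, c, hc, rfl⟩ := (mem D E).mp hx
    refine ⟨q * y * q⁻¹, ?_, q * c, mul_mem hq (hP b hc), by group⟩
    rw [ha]
    exact mem_sup_left (D.N_X (hb hq) hy)

end digon

/-- an element of `U` which fixes a second point of `V` is trivial on `V` -/
theorem cent {g x : G} (hg : g ∈ U) (hx : x ∈ normalizer (V : Set G)) (hxR : x ∉ normalizer (Rf i : Set G))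
    (h : x⁻¹ * g * x ∈ normalizer (Rf i : Set G)) : g ∈ centralizer (V : Set G) := by
  obtain ⟨y, hy, hc⟩ := E.UQ g hg
  obtain ⟨l, hl, -⟩ := D.permN hx i
  have hli : l ≠ i := by
    rintro rfl
    exact hxR (mem_normalizer_of_cj hl)
  have h1 : cj g (Rf l) = Rf l := by
    rw [← hl]
    have h2 := cj_of_mem_normalizer h
    calc cj g (cj x (Rf i)) = cj x (cj (x⁻¹ * g * x) (Rf i)) := by
          rw [← cj_mul, ← cj_mul]
          congr 1; group
      _ = cj x (Rf i) := by rw [h2]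
  have h3 : cj (y⁻¹ * g) (Rf l) = Rf l :=
    cj_eq_of_comm fun r hr => ((mem_centralizer_iff.mp hc) r (D.M.R_le l hr)).symm
  have h4 : cj y (Rf l) = Rf l := by
    calc cj y (Rf l) = cj y (cj (y⁻¹ * g) (Rf l)) := by rw [h3]
      _ = cj g (Rf l) := by rw [← cj_mul]; congr 1; group
      _ = Rf l := h1
  have h5 := D.M.fixj i l hli.symm y hy h4
  have h6 := mul_mem h5 hc
  rwa [mul_inv_cancel_left] at h6

theorem conj_U {g x : G} (hg : g ∈ U) (hC : g ∈ centralizer (V : Set G)) (hx : x ∈ Qf i ⊔ Qf j) :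
    x⁻¹ * g * x ∈ U := by
  have h1 := D.comm (inv_mem hx) hC
  have e : x⁻¹ * g * x = (x⁻¹ * g * x⁻¹⁻¹ * g⁻¹) * g := by group
  rw [e]
  exact mul_mem (E.YU h1) hg

theorem conj_U' {g x : G} (hg : g ∈ U) (hC : g ∈ centralizer (V : Set G)) (hx : x ∈ (Qf i ⊔ Qf j) ⊔ B) :
    x⁻¹ * g * x ∈ U := by
  obtain ⟨y, hy, b, hb, rfl⟩ := (mem D E).mp hx
  have h1 := conj_U D E hg hC hy
  have e : (y * b)⁻¹ * g * (y * b) = b⁻¹ * (y⁻¹ * g * y) * b := by group
  rw [e]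
  exact E.nor b hb _ h1

theorem P0_le : (Qf i ⊔ Qf j) ⊔ B ≤ normalizer (V : Set G) := sup_le (XD.X_le_N D.M) E.BV

theorem notin {x : G} (hx : x ∈ (Qf i ⊔ Qf j) ⊔ B) (hxB : x ∉ B) : x ∉ normalizer (Rf i : Set G) := by
  intro h
  apply hxB
  rw [← inf D E]
  exact ⟨hx, h⟩

theorem pan : ∀ g ∈ U, ∀ x ∈ (Qf i ⊔ Qf j) ⊔ B, x ∉ B → x⁻¹ * g * x ∈ B →
    ∀ y ∈ (Qf i ⊔ Qf j) ⊔ B, y⁻¹ * g * y ∈ B := by
  intro g hg x hx hxB h y hy
  exact E.UB (conj_U' D E hg (cent D E hg (P0_le D E hx) (notin D E hx hxB) (E.BR h)) hy)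

theorem clo : ∀ g ∈ U, ∀ x ∈ (Qf i ⊔ Qf j) ⊔ B, x⁻¹ * g * x ∈ B → x⁻¹ * g * x ∈ U := by
  intro g hg x hx h
  by_cases hxB : x ∈ B
  · exact E.nor x hxB g hg
  · exact conj_U' D E hg (cent D E hg (P0_le D E hx) (notin D E hx hxB) (E.BR h)) hx

/-- generation -/
theorem gen {C : Subgroup G} (hMC : normalizer (V : Set G) ⊔ normalizer (Rf i : Set G) = ⊤)
    (hC : normalizer (Rf i : Set G) ≤ C) (h0 : (Qf i ⊔ Qf j) ⊔ B ≤ C) : C = ⊤ := by
  rw [eq_top_iff, ← hMC]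
  refine sup_le ?_ hC
  intro m hm
  obtain ⟨x, hx, c, -, hc, rfl⟩ := D.NX hm
  exact mul_mem (h0 (mem_sup_left hx)) (hC hc)

end Nd

end Cfsg.Agent.Omega.NO1U
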