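import Cfsg.Agent.Omega.NO1U.CSideA
import Cfsg.Agent.Omega.NO1U.Sys0
import Cfsg.Agent.Omega.NO1U.PlaneInst

/-!
# The C-side of NO-1' (β) and node 0

For `P : Pol (N(R)) |k| sg g rho sigma m fl` with `fl 1 = F e₀`, `B = fst ∅`, `P j = fst {j}`, `U = Un`:

* `nd : Nd V Rf Qf i j B U`; `fst_le_N` : `fst J ≤ N(V)` if `1 ∉ J`;
* `gpp01`, `gpp10` : the residue `(0, 1)` is a projective plane;
* `finrank_W : dim W = dim Φ + 2`.
-/

set_option autoImplicit false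
set_option linter.unusedVariables false
set_option linter.unusedSectionVars false

open Subgroup Module
open Cfsg.Agent.Omega.NO1.Beta.Meet Cfsg.Agent.Omega.NOne.SU Cfsg.Agent.ParSys.Polar.Flags
open Cfsg.Agent.ParSys.Polar.Hermit Cfsg.Agent.ParSys.Polar.Unip Cfsg.Agent.ParSys.RankTwo

namespace Cfsg.Agent.Omega.NO1U.CSide

universe u

variable {G : Type u} [Group G] {k F : Type*} [Field k] [Field F] [Algebra k F] {T : Quad k F}
  {S : Sylow 2 G} {I : Type*} {V : Subgroup G} {Rf Qf : I → Subgroup G} {i j : I}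
  {v : k → F → k → G} {p p' : G → F}
  {Φ : Type*} [AddCommGroup Φ] [Module F Φ] {φ χ : G → Φ} {hm : Φ → Φ → F}
  {W : Type*} [AddCommGroup W] [Module F W] {w : G → W} {g : W → W → F} {f₀ : W} {ι : Φ →ₗ[F] W}

variable (D : XD T S V Rf Qf i j v p p' φ χ) (o : Out T V (Rf i) (Qf i) (Qf j) v p φ χ hm w g f₀ ι)

/-- `dim W = dim Φ + 2` -/
theorem finrank_W (D : XD T S V Rf Qf i j v p p' φ χ)
    (o : Out T V (Rf i) (Qf i) (Qf j) v p φ χ hm w g f₀ ι) [Module.Finite F Φ] :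
    finrank F W = finrank F Φ + 2 := by
  have H := herm D.g o
  let L : (F × Φ × F) →ₗ[F] W :=
    { toFun := fun z => z.1 • w (v 0 1 0) + ι z.2.1 + z.2.2 • f₀
      map_add' := fun a b => by
        show (a.1 + b.1) • w (v 0 1 0) + ι (a.2.1 + b.2.1) + (a.2.2 + b.2.2) • f₀ = _
        rw [add_smul, map_add, add_smul]; abel
      map_smul' := fun s a => by
        show (s * a.1) • w (v 0 1 0) + ι (s • a.2.1) + (s * a.2.2) • f₀ = _
        rw [mul_smul, map_smul, mul_smul, ← smul_add, ← smul_add]; rfl }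
  have hL : ∀ z, L z = z.1 • w (v 0 1 0) + ι z.2.1 + z.2.2 • f₀ := fun z => rfl
  have fe : g f₀ (w (v 0 1 0)) = 1 := by rw [o.g_sym, o.g_ef, map_one]
  have ιe : ∀ u, g (ι u) (w (v 0 1 0)) = 0 := fun u => by rw [o.g_sym, o.g_eι, map_zero]
  have ιf : ∀ u, g (ι u) f₀ = 0 := fun u => by rw [o.g_sym, o.g_fι, map_zero]
  have hinj : Function.Injective L := by
    rw [← LinearMap.ker_eq_bot, LinearMap.ker_eq_bot']
    rintro ⟨a, u, b⟩ hz
    rw [hL] at hz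
    change a • w (v 0 1 0) + ι u + b • f₀ = 0 at hz
    have h1 : g (a • w (v 0 1 0) + ι u + b • f₀) (w (v 0 1 0)) = b := by
      rw [o.g_add, o.g_add, o.g_smul, o.g_smul, o.g_ee, ιe, fe]; ring
    have h3 : g (a • w (v 0 1 0) + ι u + b • f₀) f₀ = a := by
      rw [o.g_add, o.g_add, o.g_smul, o.g_smul, o.g_ef, ιf, o.g_ff]; ring
    rw [hz, H.zero_l] at h1 h3
    have hu : u = 0 := o.hm_nondeg u fun u' => by
      rw [← h1, ← h3, zero_smul, zero_smul, zero_add, add_zero] at hz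
      rw [← o.g_ιι, hz, H.zero_l]
    rw [hu, ← h1, ← h3]; rfl
  have hsur : Function.Surjective L := by
    intro z
    obtain ⟨a, x, b, rfl⟩ := o.span z
    exact ⟨(a, x, b), rfl⟩
  have h1 := (LinearEquiv.ofBijective L ⟨hinj, hsur⟩).finrank_eq
  rw [← h1, finrank_prod, finrank_prod, finrank_self]
  ring

section pol

variable {sigma : ↥(normalizer (Rf i : Set G)) →* Equiv.Perm (Submodule F W)} {m : ℕ}
  {fl : ℕ → Submodule F W}
  (P : Pol (normalizer (Rf i : Set G)) (Nat.card k) (sgR T) g (rho D.g o) sigma m fl)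
  (hf1 : fl 1 = F ∙ w (v 0 1 0)) (hm1 : 1 ≤ m)

include D o P hf1

theorem mem_N_of_fix {c : ↥(normalizer (Rf i : Set G))} (hc : sigma c (fl 1) = fl 1) :
    (c : G) ∈ normalizer (V : Set G) := by
  have h1 : rho D.g o c (w (v 0 1 0)) ∈ sigma c (fl 1) :=
    P.A.mem (by rw [hf1]; exact Submodule.mem_span_singleton_self _)
  rw [hc, hf1] at h1
  obtain ⟨s, hs⟩ := Submodule.mem_span_singleton.1 h1
  rw [rho_w D.g o c (D.g.E_le 0 1)] at hs
  exact o.stab c c.2 ⟨s, hs.symm⟩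

omit hf1 in
theorem rho_pt {c : ↥(normalizer (Rf i : Set G))} (hN : (c : G) ∈ normalizer (V : Set G)) (b : F) :
    ∃ b' : F, rho D.g o c (b • w (v 0 1 0)) = b' • w (v 0 1 0) := by
  obtain ⟨a, b', he⟩ := OutL.N_e₀ D.g o c.2 hN b
  refine ⟨b', ?_⟩
  rw [← o.w_e b, rho_w D.g o c (D.g.E_le 0 b), he, OutL.w_E D.g o]

variable [FiniteDimensional F W]

theorem fix_of_mem_N {c : ↥(normalizer (Rf i : Set G))} (hN : (c : G) ∈ normalizer (V : Set G)) :
    sigma c (fl 1) = fl 1 := by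
  have := P.finF
  apply eq_of_rk
  · intro z hz
    obtain ⟨x, hx, rfl⟩ := (P.A.sig _ _ _).1 hz
    rw [hf1] at hx ⊢
    obtain ⟨b, rfl⟩ := Submodule.mem_span_singleton.1 hx
    obtain ⟨b', hb⟩ := rho_pt D o P hN b
    rw [hb]
    exact Submodule.smul_mem _ _ (Submodule.mem_span_singleton_self _)
  · exact P.A.card_eq _ _

include hm1

/-- `fst J ≤ N(V)` if `1 ∉ J` -/
theorem fst_le_N {J : Set ℕ} (hJ : 1 ∉ J) :
    fst (normalizer (Rf i : Set G)) sigma m fl J ≤ normalizer (V : Set G) :=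
  fun x hx => mem_N_of_fix D o P hf1 (c := ⟨x, hx.1⟩) (hx.2 1 hm1 hJ)

omit hf1 hm1 in
theorem fix_of_le {c : ↥(normalizer (Rf i : Set G))} {X : Submodule F W}
    (h : ∀ x ∈ X, rho D.g o c x ∈ X) : sigma c X = X := by
  have := P.finF
  apply eq_of_rk
  · intro z hz
    obtain ⟨x, hx, rfl⟩ := (P.A.sig _ _ _).1 hz
    exact h x hx
  · exact P.A.card_eq _ _

theorem mem_B {c : G} (hc : c ∈ normalizer (Rf i : Set G)) (hN : c ∈ normalizer (V : Set G))
    (h : ∀ d, 2 ≤ d → d ≤ m → ∀ y ∈ Qf i, w y ∈ fl d → w (c * y * c⁻¹) ∈ fl d) :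
    c ∈ fst (normalizer (Rf i : Set G)) sigma m fl ∅ := by
  refine ⟨hc, fun d hd _ => ?_⟩
  rcases Nat.lt_or_ge d 2 with h2 | h2
  · rcases Nat.lt_or_ge d 1 with h3 | h3
    · obtain rfl : d = 0 := by omega
      refine fix_of_le D o P fun x hx => ?_
      rw [P.hf.zero, Submodule.mem_bot] at hx ⊢
      rw [hx, map_zero]
    · obtain rfl : d = 1 := by omega
      exact fix_of_mem_N D o P hf1 hN
  · refine fix_of_le D o P fun x hx => ?_
    obtain ⟨y, hy, rfl⟩ := o.w_surj x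
    rw [rho_w D.g o _ hy]
    exact h d h2 hd y hy hx

/-- `X ∩ N(R) ≤ B` -/
theorem XB : (Qf i ⊔ Qf j) ⊓ normalizer (Rf i : Set G) ≤ fst (normalizer (Rf i : Set G)) sigma m fl ∅ := by
  intro x hx'
  obtain ⟨hx, hxR⟩ := mem_inf.1 hx'
  have hxV : x ∈ normalizer (V : Set G) := XD.X_le_N D.M hx
  obtain ⟨s, hs, hsc⟩ := D.scal hx hxR
  refine mem_B D o P hf1 hm1 hxR hxV fun d hd2 hd y hy hyd => ?_
  have heL : w (v 0 1 0) ∈ fl d := P.hf.le (a := 1) (by omega) hd (by rw [hf1]; exact Submodule.mem_span_singleton_self _)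
  have h0 : g (w y) (w (v 0 1 0)) = 0 :=
    P.hf.sing _ (P.hf.le hd le_rfl hyd) _ (P.hf.le hd le_rfl heL)
  have hyV : y ∈ centralizer (V : Set G) := (OutL.mem_CV_iff D.g o hy).2 h0
  obtain ⟨h1, h2⟩ := hsc y (mem_inf.2 ⟨hy, hyV⟩)
  obtain ⟨a, ha⟩ := o.φ_eq y hy hyV
  obtain ⟨a', ha'⟩ := o.φ_eq _ (mem_inf.1 h1).1 (mem_inf.1 h1).2
  have h3 : ι (φ y) ∈ fl d := by
    have h4 : ι (φ y) = w y - a • w (v 0 1 0) := by rw [ha]; abel
    rw [h4]
    exact Submodule.sub_mem _ hyd (Submodule.smul_mem _ _ heL)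
  rw [ha', h2, map_smul]
  exact Submodule.add_mem _ (Submodule.smul_mem _ _ h3) (Submodule.smul_mem _ _ heL)

/-- **the data at node 0** -/
theorem nd : Nd V Rf Qf i j (fst (normalizer (Rf i : Set G)) sigma m fl ∅) (Un P.A m fl) where
  BR := fst_le
  BV := fst_le_N D o P hf1 hm1 (Set.notMem_empty 1)
  XB := XB D o P hf1 hm1
  UB := un_le P.A
  nor := fun b hb u hu => P.clo le_rfl hm1 u hu b (fst_mono (Set.empty_subset _) hb)
    (mul_mem (mul_mem (inv_mem hb) (un_le P.A hu)) hb)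
  YU := by
    refine sup_le ?_ ?_
    · intro x hx
      have hxQ := (mem_inf.1 hx).1
      exact ⟨Q_le D.g hxQ, P.isUn_triv fun m => rho_Q D.g o hxQ _ m⟩
    · intro x hx
      obtain ⟨hxQ, hxV⟩ := mem_inf.1 hx
      have hxR : x ∈ normalizer (Rf i : Set G) := D.g.CR_le_NR (D.g.CV_le_CR hxV)
      obtain ⟨r, hr, hact⟩ := o.χ_act x hxQ hxV
      refine ⟨hxR, P.isUn_siegel (i := 1) (y := w (v 0 1 0)) (w := ι (χ x)) (a := r) hm1
        (by rw [hf1]; exact Submodule.mem_span_singleton_self _) ?_ (by rw [sgR_apply, hr, o.g_ιι]) ?_⟩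
      · rw [hf1, P.H.mem_perp_span, o.g_sym, o.g_eι, map_zero]
      · intro m
        obtain ⟨y, hy, rfl⟩ := o.w_surj m
        rw [rho_w D.g o _ hy]
        exact hact y hy
  UQ := by
    rintro u ⟨huR, hu⟩
    have huV : u ∈ normalizer (V : Set G) := mem_N_of_fix D o P hf1 (hu.fix 1 hm1)
    have H := P.H
    have he : rho D.g o ⟨u, huR⟩ (w (v 0 1 0)) = w (v 0 1 0) := by
      have h1 := hu.step 0 (by omega) (w (v 0 1 0)) (by
        show _ ∈ fl 1
        rw [hf1]; exact Submodule.mem_span_singleton_self _)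
      rw [P.hf.zero, Submodule.mem_bot, sub_eq_zero] at h1
      exact h1
    refine D.mem_QC huV ?_ ?_ ?_
    · rw [mem_centralizer_iff]
      intro r hr
      obtain ⟨a, rfl⟩ := D.g.mem_R.1 hr
      obtain ⟨x₀, hx₀⟩ := T.exists_tr_ne D.g.h2
      obtain ⟨y, hy, hyf⟩ := o.w_surj f₀
      have h1 : T.tr ((a / T.tr x₀) • x₀) = a := by
        rw [map_smul, smul_eq_mul, div_mul_cancel₀ _ hx₀]
      set b := (a / T.tr x₀) • x₀
      have h2 := o.comm _ (D.g.E_le 0 b) y hy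
      rw [o.w_e, hyf, o.g_smul, o.g_ef, mul_one, h1] at h2
      have h3 := o.comm _ (D.g.nor u huR _ (D.g.E_le 0 b)) _ (D.g.nor u huR _ hy)
      have e1 : w (u * v 0 b 0 * u⁻¹) = rho D.g o ⟨u, huR⟩ (w (v 0 b 0)) :=
        (rho_w D.g o ⟨u, huR⟩ (D.g.E_le 0 b)).symm
      have e2 : w (u * y * u⁻¹) = rho D.g o ⟨u, huR⟩ (w y) := (rho_w D.g o ⟨u, huR⟩ hy).symm
      rw [e1, e2, hu.iso, o.w_e, hyf, o.g_smul, o.g_ef, mul_one, h1] at h3
      have h4 : u * v a 0 0 * u⁻¹ = v a 0 0 := by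
        calc u * v a 0 0 * u⁻¹ = u * (v 0 b 0 * y * (v 0 b 0)⁻¹ * y⁻¹) * u⁻¹ := by rw [h2]
          _ = (u * v 0 b 0 * u⁻¹) * (u * y * u⁻¹) * (u * v 0 b 0 * u⁻¹)⁻¹ * (u * y * u⁻¹)⁻¹ := by group
          _ = v a 0 0 := h3
      calc v a 0 0 * u = (u * v a 0 0 * u⁻¹) * u := by rw [h4]
        _ = u * v a 0 0 := by group
    · intro b
      obtain ⟨a, b', hb⟩ := OutL.N_e₀ D.g o huR huV b
      refine ⟨a, ?_⟩
      have h1 := rho_w D.g o ⟨u, huR⟩ (D.g.E_le 0 b)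
      rw [o.w_e b, hu.lin, he] at h1
      change b • w (v 0 1 0) = w (u * v 0 b 0 * u⁻¹) at h1
      rw [hb, OutL.w_E D.g o a b'] at h1
      have h2 : (b - b') • w (v 0 1 0) = 0 := by rw [sub_smul, h1, sub_self]
      rcases smul_eq_zero.1 h2 with h3 | h3
      · rw [hb, sub_eq_zero.1 h3]
      · exact absurd h3 (OutL.e₀_ne D.g o)
    · intro y hy
      rw [o.p_eq _ (D.g.nor u huR _ hy), o.p_eq y hy]
      have e2 : w (u * y * u⁻¹) = rho D.g o ⟨u, huR⟩ (w y) := (rho_w D.g o ⟨u, huR⟩ hy).symm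
      have e3 : g (rho D.g o ⟨u, huR⟩ (w y)) (rho D.g o ⟨u, huR⟩ (w (v 0 1 0))) = g (w y) (w (v 0 1 0)) :=
        hu.iso _ _
      rw [he] at e3
      rw [e2, e3]

/-- `P_1` is transitive on the points of `fl 2` -/
theorem htr {h : G} (hh : h ∈ Lam (Rf i) v w (fl 2)) :
    ∃ c ∈ fst (normalizer (Rf i : Set G)) sigma m fl {1}, c⁻¹ * h ∈ normalizer (V : Set G) := by
  obtain ⟨hR, hb⟩ := hh
  have hX : sigma ⟨h, hR⟩ (fl 1) ∈ Cfsg.Agent.ParSys.Polar.Flags.Pan (TI g) m fl 1 := by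
    refine ⟨P.act.sing _ (P.hf.si P.polSp hm1), by rw [P.act.rk, P.hf.rk 1 hm1], fun d hd => ?_, fun _ => ?_⟩
    · obtain rfl : d = 0 := by omega
      rw [P.hf.zero]; exact bot_le
    · intro z hz
      obtain ⟨x, hx, rfl⟩ := (P.A.sig _ _ _).1 hz
      rw [hf1] at hx
      obtain ⟨b, rfl⟩ := Submodule.mem_span_singleton.1 hx
      rw [← o.w_e b, rho_w D.g o _ (D.g.E_le 0 b)]
      exact hb b
  obtain ⟨c, hc, hc1⟩ := exists_pan P.polSp P.act P.hf hm1 hX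
  refine ⟨c, hc, ?_⟩
  have h1 : sigma (c⁻¹ * ⟨h, hR⟩) (fl 1) = fl 1 := by
    rw [map_mul, Equiv.Perm.mul_apply, ← hc1, map_inv]
    exact (sigma c).symm_apply_apply _
  exact mem_N_of_fix D o P hf1 h1

/-- **the residue `(0, 1)`** -/
theorem gpp01 [Finite G] (hm2 : 2 ≤ m) {J : Type*} {PP : J → Subgroup G} {a b : J} (hab : a ≠ b)
    (hBP : ∀ c, fst (normalizer (Rf i : Set G)) sigma m fl ∅ ≤ PP c)
    (ha : PP a = (Qf i ⊔ Qf j) ⊔ fst (normalizer (Rf i : Set G)) sigma m fl ∅)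
    (hb : PP b = fst (normalizer (Rf i : Set G)) sigma m fl {1}) :
    GPp (fst (normalizer (Rf i : Set G)) sigma m fl ∅) PP a b 3 ∧
      GPp (fst (normalizer (Rf i : Set G)) sigma m fl ∅) PP b a 3 := by
  have E := nd D o P hf1 hm1
  obtain ⟨n, hn⟩ := D.plane o (K := {d : ℕ // 2 ≤ d ∧ d ≤ m}) (Lk := fun d => fl d) (k₀ := ⟨2, le_rfl, hm2⟩)
    (B := fst (normalizer (Rf i : Set G)) sigma m fl ∅)
    (P₀ := (Qf i ⊔ Qf j) ⊔ fst (normalizer (Rf i : Set G)) sigma m fl ∅)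
    (P₁ := fst (normalizer (Rf i : Set G)) sigma m fl {1})
    (fun d => P.hf.le (a := 1) (by have := d.2.1; omega) d.2.2 (by
      rw [hf1]; exact Submodule.mem_span_singleton_self _))
    (fun d x hx y hy => P.hf.sing x (P.hf.le d.2.2 le_rfl hx) y (P.hf.le d.2.2 le_rfl hy))
    E.BR E.BV rfl (fst_mono (Set.empty_subset _)) fst_le
    (fun d c hc y hy hyd => by
      have h1 : sigma ⟨c, hc.1⟩ (fl d) = fl d := hc.2 d d.2.2 (by
        rw [Set.mem_singleton_iff]; have := d.2.1; omega)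
      have h2 := P.A.mem (c := ⟨c, hc.1⟩) hyd
      rw [h1, rho_w D.g o _ hy] at h2
      exact h2)
    (fun h hh => htr D o P hf1 hm1 hh)
    (fun c hc hcV h => mem_B D o P hf1 hm1 hc hcV fun d h2 hd y hy hyd => h ⟨d, h2, hd⟩ y hy hyd)
    (by rw [Nd.card D E, P.relIndex_lt le_rfl (by omega)])
  exact hn.gpp hBP hab ha hb

end pol

end Cfsg.Agent.Omega.NO1U.CSide
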