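import Cfsg.Agent.Omega.NOne.SU.FieldEnd

/-!
# THE FIELD: more outputs (`bil'`, the swap, `Q'` modulo `V` elementary abelian)
-/

set_option autoImplicit false
set_option linter.unusedVariables false
set_option linter.unusedSectionVars false

open Subgroup
open Cfsg.Agent.Omega.NO1.Beta.Meet Cfsg.Agent.Omega.NOne.SU

namespace Cfsg.Agent.Omega.NO1U

universe u

/-- The data on the side of the second point `R'`. -/
structure FldX {G : Type*} [Group G] {k F : Type*} [Field k] [Field F] [Algebra k F] (T : Quad k F)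
    (V Q Q' : Subgroup G) (v : k → F → k → G) (p' : G → F) {Φ : Type*} [AddCommGroup Φ] [Module F Φ]
    (φ χ : G → Φ) : Prop where
  p'_surj : ∀ l, ∃ y ∈ Q', p' y = l
  sq' : ∀ n ∈ Q', n * n ∈ V
  /-- `[n, y] = p'(n) φ(y)` -/
  bil' : ∀ n ∈ Q', ∀ y ∈ Q, y ∈ centralizer (V : Set G) →
    n * y * n⁻¹ * y⁻¹ ∈ Q' ∧ n * y * n⁻¹ * y⁻¹ ∈ centralizer (V : Set G) ∧
      χ (n * y * n⁻¹ * y⁻¹) = p' n • φ y
  swap : ∃ n ∈ Q ⊔ Q', (∀ x, x ∈ Q ↔ n * x * n⁻¹ ∈ Q') ∧ (∀ x, x ∈ Q' ↔ n * x * n⁻¹ ∈ Q) ∧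
    ∀ a b d, n * v a b d * n⁻¹ = v d (T.sg b) a

section

variable {G : Type u} [Group G] {k F : Type*} [Field k] [Field F] [Algebra k F] {T : Quad k F}
  {S : Sylow 2 G} {V R Q Q' : Subgroup G} {v : k → F → k → G} {p p' : G → F}
  {I : Type*} {Rf Qf : I → Subgroup G} {i j : I}

open GEnd

/-- **`GIn` and `Mt` give `Fld` and `FldX`.** -/
theorem exists_FldX (g : GIn T S V (Rf i) (Qf i) (Qf j) v p p') (M : Mt V Rf Qf) (h : i ≠ j)
    (hRj : ∀ x, x ∈ Rf j ↔ ∃ d, x = v 0 0 d) :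
    ∃ (Φ : Type u) (_ : AddCommGroup Φ) (_ : Module F Φ) (φ χ : G → Φ),
      Fld T V (Rf i) (Qf i) (Qf j) v p φ χ ∧ FldX T V (Qf i) (Qf j) v p' φ χ := by
  have hF := finF T
  have hc := charF g
  have hm := meet_V g
  obtain ⟨x, y, hpx, hpy, Fr⟩ := exists_frame g M h hRj
  obtain ⟨Φ, i1, i2, φ, χ, E⟩ := exists_fld M h hm Fr
  have hneg : ∀ u : Φ, -u = u := by
    intro u
    have h1 : (2 : F) • u = 0 := by rw [h2 g, zero_smul]
    rw [two_smul] at h1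
    exact neg_eq_of_add_eq_zero_left h1
  refine ⟨Φ, i1, i2, φ, χ, ⟨?_, ?_, ?_, ?_, ?_, ?_, ?_, ?_⟩, ⟨?_, ?_, ?_, ?_⟩⟩
  · intro a ha hac b hb hbc
    exact E.mulC a ⟨ha, hac⟩ b ⟨hb, hbc⟩
  · intro a ha hac
    rw [E.kerC a ⟨ha, hac⟩]
    constructor
    · intro hV
      obtain ⟨a', b, d, rfl⟩ := g.v_surj a hV
      have := g.V_Q _ _ _ ha
      exact ⟨a', b, by rw [this]⟩
    · rintro ⟨a', b, rfl⟩
      exact g.v_mem _ _ _
  · intro u
    obtain ⟨a, ha, hu⟩ := E.surC u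
    exact ⟨a, ha.1, ha.2, hu⟩
  · intro a ha hac b hb hbc
    exact E.mulD a ⟨ha, hac⟩ b ⟨hb, hbc⟩
  · intro n hn hnc h0
    have hV := (E.kerD n ⟨hn, hnc⟩).mp h0
    obtain ⟨a, b, d, rfl⟩ := g.v_surj n hV
    have h1 : v a b d = v a 0 0 * v 0 b d := by
      rw [← g.v_add, add_zero, zero_add, zero_add]
    have h3 : v a 0 0 ∈ Qf j := by
      have : v a 0 0 = v a b d * (v 0 b d)⁻¹ := by rw [h1]; group
      rw [this]
      exact mul_mem hn (inv_mem (g.E'_le b d))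
    have h4 : v a 0 0 ∈ Rf i ⊓ Qf j := ⟨g.sp.a_mem a, h3⟩
    rw [M.RQj i j h, mem_bot] at h4
    have h5 := (g.v_inj _ _ _ h4).1
    exact ⟨b, d, by rw [h5]⟩
  · intro u
    obtain ⟨a, ha, hu⟩ := E.surD u
    exact ⟨a, ha.1, ha.2, hu⟩
  · intro y' hy' n hn hnc
    have h1 : (x (p y'))⁻¹ * y' ∈ centralizer (V : Set G) := by
      rw [mem_C g (mul_mem (inv_mem (Fr.hx _)) hy'), g.p_add _ (inv_mem (Fr.hx _)) _ hy', p_inv g (Fr.hx _),
        hpx]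
      ring
    obtain ⟨h3, h4⟩ := E.xD' M h hm Fr hy' h1 ⟨hn, hnc⟩
    have h5 : n * y' * n⁻¹ * y'⁻¹ = (cm y' n)⁻¹ := by simp only [cm]; group
    rw [h5, E.invC h3, h4, hneg]
  · intro z hz
    have hta := fun a b d => tor_act g Fr.hx hpx Fr.hy hpy hz a b d
    obtain ⟨s1, s2, -, -⟩ := M.swap h (Fr.hx z) (Fr.hy z⁻¹) (Fr.mat z hz)
    obtain ⟨r1, r2, -, -⟩ := M.swap h (Fr.hx 1) (Fr.hy 1⁻¹) (Fr.mat 1 one_ne_zero)
    have hQi : cj (nn x y z * nn x y 1) (Qf i) = Qf i := by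
      rw [cj_mul, r1, s2]
    have hQj : cj (nn x y z * nn x y 1) (Qf j) = Qf j := by
      rw [cj_mul, r2, s1]
    have hmem : ∀ l, nn x y l ∈ Qf i ⊔ Qf j := fun l =>
      mul_mem (mul_mem (mem_sup_left (Fr.hx l)) (mem_sup_right (Fr.hy _))) (mem_sup_left (Fr.hx l))
    refine ⟨nn x y z * nn x y 1, mul_mem (hmem z) (hmem 1), hta, ?_, ?_, ?_⟩
    · intro w hw
      have hw' : (nn x y z * nn x y 1) * w * (nn x y z * nn x y 1)⁻¹ ∈ Qf i := by
        have := conj_mem_cj (c := nn x y z * nn x y 1) hw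
        rwa [hQi] at this
      refine ⟨hw', ?_⟩
      have h1 := g.act _ hw' 0 0 1
      have hnz := QuadF.nm_ne T hz
      have hs := QuadF.sg_ne T hz
      generalize nn x y z * nn x y 1 = t at *
      have h3 : t * w * t⁻¹ * v 0 0 1 * (t * w * t⁻¹)⁻¹ = t * (w * (t⁻¹ * v 0 0 1 * t) * w⁻¹) * t⁻¹ := by
        group
      have h4 : t⁻¹ * v 0 0 1 * t = v 0 0 (T.nm z) := by
        have h5 := hta 0 0 (T.nm z)
        have h6 : v (T.nm z * 0) (z * (T.sg z)⁻¹ * 0) ((T.nm z)⁻¹ * T.nm z) = v 0 0 1 := by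
          rw [mul_zero, mul_zero, inv_mul_cancel₀ hnz]
        rw [h6] at h5
        rw [← h5]; group
      rw [h3, h4, g.act w hw, hta] at h1
      have h7 := (v_eq g h1).2.1
      simp only [zero_add, map_one, mul_one, T.nm_eq] at h7
      rw [← h7]
      field_simp
    · intro a ha hac
      exact (E.hC hz ⟨ha, hac⟩).2
    · intro n hn hnc
      exact ⟨(E.hD hz ⟨hn, hnc⟩).1.1, (E.hD hz ⟨hn, hnc⟩).2⟩
  · intro l
    exact ⟨y l, Fr.hy l, hpy l⟩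
  · intro n hn
    exact M.R_le j (M.Qsq j n hn)
  · intro n hn a ha hac
    have h1 : (y (p' n))⁻¹ * n ∈ centralizer (V : Set G) := by
      rw [mem_C' g (mul_mem (inv_mem (Fr.hy _)) hn), g.p'_add _ (inv_mem (Fr.hy _)) _ hn, p'_inv g (Fr.hy _),
        hpy]
      ring
    obtain ⟨h3, h4⟩ := E.yC' M h hm Fr hn h1 ⟨ha, hac⟩
    have h5 : n * a * n⁻¹ * a⁻¹ = cm n a := by simp only [cm]
    rw [h5]
    exact ⟨h3.1, h3.2, h4⟩
  · obtain ⟨r1, r2, -, -⟩ := M.swap h (Fr.hx 1) (Fr.hy 1⁻¹) (Fr.mat 1 one_ne_zero)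
    refine ⟨nn x y 1, mul_mem (mul_mem (mem_sup_left (Fr.hx _)) (mem_sup_right (Fr.hy _)))
      (mem_sup_left (Fr.hx _)), ?_, ?_, ?_⟩
    · intro w
      have e : cj (nn x y 1) (Qf i) = Qf j := r1
      rw [← e, mem_cj]
      have e2 : (nn x y 1)⁻¹ * (nn x y 1 * w * (nn x y 1)⁻¹) * nn x y 1 = w := by
        generalize nn x y 1 = t
        group
      rw [e2]
    · intro w
      have e : cj (nn x y 1) (Qf j) = Qf i := r2
      rw [← e, mem_cj]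
      have e2 : (nn x y 1)⁻¹ * (nn x y 1 * w * (nn x y 1)⁻¹) * nn x y 1 = w := by
        generalize nn x y 1 = t
        group
      rw [e2]
    · intro a b d
      rw [nn_act g Fr.hx hpx Fr.hy hpy one_ne_zero]
      simp only [QuadF.nm_one T, map_one, inv_one, one_mul]

end

end Cfsg.Agent.Omega.NO1U
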