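import Cfsg.Agent.Omega.NO1U.CSideA
import Cfsg.Agent.Omega.NOne.SU.OutOf

/-!
# `GIn`, `Fld` ⟹ `Out` and, if `Φ ≠ 0`, `Semi`: `N_G(R)` acts on `W = Q/R` by semilinear similitudes
-/

set_option autoImplicit false

open Subgroup

namespace Cfsg.Agent.Omega.NO1U.SemiOf

open Cfsg.Agent.Omega.NOne.SU

/-- `Semi` for the explicit maps -/
theorem semi_of {G : Type*} [Group G] [Finite G] {k F : Type*} [Field k] [Field F] [Algebra k F]
    {T : Quad k F} {S : Sylow 2 G} {V R Q Q' : Subgroup G} {v : k → F → k → G} {p p' : G → F}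
    {Φ : Type*} [AddCommGroup Φ] [Module F Φ] [Module k Φ] [IsScalarTower k F Φ] [Nontrivial Φ]
    {φ χ : G → Φ} (h : GIn T S V R Q Q' v p p') (sc : Scal h.sp.form) (f : Fld T V R Q Q' v p φ χ)
    [Module F (h.M sc)] (D : (h.uni sc f).Herm) : CSide.Semi R Q (h.prM sc) D.g := by
  intro c hc
  obtain ⟨σ, γ, h0, h1, h2, -⟩ := h.zt_semi sc f D hc
  refine ⟨σ, algebraMap k F γ, fun e => h0 ((map_eq_zero _).1 e), ?_, ?_⟩
  · intro s x hx y hy hxy
    rw [← h.zt_pr sc hc hx, ← h.zt_pr sc hc hy, hxy]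
    exact h1 s _
  · intro x hx y hy
    rw [← h.zt_pr sc hc hx, ← h.zt_pr sc hc hy, h2, Algebra.smul_def]

/-- **`Out` and `Semi`** -/
theorem exists_Out_semi.{u} {G : Type u} [Group G] [Finite G] {k F : Type*} [Field k] [Field F] [Algebra k F]
    {T : Quad k F} {S : Sylow 2 G} {V R Q Q' : Subgroup G} {v : k → F → k → G} {p p' : G → F}
    {Φ : Type*} [AddCommGroup Φ] [Module F Φ] [Module k Φ] [IsScalarTower k F Φ]
    {φ χ : G → Φ} (h : GIn T S V R Q Q' v p p') (f : Fld T V R Q Q' v p φ χ) :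
    ∃ (W : Type u) (_ : AddCommGroup W) (_ : Module F W) (w : G → W) (g : W → W → F) (f₀ : W)
      (ι : Φ →ₗ[F] W) (hm : Φ → Φ → F), Out T V R Q Q' v p φ χ hm w g f₀ ι ∧
      (Nontrivial Φ → CSide.Semi R Q w g) := by
  have : CharP k 2 := CharTwo.of_one_ne_zero_of_two_eq_zero one_ne_zero h.h2
  have := h.finiteM (h.scal f)
  obtain ⟨_, ⟨D⟩⟩ := (h.uni (h.scal f) f).exists_herm
  exact ⟨_, _, _, _, _, _, _, _, h.out_of (h.scal f) f D, fun _ => semi_of h (h.scal f) f D⟩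

end Cfsg.Agent.Omega.NO1U.SemiOf
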