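import Cfsg.Agent.Omega.NO1U.PlaneLine
import Cfsg.Agent.ParSys.Polar.Unip

/-!
# The C-side of NO-1' (β): `C = N(R)` acts on the hermitian space `W = Q / R` as in `Polar.Unip.Pol`

`rho` : the action of `N(R)` on `W`; `herm : Herm |k| sg g`; `siegel` : all the Siegel transformations;
`exists_pol` : `Pol` with a flag which starts with `F e₀`.
-/

set_option autoImplicit false
set_option linter.unusedVariables false
set_option linter.unusedSectionVars false

open Subgroup Module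
open Cfsg.Agent.Omega.NOne.SU Cfsg.Agent.ParSys.Polar.Flags Cfsg.Agent.ParSys.Polar.Hermit
open Cfsg.Agent.ParSys.Polar.Unip

namespace Cfsg.Agent.Omega.NO1U.CSide

variable {G : Type*} [Group G] {k F : Type*} [Field k] [Field F] [Algebra k F] {T : Quad k F}
  {S : Sylow 2 G} {V R Q Q' : Subgroup G} {v : k → F → k → G} {p p' : G → F}
  {Φ : Type*} [AddCommGroup Φ] [Module F Φ] {φ χ : G → Φ} {hm : Φ → Φ → F}
  {W : Type*} [AddCommGroup W] [Module F W] {w : G → W} {g : W → W → F} {f₀ : W} {ι : Φ →ₗ[F] W}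

/-- the involution as a ring homomorphism -/
def sgR (T : Quad k F) : F →+* F := (T.sg : F ≃ₐ[k] F).toAlgHom.toRingHom

theorem sgR_apply (x : F) : sgR T x = T.sg x := rfl

section act

variable (h : GIn T S V R Q Q' v p p') (o : Out T V R Q Q' v p φ χ hm w g f₀ ι)

/-- a section of `w` -/
noncomputable def sec (o : Out T V R Q Q' v p φ χ hm w g f₀ ι) (m : W) : G := (o.w_surj m).choose

theorem sec_mem (m : W) : sec o m ∈ Q := (o.w_surj m).choose_spec.1

theorem w_sec (m : W) : w (sec o m) = m := (o.w_surj m).choose_spec.2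

include h in
theorem w_cj {c x : G} (hc : c ∈ normalizer (R : Set G)) (hx : x ∈ Q) :
    w (c * sec o (w x) * c⁻¹) = w (c * x * c⁻¹) :=
  OutL.w_conj_congr h o hc (sec_mem o _) hx (w_sec o _)

/-- **the action of `N(R)` on `W`** -/
noncomputable def rho (h : GIn T S V R Q Q' v p p') (o : Out T V R Q Q' v p φ χ hm w g f₀ ι)
    (c : ↥(normalizer (R : Set G))) : W ≃+ W where
  toFun m := w (c * sec o m * (c : G)⁻¹)
  invFun m := w ((c : G)⁻¹ * sec o m * (c : G)⁻¹⁻¹)
  left_inv m := by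
    show w ((c : G)⁻¹ * sec o (w (c * sec o m * (c : G)⁻¹)) * (c : G)⁻¹⁻¹) = m
    rw [w_cj h o (inv_mem c.2) (h.nor _ c.2 _ (sec_mem o m))]
    have e : (c : G)⁻¹ * (c * sec o m * (c : G)⁻¹) * (c : G)⁻¹⁻¹ = sec o m := by group
    rw [e, w_sec o]
  right_inv m := by
    show w ((c : G) * sec o (w ((c : G)⁻¹ * sec o m * (c : G)⁻¹⁻¹)) * (c : G)⁻¹) = m
    rw [w_cj h o c.2 (h.nor _ (inv_mem c.2) _ (sec_mem o m))]
    have e : (c : G) * ((c : G)⁻¹ * sec o m * (c : G)⁻¹⁻¹) * (c : G)⁻¹ = sec o m := by group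
    rw [e, w_sec o]
  map_add' m m' := by
    have h1 : m + m' = w (sec o m * sec o m') := by rw [o.w_mul _ (sec_mem o m) _ (sec_mem o m'), w_sec o, w_sec o]
    show w ((c : G) * sec o (m + m') * (c : G)⁻¹) = _
    rw [h1, w_cj h o c.2 (mul_mem (sec_mem o m) (sec_mem o m'))]
    have e : (c : G) * (sec o m * sec o m') * (c : G)⁻¹ =
        ((c : G) * sec o m * (c : G)⁻¹) * ((c : G) * sec o m' * (c : G)⁻¹) := by group
    rw [e, o.w_mul _ (h.nor _ c.2 _ (sec_mem o m)) _ (h.nor _ c.2 _ (sec_mem o m'))]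

theorem rho_w (c : ↥(normalizer (R : Set G))) {x : G} (hx : x ∈ Q) :
    rho h o c (w x) = w (c * x * (c : G)⁻¹) := w_cj h o c.2 hx

theorem rho_mul (a b : ↥(normalizer (R : Set G))) (m : W) : rho h o (a * b) m = rho h o a (rho h o b m) := by
  obtain ⟨x, hx, rfl⟩ := o.w_surj m
  rw [rho_w h o _ hx, rho_w h o _ hx, rho_w h o _ (h.nor _ b.2 _ hx)]
  congr 1
  rw [Subgroup.coe_mul]; group

theorem rho_one (m : W) : rho h o 1 m = m := by
  have h1 := rho_mul h o 1 1 m
  rw [mul_one] at h1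
  exact (rho h o 1).injective h1.symm

/-- `Q` acts trivially -/
theorem rho_Q {x : G} (hx : x ∈ Q) (hxR : x ∈ normalizer (R : Set G)) (m : W) : rho h o ⟨x, hxR⟩ m = m := by
  obtain ⟨y, hy, rfl⟩ := o.w_surj m
  rw [rho_w h o _ hy]
  show w (x * y * x⁻¹) = w y
  rw [o.w_mul _ (mul_mem hx hy) _ (inv_mem hx), o.w_mul _ hx _ hy, OutL.w_inv h o hx]
  abel

theorem Q_le (h : GIn T S V R Q Q' v p p') : Q ≤ normalizer (R : Set G) := h.Q_le_CR.trans h.CR_le_NR

/-- **the hermitian space** -/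
theorem herm (h : GIn T S V R Q Q' v p p') (o : Out T V R Q Q' v p φ χ hm w g f₀ ι) :
    Herm (Nat.card k) (sgR T) g := by
  have h2 : (2 : k) = 0 := h.h2
  have h2F : (2 : F) = 0 := T.twoF h2
  have hk := T.fink
  have hF := T.finF
  have sq_inj : ∀ x : F, ∀ y : F, x * x = y * y → x = y := by
    intro x y hxy
    have : (x - y) * (x - y) = 0 := by linear_combination hxy - (x * y - y * y) * h2F
    exact sub_eq_zero.1 (mul_self_eq_zero.1 this)
  exact
    { two := h2F
      pos := lt_of_lt_of_le (by norm_num) T.four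
      card := T.card
      sg_sg := T.sg_sg
      tr_surj := by
        intro b hb
        obtain ⟨a, rfl⟩ := T.fix b hb
        obtain ⟨x, hx⟩ := T.exists_tr_ne h2
        refine ⟨(a / T.tr x) • x, ?_⟩
        rw [sgR_apply, ← T.tr_eq, map_smul, smul_eq_mul, div_mul_cancel₀ _ hx]
      nm_surj := by
        intro b hb
        obtain ⟨y, hy⟩ := T.exists_sq h2 b
        refine ⟨y, ?_⟩
        have h1 : T.sg y = y := by
          apply sq_inj
          rw [← map_mul, ← pow_two, hy]; exact hb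
        rw [sgR_apply, h1, ← pow_two, hy]
      tr_ker := by
        refine (Nat.card_congr (Equiv.ofBijective (fun a : k => (⟨algebraMap k F a, ?_⟩ :
          {a : F | a + sgR T a = 0})) ⟨?_, ?_⟩)).symm
        · show algebraMap k F a + T.sg (algebraMap k F a) = 0
          rw [T.sg_alg]
          linear_combination algebraMap k F a * h2F
        · intro a b hab
          exact (algebraMap k F).injective (congrArg Subtype.val hab)
        · rintro ⟨x, hx⟩
          have h1 : T.sg x = x := by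
            have h1 : x + T.sg x = 0 := hx
            linear_combination h1 - x * h2F
          obtain ⟨a, rfl⟩ := T.fix x h1
          exact ⟨a, rfl⟩
      add := o.g_add
      smul := o.g_smul
      sym := o.g_sym
      nd := by
        intro x hx
        obtain ⟨a, u, b, rfl⟩ := o.span x
        have g0 : ∀ m, g 0 m = 0 := OutL.g_zero h o
        have fe : g f₀ (w (v 0 1 0)) = 1 := by rw [o.g_sym, o.g_ef, map_one]
        have ιe : ∀ u, g (ι u) (w (v 0 1 0)) = 0 := fun u => by rw [o.g_sym, o.g_eι, map_zero]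
        have ιf : ∀ u, g (ι u) f₀ = 0 := fun u => by rw [o.g_sym, o.g_fι, map_zero]
        have h1 := hx (w (v 0 1 0))
        rw [o.g_add, o.g_add, o.g_smul, o.g_smul, o.g_ee, ιe, fe, mul_zero, zero_add, zero_add, mul_one] at h1
        have h3 := hx f₀
        rw [o.g_add, o.g_add, o.g_smul, o.g_smul, o.g_ef, ιf, o.g_ff, mul_zero, add_zero, add_zero, mul_one] at h3
        have h4 : u = 0 := o.hm_nondeg u fun u' => by
          have h5 := hx (ι u')
          rw [h1, h3, zero_smul, zero_smul, zero_add, add_zero, o.g_ιι] at h5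
          exact h5
        rw [h1, h3, h4, map_zero, zero_smul, zero_smul, add_zero, add_zero] }

/-! ### The Siegel transformations -/

/-- `v 0 0 d` acts as a transvection -/
theorem transv (h : GIn T S V R Q Q' v p p') (o : Out T V R Q Q' v p φ χ hm w g f₀ ι) (d : k) :
    ∃ c : ↥(normalizer (R : Set G)), ∀ m, rho h o c m =
      m + (algebraMap k F d * g m (w (v 0 1 0))) • w (v 0 1 0) := by
  have hc : v 0 0 d ∈ normalizer (R : Set G) := h.CR_le_NR (h.CV_le_CR (h.V_le_CV (h.v_mem 0 0 d)))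
  refine ⟨⟨_, hc⟩, fun m => ?_⟩
  obtain ⟨y, hy, rfl⟩ := o.w_surj m
  rw [rho_w h o _ hy]
  show w (v 0 0 d * y * (v 0 0 d)⁻¹) = _
  have h1 := h.act y⁻¹ (inv_mem hy) 0 0 d
  rw [h.p_inv hy, inv_inv] at h1
  have h2 : v 0 0 d * y * (v 0 0 d)⁻¹ = y * (y⁻¹ * v 0 0 d * y * (v 0 0 d)⁻¹) := by group
  have h3 : y⁻¹ * v 0 0 d * y * (v 0 0 d)⁻¹ = v (T.nm (p y) * d) (p y * algebraMap k F d) 0 := by
    rw [h1, h.v_inv, ← h.v_add]
    have := h.h2
    simp only [mul_zero, map_zero, zero_add, add_zero]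
    congr 1
    linear_combination d * this
  rw [h2, h3, o.w_mul _ hy _ (h.E_le _ _), OutL.w_E h o, o.p_eq y hy, mul_comm (algebraMap k F d)]

/-- the Siegel transformations with centre `e₀` -/
theorem siegel₀ (h : GIn T S V R Q Q' v p p') (f : Fld T V R Q Q' v p φ χ)
    (o : Out T V R Q Q' v p φ χ hm w g f₀ ι) (z : W) (a : F) (hz : g z (w (v 0 1 0)) = 0)
    (ha : a + T.sg a = g z z) : ∃ c : ↥(normalizer (R : Set G)), ∀ m, rho h o c m =
      m + g m (w (v 0 1 0)) • z + (g m z + a * g m (w (v 0 1 0))) • w (v 0 1 0) := by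
  have H := herm h o
  have h2F : (2 : F) = 0 := H.two
  have fe : g f₀ (w (v 0 1 0)) = 1 := by rw [o.g_sym, o.g_ef, map_one]
  have ιe : ∀ u, g (ι u) (w (v 0 1 0)) = 0 := fun u => by rw [o.g_sym, o.g_eι, map_zero]
  obtain ⟨b, x, b', rfl⟩ := o.span z
  have h1 := hz
  rw [o.g_add, o.g_add, o.g_smul, o.g_smul, o.g_ee, ιe, fe, mul_zero, zero_add, zero_add, mul_one] at h1
  subst h1
  rw [zero_smul, add_zero] at ha hz ⊢
  generalize hE : w (v 0 1 0) = E at *
  have gee : g E E = 0 := by rw [← hE]; exact o.g_ee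
  have geι : ∀ u, g E (ι u) = 0 := fun u => by rw [← hE]; exact o.g_eι u
  have e1 : g (b • E + ι x) (b • E + ι x) = hm x x := by
    rw [H.add, H.add_r, H.add_r, H.smul, H.smul_r, H.smul, H.smul_r, gee, geι, ιe, o.g_ιι]; ring
  rw [e1] at ha
  obtain ⟨n, hn, hnV, hχ⟩ := f.χ_surj x
  obtain ⟨r, hr, hact⟩ := o.χ_act n hn hnV
  rw [hχ] at hr hact
  have hnR : n ∈ normalizer (R : Set G) := h.CR_le_NR (h.CV_le_CR hnV)
  -- the difference of the parameters lies in `k`
  obtain ⟨d, hd⟩ := T.fix (a + b + T.sg b + r) (by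
    rw [map_add, map_add, map_add, T.sg_sg]
    linear_combination ha - hr + (T.sg r - a) * h2F)
  obtain ⟨c, hc⟩ := transv h o d
  refine ⟨c * ⟨n, hnR⟩, fun m => ?_⟩
  rw [rho_mul, hc]
  obtain ⟨y, hy, rfl⟩ := o.w_surj m
  rw [rho_w h o _ hy]
  rw [hE] at hact hc
  have e2 : w ((⟨n, hnR⟩ : ↥(normalizer (R : Set G))) * y * ((⟨n, hnR⟩ : ↥(normalizer (R : Set G))) : G)⁻¹)
      = w y + g (w y) E • ι x + (g (w y) (ι x) + r * g (w y) E) • E := hact y hy
  rw [hE, e2]
  have e3 : g (w y + g (w y) E • ι x + (g (w y) (ι x) + r * g (w y) E) • E) E = g (w y) E := by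
    rw [H.add, H.add, H.smul, H.smul, ιe, gee, mul_zero, mul_zero, add_zero, add_zero]
  rw [e3, hd, H.add_r, H.smul_r, smul_add, smul_smul, sgR_apply]
  have e4 : (g (w y) (ι x) + r * g (w y) E) • E + ((a + b + T.sg b + r) * g (w y) E) • E
      = (g (w y) E * b) • E + (T.sg b * g (w y) E + g (w y) (ι x) + a * g (w y) E) • E := by
    rw [← add_smul, ← add_smul]
    congr 1
    linear_combination (r * g (w y) E) * h2F
  rw [add_assoc (w y + g (w y) E • ι x), e4]
  abel

/-- **all the Siegel transformations** -/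
theorem siegel (h : GIn T S V R Q Q' v p p') (f : Fld T V R Q Q' v p φ χ)
    (o : Out T V R Q Q' v p φ χ hm w g f₀ ι) (y z : W) (a : F) (hy : g y y = 0) (hz : g z y = 0)
    (ha : a + sgR T a = g z z) : ∃ c : ↥(normalizer (R : Set G)), ∀ m, rho h o c m =
      m + g m y • z + (g m z + a * g m y) • y := by
  have H := herm h o
  have h2F : (2 : F) = 0 := H.two
  by_cases hy0 : y = 0
  · subst hy0
    refine ⟨1, fun m => ?_⟩
    rw [rho_one, H.zero_r, zero_smul, smul_zero, add_zero, add_zero]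
  obtain ⟨c, hcR, hlin, hiso, s, hs⟩ := o.tran y hy0 hy
  have hcN := h.CR_le_NR hcR
  set c' : ↥(normalizer (R : Set G)) := ⟨c, hcN⟩ with hc'
  have r1 : ∀ x (hx : x ∈ Q), rho h o c' (w x) = w (c * x * c⁻¹) := fun x hx => rho_w h o c' hx
  have lin : ∀ (t : F) m, rho h o c' (t • m) = t • rho h o c' m := by
    intro t m
    obtain ⟨x, hx, rfl⟩ := o.w_surj m
    obtain ⟨x', hx', hxx⟩ := o.w_surj (t • w x)
    rw [← hxx, r1 x' hx', r1 x hx]
    exact hlin t x hx x' hx' hxx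
  have iso : ∀ m m', g (rho h o c' m) (rho h o c' m') = g m m' := by
    intro m m'
    obtain ⟨x, hx, rfl⟩ := o.w_surj m
    obtain ⟨x', hx', rfl⟩ := o.w_surj m'
    rw [r1 x hx, r1 x' hx']
    exact hiso x hx x' hx'
  have hce : rho h o c' (w (v 0 1 0)) = s • y := by
    rw [r1 _ (h.E_le 0 1)]; exact hs
  have hs0 : s ≠ 0 := by
    rintro rfl
    rw [zero_smul, ← map_zero (rho h o c')] at hce
    exact OutL.e₀_ne h o ((rho h o c').injective hce)
  have hsg0 : T.sg s ≠ 0 := fun h' => hs0 (by simpa using h')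
  have inv1 : ∀ m, rho h o c'⁻¹ (rho h o c' m) = m := fun m => by
    rw [← rho_mul, inv_mul_cancel, rho_one]
  have inv2 : ∀ m, rho h o c' (rho h o c'⁻¹ m) = m := fun m => by
    rw [← rho_mul, mul_inv_cancel, rho_one]
  have iso' : ∀ m m', g (rho h o c'⁻¹ m) m' = g m (rho h o c' m') := fun m m' => by
    rw [← iso, inv2]
  obtain ⟨x, hx⟩ := siegel₀ h f o ((T.sg s)⁻¹ • rho h o c'⁻¹ z) (a / (s * T.sg s))
    (by rw [H.smul, iso', hce, H.smul_r, hz, mul_zero, mul_zero])
    (by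
      rw [H.smul, H.smul_r, iso', inv2, ← ha, sgR_apply, sgR_apply, map_div₀, map_mul, map_inv₀, T.sg_sg]
      field_simp)
  refine ⟨c' * x * c'⁻¹, fun m => ?_⟩
  rw [rho_mul, rho_mul, hx, map_add, map_add, inv2, lin, lin, lin, inv2, hce, iso', hce, H.smul_r, H.smul_r,
    iso', inv2, smul_smul, smul_smul, sgR_apply, sgR_apply, map_inv₀, T.sg_sg]
  congr 2
  · congr 1; field_simp
  · field_simp

/-- the hypothesis: `N(R)` acts by semilinear similitudes -/
def Semi (R Q : Subgroup G) (w : G → W) (g : W → W → F) : Prop :=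
  ∀ c ∈ normalizer (R : Set G), ∃ (τ : F →+* F) (μ : F), μ ≠ 0 ∧
    (∀ (s : F), ∀ x ∈ Q, ∀ y ∈ Q, w y = s • w x → w (c * y * c⁻¹) = τ s • w (c * x * c⁻¹)) ∧
    (∀ x ∈ Q, ∀ y ∈ Q, g (w (c * x * c⁻¹)) (w (c * y * c⁻¹)) = μ * τ (g (w x) (w y)))

theorem rho_semi (hs : Semi R Q w g) (c : ↥(normalizer (R : Set G))) : ∃ (τ : F →+* F) (μ : F), μ ≠ 0 ∧
    (∀ (s : F) m, rho h o c (s • m) = τ s • rho h o c m) ∧
    ∀ m m', g (rho h o c m) (rho h o c m') = μ * τ (g m m') := by
  obtain ⟨τ, μ, hμ, h1, h2⟩ := hs c c.2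
  refine ⟨τ, μ, hμ, fun s m => ?_, fun m m' => ?_⟩
  · obtain ⟨x, hx, rfl⟩ := o.w_surj m
    obtain ⟨x', hx', hxx⟩ := o.w_surj (s • w x)
    rw [← hxx, rho_w h o c hx', rho_w h o c hx]
    exact h1 s x hx x' hx' hxx
  · obtain ⟨x, hx, rfl⟩ := o.w_surj m
    obtain ⟨x', hx', rfl⟩ := o.w_surj m'
    rw [rho_w h o c hx, rho_w h o c hx']
    exact h2 x hx x' hx'

/-- **`N(R)` acts on the hermitian space `Q / R`, with a flag which starts with `F e₀`** -/
theorem exists_pol [Finite G] (h : GIn T S V R Q Q' v p p') (f : Fld T V R Q Q' v p φ χ)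
    (o : Out T V R Q Q' v p φ χ hm w g f₀ ι) (hs : Semi R Q w g) :
    Module.Finite F W ∧ ∃ (sigma : ↥(normalizer (R : Set G)) →* Equiv.Perm (Submodule F W)) (m : ℕ)
      (fl : ℕ → Submodule F W), Pol (normalizer (R : Set G)) (Nat.card k) (sgR T) g (rho h o) sigma m fl ∧
        fl 1 = F ∙ w (v 0 1 0) ∧ 1 ≤ m := by
  have hF := T.finF
  have hW : Finite W := Finite.of_surjective w (fun m => by
    obtain ⟨x, -, hx⟩ := o.w_surj m; exact ⟨x, hx⟩)
  have hfin : Module.Finite F W := Module.Finite.of_finite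
  refine ⟨hfin, ?_⟩
  have H := herm h o
  obtain ⟨sigma, hsig⟩ := exists_sigma (rho_mul h o) (fun c => by
    obtain ⟨τ, μ, -, h1, -⟩ := rho_semi h o hs c
    exact ⟨τ, h1⟩)
  obtain ⟨m, hm⟩ := H.exists_witt
  obtain ⟨fl, hfl, h1, hm1⟩ := H.exists_fl_of hm (OutL.e₀_ne h o) o.g_ee
  exact ⟨sigma, m, fl, ⟨H, ⟨rho_mul h o, hsig, rho_semi h o hs, siegel h f o⟩, hm, hfl⟩, h1, hm1⟩

end act

end Cfsg.Agent.Omega.NO1U.CSide
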