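import Cfsg.Agent.Omega.NO1U.EndSys
import Cfsg.Agent.Omega.NO1U.SemiOf

/-!
# The closing of NO-1' (β), q ≥ 4, `dim Φ ≥ 2`: from `XD` and `G = ⟨N(V), N(R)⟩`
-/

set_option autoImplicit false
set_option linter.style.haveILetI false

open Subgroup
open Cfsg.Agent.Omega.NOne.SU

namespace Cfsg.Agent.Omega.NO1U.EndBig

universe u

variable {G : Type u} [Group G] {k F : Type*} [Field k] [Field F] [Algebra k F] {T : Quad k F}
  {S : Sylow 2 G} {I : Type*} {V : Subgroup G} {Rf Qf : I → Subgroup G} {i j : I}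
  {v : k → F → k → G} {p p' : G → F} {Φ : Type*} [AddCommGroup Φ] [Module F Φ] {φ χ : G → Φ}

/-- **a simple group `G = ⟨N(V), N(R)⟩` with `XD` and `dim Φ ≥ 2` is of Lie type** -/
theorem isLie [Finite G] [IsSimpleGroup G] (D : XD T S V Rf Qf i j v p p' φ χ)
    (hMC : normalizer (V : Set G) ⊔ normalizer (Rf i : Set G) = ⊤)
    (hΦ : ∀ x : Φ, ∃ y : Φ, ∀ s : F, y ≠ s • x) :
    Cfsg.IsPSL G ∨ Cfsg.IsPSp G ∨ Cfsg.IsPSU G ∨ Cfsg.IsPOmegaOdd G ∨ Cfsg.IsPOmegaPlus G ∨ Cfsg.IsPOmegaMinus G ∨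
      Cfsg.IsExceptionalLieType G := by
  letI : Module k Φ := Module.compHom Φ (algebraMap k F)
  haveI : IsScalarTower k F Φ := IsScalarTower.of_algebraMap_smul fun _ _ => rfl
  have hn : Nontrivial Φ := by
    obtain ⟨y, hy⟩ := hΦ 0
    exact ⟨y, 0, fun h => hy 0 (by rw [h, smul_zero])⟩
  obtain ⟨W, _, _, w, g, f₀, ι, hm, o, hs⟩ := SemiOf.exists_Out_semi D.g D.f
  exact EndSys.isLie D o (hs hn) hMC hΦ

/-- **`dim Φ ≥ 2`: known** -/
theorem known [Finite G] [IsSimpleGroup G] (D : XD T S V Rf Qf i j v p p' φ χ)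
    (hMC : normalizer (V : Set G) ⊔ normalizer (Rf i : Set G) = ⊤)
    (h2 : 2 ≤ Module.finrank F Φ) : Cfsg.IsKnownSimple' G := by
  have hfin : Module.Finite F Φ := Module.finite_of_finrank_pos (by omega)
  have h := isLie D hMC fun x => by
    by_contra hcon
    push Not at hcon
    have h1 : (⊤ : Submodule F Φ) ≤ Submodule.span F {x} := fun y _ => by
      obtain ⟨s, hs⟩ := hcon y
      exact Submodule.mem_span_singleton.2 ⟨s, hs.symm⟩
    have h3 := Submodule.finrank_mono h1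
    rw [finrank_top] at h3
    have h4 := finrank_span_le_card (R := F) ({x} : Set Φ)
    rw [Set.toFinset_singleton, Finset.card_singleton] at h4
    omega
  rcases h with h | h | h | h | h | h | h
  · exact Or.inr (Or.inr (Or.inl h))
  · exact Or.inr (Or.inr (Or.inr (Or.inl h)))
  · exact Or.inr (Or.inr (Or.inr (Or.inr (Or.inl h))))
  · exact Or.inr (Or.inr (Or.inr (Or.inr (Or.inr (Or.inl h)))))
  · exact Or.inr (Or.inr (Or.inr (Or.inr (Or.inr (Or.inr (Or.inl h))))))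
  · exact Or.inr (Or.inr (Or.inr (Or.inr (Or.inr (Or.inr (Or.inr (Or.inl h)))))))
  · exact Or.inr (Or.inr (Or.inr (Or.inr (Or.inr (Or.inr (Or.inr (Or.inr (Or.inl h))))))))

end Cfsg.Agent.Omega.NO1U.EndBig
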