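import Cfsg.Agent.Omega.NO1U.CSide
import Cfsg.Agent.ParSys.FreeLieLoc
import Cfsg.Agent.ParSys.FreePan

/-!
# The closing of NO-1' (β), q ≥ 4, `dim Φ ≥ 2`: the parabolic system of type `B_{m+1}`

`sys : SysL`, `card_U`, **`isLie`** : a simple group `G = ⟨N(V), N(R)⟩` with `XD`, `Out`, `Semi` and `dim Φ ≥ 2` is of
Lie type.
-/

set_option autoImplicit false
set_option linter.unusedVariables false
set_option linter.unusedSectionVars false

open Subgroup Module
open Cfsg.Agent.Omega.NO1.Beta.Meet Cfsg.Agent.Omega.NOne.SU Cfsg.Agent.ParSys.Polar.Flags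
open Cfsg.Agent.ParSys.Polar.Hermit Cfsg.Agent.ParSys.Polar.Unip Cfsg.Agent.ParSys.RankTwo
open Cfsg.Agent.ParSys Cfsg.Agent.ParSys.RootEpsBD Cfsg.Agent.ParSys.FreeCount

namespace Cfsg.Agent.Omega.NO1U.EndSys

open Cfsg.Agent.Omega.NO1U.CSide

/-- the Coxeter matrix of type `B_{m+1}` -/
def BM (m : ℕ) : CoxeterMatrix (Fin (m + 1)) where
  M := Matrix.of fun i j : Fin (m + 1) => if i = j then 1 else
    if ((i : ℕ) + 1 = j ∧ (j : ℕ) = m) ∨ ((j : ℕ) + 1 = i ∧ (i : ℕ) = m) then 4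
    else if (i : ℕ) + 1 = j ∨ (j : ℕ) + 1 = i then 3 else 2
  isSymm := by
    ext i j
    simp only [Matrix.transpose_apply, Matrix.of_apply]
    by_cases h : i = j
    · subst h; rfl
    · rw [if_neg h, if_neg (Ne.symm h)]
      simp only [or_comm]
  diagonal i := by simp
  off_diagonal i j h := by
    simp only [Matrix.of_apply, if_neg h]
    split_ifs <;> decide

theorem BM_apply (m : ℕ) (i j : Fin (m + 1)) : BM m i j = if i = j then 1 else
    if ((i : ℕ) + 1 = j ∧ (j : ℕ) = m) ∨ ((j : ℕ) + 1 = i ∧ (i : ℕ) = m) then 4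
    else if (i : ℕ) + 1 = j ∨ (j : ℕ) + 1 = i then 3 else 2 := rfl

theorem typeB (m : ℕ) : TypeB ((BM m).reindex (Equiv.refl _)) := by
  intro i j h
  have h1 := BM_apply m i j
  rw [if_neg h] at h1
  exact h1

universe u

variable {G : Type u} [Group G] {k F : Type*} [Field k] [Field F] [Algebra k F] {T : Quad k F}
  {S : Sylow 2 G} {I : Type*} {V : Subgroup G} {Rf Qf : I → Subgroup G} {i j : I}
  {v : k → F → k → G} {p p' : G → F}
  {Φ : Type*} [AddCommGroup Φ] [Module F Φ] {φ χ : G → Φ} {hm : Φ → Φ → F}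
  {W : Type*} [AddCommGroup W] [Module F W] {w : G → W} {g : W → W → F} {f₀ : W} {ι : Φ →ₗ[F] W}

/-- `|k| |F|^n ≤ |Q|` -/
theorem card_Q [Finite G] (D : XD T S V Rf Qf i j v p p' φ χ)
    (o : Out T V (Rf i) (Qf i) (Qf j) v p φ χ hm w g f₀ ι) [FiniteDimensional F W] :
    Nat.card k * Nat.card F ^ finrank F W ≤ Nat.card (Qf i) := by
  have hF := T.finF
  rw [← Module.natCard_eq_pow_finrank (K := F) (V := W), ← Nat.card_prod]
  refine Nat.card_le_card_of_injective (fun z : k × W => (⟨v z.1 0 0 * sec o z.2,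
    mul_mem (D.g.E_le _ _) (sec_mem o _)⟩ : Qf i)) ?_
  rintro ⟨a, x⟩ ⟨b, y⟩ h
  have h1 : v a 0 0 * sec o x = v b 0 0 * sec o y := congrArg Subtype.val h
  have h2 : x = y := by
    have h3 := congrArg w h1
    rw [o.w_mul _ (D.g.E_le _ _) _ (sec_mem o _), o.w_mul _ (D.g.E_le _ _) _ (sec_mem o _), w_sec o, w_sec o,
      OutL.w_R D.g o (D.g.mem_R.2 ⟨a, rfl⟩), OutL.w_R D.g o (D.g.mem_R.2 ⟨b, rfl⟩), zero_add, zero_add] at h3
    exact h3
  subst h2
  have h4 := mul_right_cancel h1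
  rw [(D.g.v_eq h4).1]

section pol

variable (D : XD T S V Rf Qf i j v p p' φ χ) (o : Out T V (Rf i) (Qf i) (Qf j) v p φ χ hm w g f₀ ι)
  {sigma : ↥(normalizer (Rf i : Set G)) →* Equiv.Perm (Submodule F W)} {m : ℕ}
  {fl : ℕ → Submodule F W}
  (P : Pol (normalizer (Rf i : Set G)) (Nat.card k) (sgR T) g (rho D.g o) sigma m fl)
  (hf1 : fl 1 = F ∙ w (v 0 1 0)) (hm2 : 2 ≤ m)

/-- the parabolic subgroups -/
def PP (Rf Qf : I → Subgroup G) (i j : I)
    (sigma : ↥(normalizer (Rf i : Set G)) →* Equiv.Perm (Submodule F W)) (m : ℕ)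
    (fl : ℕ → Submodule F W) (a : Fin (m + 1)) : Subgroup G :=
  if (a : ℕ) = 0 then (Qf i ⊔ Qf j) ⊔ fst (normalizer (Rf i : Set G)) sigma m fl ∅
  else fst (normalizer (Rf i : Set G)) sigma m fl {(a : ℕ)}

/-- the parameters -/
noncomputable def qq (k F W : Type*) [Field F] [AddCommGroup W] [Module F W] (m : ℕ) (a : Fin (m + 1)) : ℕ :=
  if (a : ℕ) = m then Nat.card k * Nat.card F ^ (finrank F W - 2 * m) else Nat.card F

theorem PP_zero {a : Fin (m + 1)} (h : (a : ℕ) = 0) :
    PP Rf Qf i j sigma m fl a = (Qf i ⊔ Qf j) ⊔ fst (normalizer (Rf i : Set G)) sigma m fl ∅ := if_pos h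

theorem PP_pos {a : Fin (m + 1)} (h : (a : ℕ) ≠ 0) :
    PP Rf Qf i j sigma m fl a = fst (normalizer (Rf i : Set G)) sigma m fl {(a : ℕ)} := if_neg h

theorem B_le [FiniteDimensional F W] (Rf Qf : I → Subgroup G) (i j : I)
    (sigma : ↥(normalizer (Rf i : Set G)) →* Equiv.Perm (Submodule F W)) (m : ℕ)
    (fl : ℕ → Submodule F W) (a : Fin (m + 1)) :
    fst (normalizer (Rf i : Set G)) sigma m fl ∅ ≤ PP Rf Qf i j sigma m fl a := by
  by_cases h : (a : ℕ) = 0
  · rw [PP_zero h]; exact le_sup_right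
  · rw [PP_pos h]; exact fst_mono (Set.empty_subset _)

include D o P hf1 hm2

theorem gp [Finite G] [FiniteDimensional F W] : Free.GP (fst (normalizer (Rf i : Set G)) sigma m fl ∅)
    (PP Rf Qf i j sigma m fl) (fun a b => BM m a b) := by
  have E := nd D o P hf1 (by omega : 1 ≤ m)
  have key : ∀ a b : Fin (m + 1), (a : ℕ) < b →
      GPp (fst (normalizer (Rf i : Set G)) sigma m fl ∅) (PP Rf Qf i j sigma m fl) a b (BM m a b) ∧
      GPp (fst (normalizer (Rf i : Set G)) sigma m fl ∅) (PP Rf Qf i j sigma m fl) b a (BM m a b) := by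
    intro a b hab
    have hb := b.2
    have hne : a ≠ b := fun h => by rw [h] at hab; exact lt_irrefl _ hab
    rw [BM_apply, if_neg hne]
    have hb0 : (b : ℕ) ≠ 0 := by omega
    by_cases ha : (a : ℕ) = 0
    · by_cases hb1 : (b : ℕ) = 1
      · rw [if_neg (by omega), if_pos (by omega)]
        refine gpp01 D o P hf1 (by omega) hm2 hne (B_le Rf Qf i j sigma m fl) (PP_zero ha) ?_
        rw [PP_pos hb0, hb1]
      · rw [if_neg (by omega), if_neg (by omega)]
        have h1 : PP Rf Qf i j sigma m fl b ≤ normalizer (V : Set G) := by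
          rw [PP_pos hb0]
          exact fst_le_N D o P hf1 (by omega) (by
            rw [Set.mem_singleton_iff]; omega)
        have h2 : PP Rf Qf i j sigma m fl b ≤ normalizer (Rf i : Set G) := by
          rw [PP_pos hb0]; exact fst_le
        exact ⟨Nd.digon D E (B_le Rf Qf i j sigma m fl) (PP_zero ha) h1 h2, Nd.digon' D E (B_le Rf Qf i j sigma m fl) (PP_zero ha) h1 h2⟩
    · by_cases h1 : (a : ℕ) + 1 = b
      · by_cases h2 : (b : ℕ) = m
        · rw [if_pos (by omega)]
          exact P.rk_four (B_le Rf Qf i j sigma m fl) (PP_pos ha) (PP_pos hb0) (by omega) h1 h2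
        · rw [if_neg (by omega), if_pos (by omega)]
          exact P.rk_three (B_le Rf Qf i j sigma m fl) (PP_pos ha) (PP_pos hb0) (by omega) h1 (by omega)
      · rw [if_neg (by omega), if_neg (by omega)]
        exact P.rk_two (B_le Rf Qf i j sigma m fl) (PP_pos ha) (PP_pos hb0) (by omega) (by omega)
  intro a b hab
  rcases lt_trichotomy (a : ℕ) b with h | h | h
  · exact (key a b h).1
  · exact absurd (Fin.ext h) hab
  · have h1 := (key b a h).2
    rwa [(BM m).symmetric] at h1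

/-- **the parabolic system** -/
theorem sys [Finite G] [IsSimpleGroup G] [FiniteDimensional F W]
    (hMC : normalizer (V : Set G) ⊔ normalizer (Rf i : Set G) = ⊤) :
    FreeLoc.SysL (BM m).toCoxeterSystem (fst (normalizer (Rf i : Set G)) sigma m fl ∅)
      (PP Rf Qf i j sigma m fl) (Un P.A m fl) (qq k F W m) where
  le := B_le Rf Qf i j sigma m fl
  gen := by
    have E := nd D o P hf1 (by omega : 1 ≤ m)
    refine Nd.gen D E hMC (P.gen (by omega) fun d hd1 hd => ?_) ?_
    · have h1 := le_iSup (PP Rf Qf i j sigma m fl) ⟨d, by omega⟩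
      rwa [PP_pos (by simp only; omega)] at h1
    · have h1 := le_iSup (PP Rf Qf i j sigma m fl) ⟨0, by omega⟩
      rwa [PP_zero rfl] at h1
  gp := gp D o P hf1 hm2
  card a := by
    have ha := a.2
    have E := nd D o P hf1 (by omega : 1 ≤ m)
    by_cases h0 : (a : ℕ) = 0
    · rw [PP_zero h0, Nd.card D E, qq, if_neg (by omega)]
    · rw [PP_pos h0, qq]
      by_cases hm' : (a : ℕ) = m
      · rw [if_pos hm', hm', P.relIndex_last (by omega)]
      · rw [if_neg hm', P.relIndex_lt (by omega) (by omega)]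
  two a := by
    have hF := T.finF
    have h1 := T.four
    have h2 : 2 ≤ Nat.card F := Finite.one_lt_card
    unfold qq
    split_ifs
    · exact le_trans (by omega) (Nat.mul_le_mul h1 (Nat.one_le_pow _ _ (by omega)))
    · exact h2
  U_le := un_le P.A
  pan a := by
    have ha := a.2
    have E := nd D o P hf1 (by omega : 1 ≤ m)
    by_cases h0 : (a : ℕ) = 0
    · rw [PP_zero h0]; exact Nd.pan D E
    · rw [PP_pos h0]; exact P.pan (by omega) (by omega)
  clo a := by
    have ha := a.2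
    have E := nd D o P hf1 (by omega : 1 ≤ m)
    by_cases h0 : (a : ℕ) = 0
    · rw [PP_zero h0]; exact Nd.clo D E
    · rw [PP_pos h0]; exact P.clo (by omega) (by omega)
  core x _ hx := by
    have hF := T.finF
    have E := nd D o P hf1 (by omega : 1 ≤ m)
    refine Cfsg.Agent.ParSys.Free.core_of_simple (B := fst (normalizer (Rf i : Set G)) sigma m fl ∅) ?_ x hx
    intro htop
    have h1 := Nd.card D E
    rw [htop, Subgroup.relIndex_eq_one.2 le_top] at h1
    have h2 : 2 ≤ Nat.card F := Finite.one_lt_card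
    omega

/-- the order of `U` -/
theorem card_U [Finite G] [FiniteDimensional F W] :
    (Nat.card F) ^ ((m + 1) * m) * (Nat.card k * Nat.card F ^ (finrank F W - 2 * m)) ^ (m + 1)
      ≤ Nat.card (Un P.A m fl) := by
  have h1 := P.card_un (Q := Qf i) (Q_le D.g) (fun x hx m => rho_Q D.g o hx _ m)
  refine le_trans (le_trans (le_of_eq ?_) (Nat.mul_le_mul_right _ (card_Q D o))) h1
  rw [T.card]
  generalize Nat.card k = q
  rcases P.finrank_eq with hn | hn
  · rw [hn, Nat.sub_self, pow_zero, mul_one]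
    have e1 : 2 * m * (2 * m - 1) / 2 = m * (2 * m - 1) := by
      rw [mul_assoc, Nat.mul_div_cancel_left _ two_pos]
    rw [e1, ← pow_mul, ← pow_add, ← pow_mul, ← pow_succ', ← pow_add]
    congr 1
    obtain ⟨r, rfl⟩ := Nat.exists_eq_add_of_le' hm2
    have e2 : 2 * (r + 2) - 1 = 2 * r + 3 := by omega
    rw [e2]; ring
  · rw [hn]
    have e0 : 2 * m + 1 - 2 * m = 1 := by omega
    have e1 : (2 * m + 1) * (2 * m + 1 - 1) / 2 = (2 * m + 1) * m := by
      rw [Nat.add_sub_cancel, mul_comm 2 m, ← mul_assoc, Nat.mul_div_cancel _ two_pos, mul_comm m 2]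
    rw [e0, e1, pow_one, ← pow_mul, ← pow_succ', ← pow_mul, ← pow_add, ← pow_mul, ← pow_succ', ← pow_add]
    congr 1
    ring

end pol

/-- **the closing for `dim Φ ≥ 2`** -/
theorem isLie [Finite G] [IsSimpleGroup G] (D : XD T S V Rf Qf i j v p p' φ χ)
    (o : Out T V (Rf i) (Qf i) (Qf j) v p φ χ hm w g f₀ ι) (hs : Semi (Rf i) (Qf i) w g)
    (hMC : normalizer (V : Set G) ⊔ normalizer (Rf i : Set G) = ⊤)
    (hΦ : ∀ x : Φ, ∃ y : Φ, ∀ s : F, y ≠ s • x) :
    Cfsg.IsPSL G ∨ Cfsg.IsPSp G ∨ Cfsg.IsPSU G ∨ Cfsg.IsPOmegaOdd G ∨ Cfsg.IsPOmegaPlus G ∨ Cfsg.IsPOmegaMinus G ∨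
      Cfsg.IsExceptionalLieType G := by
  have hF := T.finF
  obtain ⟨hfin, sigma, m, fl, P, hf1, hm1⟩ := exists_pol D.g D.f o hs
  -- `m ≥ 2`
  have hm2 : 2 ≤ m := by
    have hfW : Finite W := Module.finite_of_finite F
    have hfΦ : Finite Φ := Finite.of_injective ι (by
      rw [← LinearMap.ker_eq_bot, LinearMap.ker_eq_bot']
      intro x hx
      refine o.hm_nondeg x fun u => ?_
      rw [← o.g_ιι, hx]; exact OutL.g_zero D.g o _)
    have hfinΦ : Module.Finite F Φ := Module.Finite.of_finite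
    have h1 := finrank_W D o
    have h2 : 2 ≤ finrank F Φ := by
      by_contra hlt
      have h3 : finrank F Φ ≤ 1 := by omega
      obtain ⟨x, hx⟩ := finrank_le_one_iff.1 h3
      obtain ⟨y, hy⟩ := hΦ x
      obtain ⟨s, hs⟩ := hx y
      exact hy s hs.symm
    have h3 := P.finrank_eq
    omega
  refine FreeLieLoc.isLie (hasQ_B (Equiv.refl (Fin (m + 1))) (typeB m) (x := Nat.card F)
    (y := Nat.card k * Nat.card F ^ (finrank F W - 2 * m)) (q := qq k F W m) fun a => rfl)
    (sys D o P hf1 hm2 hMC) (card_U D o P hf1 hm2) ?_ (conn_B (Equiv.refl _) (typeB m))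
  rw [Nat.card_eq_fintype_card, Fintype.card_fin]
  omega

end Cfsg.Agent.Omega.NO1U.EndSys
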