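import Cfsg.Agent.Omega.NO1U.XCor
import Cfsg.Agent.Omega.NO1U.PlaneLineB
import Cfsg.Agent.Omega.NO1U.PlaneInv

/-!
# NO-1' (β), closing, residue `{0, 1}`: the instance of `Base`

`CX_le_Y` : `C_X(V) ≤ Y`.  `exists_base` : the torus `T` (cyclic of odd order, `C_Y(T) = 1`) and `n` (swaps `R`, `R'`
and normalises `T`).
-/

set_option autoImplicit false
set_option linter.unusedVariables false
set_option linter.unusedSectionVars false

open Subgroup
open scoped Pointwise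
open Cfsg.Agent.Omega.NO1.Beta.Meet Cfsg.Agent.Omega.NOne.SU

namespace Cfsg.Agent.Omega.NO1U

universe u

variable {G : Type u} [Group G] {k F : Type*} [Field k] [Field F] [Algebra k F] {T : Quad k F} {S : Sylow 2 G}
  {I : Type*} {V : Subgroup G} {Rf Qf : I → Subgroup G} {i j : I} {v : k → F → k → G} {p p' : G → F}
  {Φ : Type*} [AddCommGroup Φ] [Module F Φ] {φ χ : G → Φ}

theorem Yg_eq (M : Mt V Rf Qf) (hne : i ≠ j) : Yg V (Qf i) (Qf j) = YY V Qf i j := by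
  apply le_antisymm
  · refine sup_le (sup_le le_sup_left le_sup_right) ?_
    refine (M.VE i j hne).trans (sup_le ?_ ?_)
    · exact (le_inf inf_le_right (inf_le_left.trans M.V_le_C)).trans le_sup_left
    · exact (le_inf (M.R_Q j) ((M.R_le j).trans M.V_le_C)).trans le_sup_right
  · exact le_sup_left

namespace XD

variable (D : XD T S V Rf Qf i j v p p' φ χ)
include D

/-- **`C_X(V) ≤ Y`** -/
theorem CX_le_Y {hm : Φ → Φ → F} {W : Type*} [AddCommGroup W] [Module F W]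
    {w : G → W} {g : W → W → F} {f₀ : W} {ι : Φ →ₗ[F] W} (o : Out T V (Rf i) (Qf i) (Qf j) v p φ χ hm w g f₀ ι)
    {x : G} (hx : x ∈ Qf i ⊔ Qf j) (hxV : x ∈ centralizer (V : Set G)) : x ∈ YY V Qf i j := by
  have hxCR := D.g.CV_le_CR hxV
  have hxR := D.g.CR_le_NR hxCR
  obtain ⟨n, hn, hnV, d, y, hy, rfl⟩ := o.rad x hxCR (by
      intro b
      have h1 := (mem_centralizer_iff.1 hxV) (v 0 b 0) (D.g.v_mem _ _ _)
      congr 1
      rw [← h1]; group) (by
      intro y hy h0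
      have hyV : y ∈ centralizer (V : Set G) := by
        rw [← D.g.p_eq_zero hy, o.p_eq y hy, h0]
      have h2 : x * y * x⁻¹ ∈ Qf i := D.g.nor x hxR y hy
      have h3 : x * y * x⁻¹ ∈ centralizer (V : Set G) := mul_mem (mul_mem hxV hyV) (inv_mem hxV)
      have h1 : φ (x * y * x⁻¹) = φ y :=
        (D.rep_uniq (D.rep_left (mem_inf.2 ⟨h2, h3⟩)) (D.triv hx hxV (D.rep_left (mem_inf.2 ⟨hy, hyV⟩)))).1
      obtain ⟨a, ha⟩ := o.φ_eq y hy hyV
      obtain ⟨a', ha'⟩ := o.φ_eq _ h2 h3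
      refine ⟨a' - a, ?_⟩
      rw [ha', ha, h1, o.w_e (a' - a), sub_smul]
      abel) (by
      intro y hy
      have h2 : x * y * x⁻¹ ∈ Qf i := D.g.nor x hxR y hy
      rw [← o.p_eq _ h2, ← o.p_eq y hy]
      -- same action on `V`
      have e1 := D.g.act _ h2 0 0 1
      have e2 := D.g.act y hy 0 0 1
      have e3 : x * y * x⁻¹ * v 0 0 1 * (x * y * x⁻¹)⁻¹ = y * v 0 0 1 * y⁻¹ := by
        have h6 : x⁻¹ * v 0 0 1 * x = v 0 0 1 := by
          have := (mem_centralizer_iff.1 hxV) (v 0 0 1) (D.g.v_mem _ _ _)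
          rw [mul_assoc, this]; group
        have h7 : y * v 0 0 1 * y⁻¹ ∈ V := (mem_normalizer_iff.1 (D.M.Q_V i hy) _).1 (D.g.v_mem _ _ _)
        have h8 := (mem_centralizer_iff.1 hxV) _ h7
        calc x * y * x⁻¹ * v 0 0 1 * (x * y * x⁻¹)⁻¹ = x * (y * (x⁻¹ * v 0 0 1 * x) * y⁻¹) * x⁻¹ := by group
          _ = x * (y * v 0 0 1 * y⁻¹) * x⁻¹ := by rw [h6]
          _ = (y * v 0 0 1 * y⁻¹) * x * x⁻¹ := by rw [← h8]
          _ = y * v 0 0 1 * y⁻¹ := by group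
      rw [e1, e2] at e3
      have := (GEnd.v_eq D.g e3).2.1
      simpa using this)
  -- `y ∈ C(V)`
  have hd : v 0 0 d ∈ centralizer (V : Set G) := D.VC (D.g.v_mem _ _ _)
  have hyV : y ∈ centralizer (V : Set G) := by
    have e : y = (v 0 0 d)⁻¹ * (n⁻¹ * (n * v 0 0 d * y)) := by group
    rw [e]
    exact mul_mem (inv_mem hd) (mul_mem (inv_mem hnV) hxV)
  refine mul_mem (mul_mem (mem_sup_right (mem_inf.2 ⟨hn, hnV⟩)) ?_) (mem_sup_left (mem_inf.2 ⟨hy, hyV⟩))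
  exact D.V_le_Y (D.g.v_mem _ _ _)

/-- `Y` is a 2-group -/
theorem Y_two : IsPGroup 2 (YY V Qf i j) := by
  rintro ⟨y, hy⟩
  refine ⟨2, Subtype.ext ?_⟩
  obtain ⟨u, w, h⟩ := D.rep_Y.1 hy
  have h1 := D.rep_mul h h
  rw [D.addΦ, D.addΦ] at h1
  have h2 := D.two_inv (D.rep_zero h1)
  change y ^ (2 ^ 2) = 1
  have e : y ^ (2 ^ 2) = y * y * (y * y) := by
    rw [show (2 : ℕ) ^ 2 = 2 + 2 by norm_num, pow_add, pow_two]
  rw [e, h2]

end XD

/-- `t` acts on `Y / V` and on `V` with the weights of `z` -/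
structure Tw (T : Quad k F) (V : Subgroup G) (Qf : I → Subgroup G) (i j : I) (v : k → F → k → G) (φ χ : G → Φ)
    (t : G) (z : F) : Prop where
  X : t ∈ Qf i ⊔ Qf j
  rep : ∀ m u w, Rep V Qf i j φ χ m u w → Rep V Qf i j φ χ (t * m * t⁻¹) (z • u) (z⁻¹ • w)
  act : ∀ a b d, t * v a b d * t⁻¹ = v (T.nm z * a) (z * (T.sg z)⁻¹ * b) ((T.nm z)⁻¹ * d)

namespace Tw

theorem nm_mul (T : Quad k F) (z z' : F) : T.nm (z * z') = T.nm z * T.nm z' := by
  apply (algebraMap k F).injective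
  rw [map_mul, T.nm_eq, T.nm_eq, T.nm_eq, map_mul]
  ring

theorem mul {t t' : G} {z z' : F} (h : Tw T V Qf i j v φ χ t z) (h' : Tw T V Qf i j v φ χ t' z') :
    Tw T V Qf i j v φ χ (t * t') (z * z') := by
  refine ⟨mul_mem h.X h'.X, ?_, ?_⟩
  · intro m u w hr
    have h1 := h.rep _ _ _ (h'.rep _ _ _ hr)
    have e : t * t' * m * (t * t')⁻¹ = t * (t' * m * t'⁻¹) * t⁻¹ := by group
    rw [e, mul_smul, mul_inv, mul_smul]
    exact h1
  · intro a b d
    have e : t * t' * v a b d * (t * t')⁻¹ = t * (t' * v a b d * t'⁻¹) * t⁻¹ := by group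
    rw [e, h'.act, h.act, nm_mul, map_mul, mul_inv, mul_inv]
    congr 1 <;> ring

theorem pow {t : G} {z : F} (h : Tw T V Qf i j v φ χ t z) (N : ℕ) :
    Tw T V Qf i j v φ χ (t ^ (2 ^ N)) (z ^ (2 ^ N)) := by
  induction N with
  | zero => simpa using h
  | succ N ih =>
    have h1 := ih.mul ih
    rwa [← pow_add, ← pow_add, ← two_mul, ← pow_succ'] at h1

end Tw

/-- a field element with `z ≠ 0`, `σ z ≠ z`, `N z ≠ 1` -/
theorem exists_z (T : Quad k F) (h2 : (2 : F) = 0) : ∃ z : F, z ≠ 0 ∧ T.sg z ≠ z ∧ T.nm z ≠ 1 := by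
  have hF := GEnd.finF T
  have hk : Finite k := Finite.of_injective _ (algebraMap k F).injective
  have h1 : ∃ u : F, T.sg u ≠ u := by
    by_contra hcon
    push Not at hcon
    have hs : Function.Surjective (algebraMap k F) := fun x => T.fix x (hcon x)
    have hb : Function.Bijective (algebraMap k F) := ⟨(algebraMap k F).injective, hs⟩
    have h3 := Nat.card_congr (Equiv.ofBijective _ hb)
    have h4 := T.card
    have h5 := T.four
    rw [← h3] at h4
    nlinarith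
  obtain ⟨u, hu⟩ := h1
  have hu0 : u ≠ 0 := by
    rintro rfl; exact hu (map_zero _)
  obtain ⟨a, ha0, ha1⟩ : ∃ a : k, a ≠ 0 ∧ a ≠ 1 := by
    classical
    by_contra hcon
    push Not at hcon
    have h3 : ∀ a : k, a ∈ ({0, 1} : Finset k) := by
      intro a
      by_cases h0 : a = 0
      · simp [h0]
      · simp [hcon a h0]
    have hft := Fintype.ofFinite k
    have h4 : Nat.card k ≤ 2 := by
      rw [Nat.card_eq_fintype_card, ← Finset.card_univ]
      exact (Finset.card_le_card (fun a _ => h3 a)).trans Finset.card_le_two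
    have := T.four
    omega
  by_cases hn : T.nm u = 1
  · refine ⟨algebraMap k F a * u, mul_ne_zero (by simpa using ha0) hu0, ?_, ?_⟩
    · rw [map_mul, AlgEquiv.commutes]
      intro h
      exact hu (mul_left_cancel₀ (by simpa using ha0) h)
    · rw [Tw.nm_mul, hn, mul_one]
      intro h
      have h3 := congrArg (algebraMap k F) h
      rw [T.nm_eq, AlgEquiv.commutes, map_one, ← map_mul, ← map_one (algebraMap k F)] at h3
      have h4 : a * a = 1 := (algebraMap k F).injective h3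
      have hk2 : (2 : k) = 0 := by
        apply (algebraMap k F).injective
        rw [map_ofNat, h2, map_zero]
      have h5 : (a - 1) * (a - 1) = 0 := by linear_combination h4 - (a - 1) * hk2
      exact ha1 (sub_eq_zero.1 (mul_self_eq_zero.1 h5))
  · exact ⟨u, hu0, hu, hn⟩

theorem sg_pow (T : Quad k F) (z : F) (N : ℕ) : T.sg (z ^ N) = T.sg z ^ N := map_pow _ _ _

theorem nm_pow (T : Quad k F) (z : F) (N : ℕ) : T.nm (z ^ N) = T.nm z ^ N := by
  apply (algebraMap k F).injective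
  rw [map_pow, T.nm_eq, T.nm_eq, sg_pow, mul_pow]

/-- the Frobenius is injective -/
theorem pow_two_pow_inj {K : Type*} [Field K] (h2 : (2 : K) = 0) (N : ℕ) {a b : K} (h : a ^ (2 ^ N) = b ^ (2 ^ N)) :
    a = b := by
  induction N with
  | zero => simpa using h
  | succ N ih =>
    apply ih
    rw [pow_succ, pow_mul, pow_mul] at h
    have h5 : (a ^ (2 ^ N) - b ^ (2 ^ N)) * (a ^ (2 ^ N) - b ^ (2 ^ N)) = 0 := by
      linear_combination h - (a ^ (2 ^ N) * b ^ (2 ^ N) - b ^ (2 ^ N) * b ^ (2 ^ N)) * h2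
    exact sub_eq_zero.1 (mul_self_eq_zero.1 h5)

namespace XD

variable (D : XD T S V Rf Qf i j v p p' φ χ)
include D

theorem exists_tw {z : F} (hz : z ≠ 0) : ∃ t, Tw T V Qf i j v φ χ t z := by
  obtain ⟨t, ht, h1, h2, h3, h4⟩ := D.f.tor z hz
  refine ⟨t, ht, ?_, h1⟩
  rintro m u w ⟨a, ha, b, hb, rfl, rfl, rfl⟩
  have htN : t ∈ normalizer (V : Set G) := X_le_N D.M ht
  refine ⟨t * a * t⁻¹, mem_inf.2 ⟨(h2 a ha.1).1, cent_conj htN ha.2⟩, t * b * t⁻¹,
    mem_inf.2 ⟨(h4 b hb.1 hb.2).1, cent_conj htN hb.2⟩, by group, h3 a ha.1 ha.2, (h4 b hb.1 hb.2).2⟩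

/-- the fixed points of `t` in `Y` -/
theorem tw_fix {t : G} {z : F} (h : Tw T V Qf i j v φ χ t z) (hz0 : z ≠ 0) (hz : T.sg z ≠ z) (hn : T.nm z ≠ 1) {y : G}
    (hy : y ∈ YY V Qf i j) (hc : t * y = y * t) : y = 1 := by
  have hz1 : z ≠ 1 := by
    rintro rfl; exact hz (map_one _)
  have e : t * y * t⁻¹ = y := by rw [hc]; group
  obtain ⟨u, w, hr⟩ := D.rep_Y.1 hy
  have h1 := h.rep _ _ _ hr
  rw [e] at h1
  obtain ⟨h3, h4⟩ := D.rep_uniq h1 hr
  have hu : u = 0 := by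
    have : (z - 1) • u = 0 := by rw [sub_smul, h3, one_smul, sub_self]
    exact (smul_eq_zero.1 this).resolve_left (sub_ne_zero.2 hz1)
  have hw : w = 0 := by
    have : (z⁻¹ - 1) • w = 0 := by rw [sub_smul, h4, one_smul, sub_self]
    refine (smul_eq_zero.1 this).resolve_left (sub_ne_zero.2 ?_)
    intro h5
    exact hz1 (by rw [← inv_inv z, h5, inv_one])
  subst hu hw
  obtain ⟨a, b, d, rfl⟩ := D.g.v_surj _ (D.rep_zero hr)
  rw [h.act] at e
  obtain ⟨e1, e2, e3⟩ := GEnd.v_eq D.g e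
  have ha : a = 0 := by
    have : (T.nm z - 1) * a = 0 := by rw [sub_mul, e1, one_mul, sub_self]
    exact (mul_eq_zero.1 this).resolve_left (sub_ne_zero.2 hn)
  have hd : d = 0 := by
    have : ((T.nm z)⁻¹ - 1) * d = 0 := by rw [sub_mul, e3, one_mul, sub_self]
    refine (mul_eq_zero.1 this).resolve_left (sub_ne_zero.2 ?_)
    intro h5
    exact hn (by rw [← inv_inv (T.nm z), h5, inv_one])
  have hs0 : T.sg z ≠ 0 := QuadF.sg_ne T hz0
  have hb : b = 0 := by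
    have : (z * (T.sg z)⁻¹ - 1) * b = 0 := by rw [sub_mul, e2, one_mul, sub_self]
    refine (mul_eq_zero.1 this).resolve_left (sub_ne_zero.2 ?_)
    intro h5
    apply hz
    field_simp at h5
    exact h5.symm
  rw [ha, hb, hd]
  exact GEnd.v_zero D.g

end XD

namespace XD

variable (D : XD T S V Rf Qf i j v p p' φ χ)
include D

open GEnd in
/-- an element of `X` which swaps `R`, `R'` and acts on `V` as the swap of the coordinates -/
theorem exists_swap : ∃ n ∈ Qf i ⊔ Qf j, cj n (Rf i) = Rf j ∧ cj n (Rf j) = Rf i ∧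
    ∀ a b d, n * v a b d * n⁻¹ = v d (T.sg b) a := by
  obtain ⟨x, y, hpx, hpy, Fr⟩ := D.frame
  have h := D.M.swap D.ne (Fr.hx 1) (Fr.hy 1⁻¹) (Fr.mat 1 one_ne_zero)
  refine ⟨nn x y 1, mul_mem (mul_mem (mem_sup_left (Fr.hx 1)) (mem_sup_right (Fr.hy _))) (mem_sup_left (Fr.hx 1)),
    h.2.2.1, h.2.2.2, ?_⟩
  intro a b d
  rw [nn_act D.g Fr.hx hpx Fr.hy hpy one_ne_zero]
  simp only [QuadF.nm_one T, map_one, inv_one, one_mul]

/-- **the instance of `Base`** -/
theorem exists_base [Finite G] {hm : Φ → Φ → F} {W : Type*} [AddCommGroup W] [Module F W]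
    {w : G → W} {g : W → W → F} {f₀ : W} {ι : Φ →ₗ[F] W} (o : Out T V (Rf i) (Qf i) (Qf j) v p φ χ hm w g f₀ ι) :
    ∃ (T₀ : Subgroup G) (n : G), Base (Rf i) V (Qf i ⊔ Qf j) (Qf i) (YY V Qf i j) T₀ n ∧ cj n (Rf i) = Rf j ∧
      cj n (Rf j) = Rf i := by
  obtain ⟨z₀, hz0, hzs, hzn⟩ := exists_z T (GEnd.h2 D.g)
  obtain ⟨t₀, ht₀⟩ := D.exists_tw hz0
  -- the odd part
  obtain ⟨N, m, hm2, hord⟩ := Nat.exists_eq_two_pow_mul_odd (orderOf_pos t₀).ne'
  have hk2 : (2 : k) = 0 := D.g.sp.two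
  have htw := ht₀.pow N
  set t := t₀ ^ (2 ^ N) with ht
  set z := z₀ ^ (2 ^ N) with hz
  have hzz0 : z ≠ 0 := pow_ne_zero _ hz0
  have hzzs : T.sg z ≠ z := by
    rw [hz, sg_pow]
    intro h
    exact hzs (pow_two_pow_inj (GEnd.h2 D.g) N h)
  have hzzn : T.nm z ≠ 1 := by
    rw [hz, nm_pow]
    intro h
    exact hzn (pow_two_pow_inj hk2 N (by rw [h, one_pow]))
  have hordt : Odd (orderOf t) := by
    have h1 : orderOf t = m := by
      rw [ht, orderOf_pow, hord, Nat.gcd_eq_right (Dvd.intro _ rfl), Nat.mul_div_cancel_left _ (by positivity)]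
    rw [h1]; exact hm2
  -- `t` and `n₀`
  obtain ⟨n₀, hn₀, hnR, hnR', hact⟩ := D.exists_swap
  have hc1 : n₀ * t * n₀⁻¹ * t ∈ YY V Qf i j := by
    apply D.CX_le_Y o (mul_mem (mul_mem (mul_mem hn₀ htw.X) (inv_mem hn₀)) htw.X)
    rw [GEnd.cent_iff D.g]
    intro a b d
    have hn' : ∀ a b d, n₀⁻¹ * v a b d * n₀ = v d (T.sg b) a := by
      intro a b d
      have h1 := hact d (T.sg b) a
      rw [T.sg_sg] at h1
      rw [← h1]; group
    have e : n₀ * t * n₀⁻¹ * t * v a b d * (n₀ * t * n₀⁻¹ * t)⁻¹ =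
        n₀ * (t * (n₀⁻¹ * (t * v a b d * t⁻¹) * n₀) * t⁻¹) * n₀⁻¹ := by group
    have hs0 : T.sg z ≠ 0 := QuadF.sg_ne T hzz0
    have hn0 : T.nm z ≠ 0 := QuadF.nm_ne T hzz0
    rw [e, htw.act, hn', htw.act, hact]
    congr 1
    · rw [inv_mul_cancel_left₀ hn0]
    · simp only [map_mul, map_inv₀, T.sg_sg]
      field_simp
    · rw [mul_inv_cancel_left₀ hn0]
  have htY : zpowers t ≤ normalizer ((YY V Qf i j : Subgroup G) : Set G) := by
    rw [zpowers_le]
    exact D.N_le_norY (X_le_N D.M htw.X)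
  have hYp := D.Y_two
  have hYs : Group.IsSolvable (YY V Qf i j) := by
    have := hYp.isNilpotent
    infer_instance
  have hodd : (Nat.card (zpowers t)).Coprime 2 := by
    rw [Nat.card_zpowers]
    exact hordt.coprime_two_right
  have hcop : (Nat.card (zpowers t)).Coprime (Nat.card (YY V Qf i j)) := by
    obtain ⟨l, hl⟩ := (IsPGroup.iff_card (p := 2)).1 hYp
    rw [hl]
    exact Nat.Coprime.pow_right l hodd
  have hmem : n₀ * t * n₀⁻¹ ∈ zpowers t ⊔ YY V Qf i j := by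
    have e : n₀ * t * n₀⁻¹ = (n₀ * t * n₀⁻¹ * t) * t⁻¹ := by group
    rw [e]
    exact mul_mem (mem_sup_right hc1) (mem_sup_left (inv_mem (mem_zpowers t)))
  have hB : zpowers (n₀ * t * n₀⁻¹) ≤ zpowers t ⊔ YY V Qf i j := by
    rw [zpowers_le]; exact hmem
  obtain ⟨y, hy, hyB⟩ := Solvable.Glauberman.exists_conj_of_le_sup (zpowers t) (YY V Qf i j) htY hcop
    (Or.inr hYs) (zpowers (n₀ * t * n₀⁻¹)) hB (by
      rw [Nat.card_zpowers, Nat.card_zpowers]
      exact (MulAut.conj n₀).orderOf_eq t)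
  have hyX : y ∈ Qf i ⊔ Qf j := D.Y_le_X hy
  have hyC : y ∈ centralizer (V : Set G) := D.Y_le_C hy
  have hcjy : ∀ l, cj y⁻¹ (Rf l) = Rf l := fun l =>
    cj_eq_of_comm fun r hr => ((mem_centralizer_iff.mp (inv_mem hyC)) r (D.M.R_le l hr)).symm
  have hnR1 : cj (y⁻¹ * n₀) (Rf i) = Rf j := by rw [cj_mul, hnR, hcjy]
  have hnR2 : cj (y⁻¹ * n₀) (Rf j) = Rf i := by rw [cj_mul, hnR', hcjy]
  have hnT : ∀ s ∈ zpowers t, y⁻¹ * n₀ * s * (y⁻¹ * n₀)⁻¹ ∈ zpowers t := by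
    have h1 : y⁻¹ * n₀ * t * (y⁻¹ * n₀)⁻¹ ∈ zpowers t := by
      have h2 : n₀ * t * n₀⁻¹ ∈ zpowers (n₀ * t * n₀⁻¹) := mem_zpowers _
      rw [← hyB, Subgroup.mem_pointwise_smul_iff_inv_smul_mem] at h2
      have e : (MulAut.conj y)⁻¹ • (n₀ * t * n₀⁻¹) = y⁻¹ * n₀ * t * (y⁻¹ * n₀)⁻¹ := by
        rw [← map_inv, MulAut.smul_def, MulAut.conj_apply]; group
      rwa [e] at h2
    rintro s ⟨l, rfl⟩
    have e : y⁻¹ * n₀ * (fun x : ℤ => t ^ x) l * (y⁻¹ * n₀)⁻¹ = (y⁻¹ * n₀ * t * (y⁻¹ * n₀)⁻¹) ^ l := by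
      rw [conj_zpow]
    rw [e]
    exact zpow_mem h1 l
  have hnX : y⁻¹ * n₀ ∈ Qf i ⊔ Qf j := mul_mem (inv_mem hyX) hn₀
  refine ⟨zpowers t, y⁻¹ * n₀, ?_, hnR1, hnR2⟩
  exact
    { RV := D.M.R_le i
      XN := X_le_N D.M
      nX := hnX
      nC := fun h => D.ne (D.M.inj _ _ (by rw [← hnR1, cj_of_mem_normalizer h]))
      NX := fun m hm => by
        obtain ⟨x, hx, c, -, hc, e⟩ := D.NX hm
        exact ⟨x, hx, c, hc, e⟩
      QX := le_sup_left
      QC := fun q hq => mem_normalizer_of_cj (cj_eq_of_comm fun r hr => (D.M.RQ i r hr q hq).symm)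
      CQ := fun c hc u hu => D.g.nor c hc u hu
      Qtr := fun x hx hxC => D.Qtr hx hxC hnR1
      YX := D.Y_le_X
      YV := D.Y_le_C
      nY := fun y hy => D.N_Y (X_le_N D.M hnX) hy
      Yp := hYp
      TX := by rw [zpowers_le]; exact htw.X
      TC := by
        rw [zpowers_le, mem_normalizer_iff]
        have hn0 : T.nm z ≠ 0 := QuadF.nm_ne T hzz0
        have ht0 : ∀ a, t * v a 0 0 * t⁻¹ = v (T.nm z * a) 0 0 := by
          intro a
          rw [htw.act, mul_zero, mul_zero]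
        intro x
        rw [GEnd.mem_R D.g, GEnd.mem_R D.g]
        constructor
        · rintro ⟨a, rfl⟩
          exact ⟨_, ht0 a⟩
        · rintro ⟨a, ha⟩
          refine ⟨(T.nm z)⁻¹ * a, ?_⟩
          have h1 := ht0 ((T.nm z)⁻¹ * a)
          rw [mul_inv_cancel_left₀ hn0, ← ha] at h1
          exact (mul_left_cancel (mul_right_cancel h1)).symm
      TY := htY
      Todd := hodd
      nT := hnT
      YT := fun y hy hc => D.tw_fix htw hzz0 hzzs hzzn hy (hc t (mem_zpowers t))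
      comm := fun x hx g hg => D.comm hx hg }

end XD

end Cfsg.Agent.Omega.NO1U
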