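import Cfsg.Agent.Omega.NO1U.Sys0
import Cfsg.Agent.Omega.NO1U.PlaneLineB

/-!
# Node 0 against the flag stabilisers of `Q / R` (closing of NO-1' (β), q ≥ 4)

From `XD` and `Out`:
* `XB` : `x ∈ X ∩ N(R)` fixes every totally isotropic subspace of `Q / R` which contains `e₀`;
* `BV` : an element of `N(R)` which fixes `F e₀` normalises `V`;
* `uq` : an isometry in `N(R)` which fixes `e₀` lies in `Q C(V)`;
* `Y_lin`, `Y_isom`, `Y_e`, `Y_perp` : `Y` acts on `Q / R` as a group of unipotent linear isometries.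
-/

set_option autoImplicit false
set_option linter.unusedVariables false
set_option linter.unusedSectionVars false

open Subgroup
open Cfsg.Agent.Omega.NO1.Beta.Meet Cfsg.Agent.Omega.NOne.SU

namespace Cfsg.Agent.Omega.NO1U

universe u

variable {G : Type u} [Group G] {k F : Type*} [Field k] [Field F] [Algebra k F]
variable {T : Quad k F} {S : Sylow 2 G} {I : Type*} {V : Subgroup G} {Rf Qf : I → Subgroup G} {i j : I}
  {v : k → F → k → G} {p p' : G → F} {Φ : Type*} [AddCommGroup Φ] [Module F Φ] {φ χ : G → Φ}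
  {hm : Φ → Φ → F} {W : Type*} [AddCommGroup W] [Module F W] {w : G → W} {g : W → W → F} {f₀ : W} {ι : Φ →ₗ[F] W}

namespace SysB

variable (D : XD T S V Rf Qf i j v p p' φ χ) (o : Out T V (Rf i) (Qf i) (Qf j) v p φ χ hm w g f₀ ι)
include D o

theorem nor {c y : G} (hc : c ∈ normalizer (Rf i : Set G)) (hy : y ∈ Qf i) : c * y * c⁻¹ ∈ Qf i := D.g.nor c hc y hy

/-- **`X ∩ N(R)` fixes the totally isotropic subspaces which contain `e₀`** -/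
theorem XB {x : G} (hx : x ∈ Qf i ⊔ Qf j) (hR : x ∈ normalizer (Rf i : Set G)) {L : Submodule F W}
    (hL : L = ⊥ ∨ w (v 0 1 0) ∈ L ∧ ∀ a ∈ L, g a (w (v 0 1 0)) = 0) {y : G} (hy : y ∈ Qf i) (hyL : w y ∈ L) :
    w (x * y * x⁻¹) ∈ L := by
  rcases hL with rfl | ⟨hL, hiso⟩
  · rw [Submodule.mem_bot] at hyL ⊢
    have h1 := (o.w_eq y hy).1 hyL
    exact OutL.w_R D.g o ((mem_normalizer_iff.1 hR _).1 h1)
  · have hyV : y ∈ centralizer (V : Set G) := (OutL.mem_CV_iff D.g o hy).2 (hiso _ hyL)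
    obtain ⟨s, hs, h1⟩ := D.scal hx hR
    obtain ⟨h2, h3⟩ := h1 y (mem_inf.2 ⟨hy, hyV⟩)
    obtain ⟨a, ha⟩ := o.φ_eq y hy hyV
    obtain ⟨b, hb⟩ := o.φ_eq _ h2.1 h2.2
    have h4 : w (x * y * x⁻¹) = s • w y + (b - s * a) • w (v 0 1 0) := by
      rw [hb, h3, ha, map_smul]
      module
    rw [h4]
    exact L.add_mem (L.smul_mem _ hyL) (L.smul_mem _ hL)

/-- an element of `N(R)` which fixes `F e₀` normalises `V` -/
theorem BV {c : G} (hc : c ∈ normalizer (Rf i : Set G))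
    (h : w (c * v 0 1 0 * c⁻¹) ∈ Submodule.span F {w (v 0 1 0)}) : c ∈ normalizer (V : Set G) := by
  obtain ⟨s, hs⟩ := Submodule.mem_span_singleton.1 h
  exact o.stab c hc ⟨s, hs.symm⟩

/-- an isometry centralises `R` -/
theorem CR {c : G} (hc : c ∈ normalizer (Rf i : Set G))
    (hi : ∀ x ∈ Qf i, ∀ y ∈ Qf i, g (w (c * x * c⁻¹)) (w (c * y * c⁻¹)) = g (w x) (w y)) :
    c ∈ centralizer (Rf i : Set G) := by
  rw [mem_centralizer_iff]
  intro r hr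
  obtain ⟨a, rfl⟩ := (GEnd.mem_R D.g r).1 hr
  -- `v a 0 0 = [x, y]`
  obtain ⟨s, hs⟩ := T.exists_tr_ne D.g.sp.two
  obtain ⟨y, hy, hy'⟩ := o.w_surj f₀
  obtain ⟨x, hx, hx'⟩ := o.w_surj ((algebraMap k F (a * (T.tr s)⁻¹) * s) • w (v 0 1 0))
  have h1 : g (w x) (w y) = algebraMap k F (a * (T.tr s)⁻¹) * s := by
    rw [hx', hy', o.g_smul, o.g_ef, mul_one]
  have h2 : T.tr (g (w x) (w y)) = a := by
    rw [h1, ← Algebra.smul_def, map_smul, smul_eq_mul, inv_mul_cancel_right₀ hs]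
  have h3 := o.comm x hx y hy
  have h4 := o.comm _ (nor D o hc hx) _ (nor D o hc hy)
  rw [hi x hx y hy, h2] at h4
  rw [h2] at h3
  have h5 : c * v a 0 0 * c⁻¹ = v a 0 0 := by
    rw [← h3]
    calc c * (x * y * x⁻¹ * y⁻¹) * c⁻¹ = c * x * c⁻¹ * (c * y * c⁻¹) * (c * x * c⁻¹)⁻¹ * (c * y * c⁻¹)⁻¹ := by group
      _ = x * y * x⁻¹ * y⁻¹ := by rw [h4, h3]
  calc v a 0 0 * c = (c * v a 0 0 * c⁻¹) * c := by rw [h5]
    _ = c * v a 0 0 := by group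

/-- **an isometry in `N(R)` which fixes `e₀` lies in `Q C(V)`** -/
theorem uq {c : G} (hc : c ∈ normalizer (Rf i : Set G))
    (hi : ∀ x ∈ Qf i, ∀ y ∈ Qf i, g (w (c * x * c⁻¹)) (w (c * y * c⁻¹)) = g (w x) (w y))
    (he : ∀ b, w (c * v 0 b 0 * c⁻¹) = w (v 0 b 0)) : ∃ y ∈ Qf i, y⁻¹ * c ∈ centralizer (V : Set G) := by
  have hN : c ∈ normalizer (V : Set G) := o.stab c hc ⟨1, by rw [he, one_smul]⟩
  refine D.mem_QC hN (CR D o hc hi) (fun b => ?_) (fun y hy => ?_)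
  · have h1 : c * v 0 b 0 * c⁻¹ * (v 0 b 0)⁻¹ ∈ Rf i := by
      rw [← o.w_eq _ (mul_mem (nor D o hc (D.g.E_le 0 b)) (inv_mem (D.g.E_le 0 b))),
        o.w_mul _ (nor D o hc (D.g.E_le 0 b)) _ (inv_mem (D.g.E_le 0 b)), OutL.w_inv D.g o (D.g.E_le 0 b), he,
        add_neg_cancel]
    obtain ⟨a, ha⟩ := (GEnd.mem_R D.g _).1 h1
    refine ⟨a, ?_⟩
    have h2 : c * v 0 b 0 * c⁻¹ = v a 0 0 * v 0 b 0 := by rw [← ha]; group
    rw [h2, ← D.g.v_add, add_zero, zero_add, add_zero]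
  · rw [o.p_eq _ (nor D o hc hy), o.p_eq y hy, ← hi y hy _ (D.g.E_le 0 1), he]

/-! ### `Y` on `Q / R` -/

theorem C_NR {c : G} (hc : c ∈ centralizer (V : Set G)) : c ∈ normalizer (Rf i : Set G) := by
  apply mem_normalizer_of_cj
  exact cj_eq_of_comm fun r hr => ((mem_centralizer_iff.mp hc) r (D.M.R_le i hr)).symm

theorem Q_triv {a y : G} (ha : a ∈ Qf i) (hy : y ∈ Qf i) : w (a * y * a⁻¹) = w y := by
  have h1 : a * y * a⁻¹ = a * y * a⁻¹ * y⁻¹ * y := by group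
  have h2 := D.M.QQ i a ha y hy
  rw [h1, o.w_mul _ (D.M.R_Q i h2) _ hy, OutL.w_R D.g o h2, zero_add]

theorem Y_lin {u : G} (hu : u ∈ YY V Qf i j) : ∀ s : F, ∀ x ∈ Qf i, ∀ y ∈ Qf i, w y = s • w x →
    w (u * y * u⁻¹) = s • w (u * x * u⁻¹) := by
  obtain ⟨_, _, a, ha, n, hn, rfl, -, -⟩ := D.rep_Y.1 hu
  intro s x hx y hy hxy
  obtain ⟨r, -, h1⟩ := o.χ_act n hn.1 hn.2
  have hnx : n * x * n⁻¹ ∈ Qf i := nor D o (C_NR D o hn.2) hx
  have hny : n * y * n⁻¹ ∈ Qf i := nor D o (C_NR D o hn.2) hy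
  have e : ∀ z, a * n * z * (a * n)⁻¹ = a * (n * z * n⁻¹) * a⁻¹ := fun z => by group
  rw [e, e, Q_triv D o ha.1 hnx, Q_triv D o ha.1 hny, h1 x hx, h1 y hy, hxy, o.g_smul, o.g_smul]
  module

theorem Y_isom {u : G} (hu : u ∈ YY V Qf i j) : ∀ x ∈ Qf i, ∀ y ∈ Qf i,
    g (w (u * x * u⁻¹)) (w (u * y * u⁻¹)) = g (w x) (w y) := by
  have huC := D.Y_le_C hu
  have huR := C_NR D o huC
  intro x hx y hy
  apply T.eq_of_tr D.g.sp.two
  intro b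
  -- `x'` with `w x' = b • w x`
  obtain ⟨x', hx', h1⟩ := o.w_surj (b • w x)
  have h2 := Y_lin D o hu b x hx x' hx' h1
  have h3 := o.comm x' hx' y hy
  have h4 := o.comm _ (nor D o huR hx') _ (nor D o huR hy)
  have h5 : u * x' * u⁻¹ * (u * y * u⁻¹) * (u * x' * u⁻¹)⁻¹ * (u * y * u⁻¹)⁻¹ =
      u * (x' * y * x'⁻¹ * y⁻¹) * u⁻¹ := by group
  have h6 := (mem_centralizer_iff.1 huC) _ (D.g.v_mem (T.tr (g (w x') (w y))) 0 0)
  rw [h5, h3, ← h6, mul_inv_cancel_right] at h4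
  have h7 := (GEnd.v_eq D.g h4).1
  rw [h2, h1, o.g_smul, o.g_smul] at h7
  rw [mul_comm _ b, mul_comm _ b]
  exact h7.symm

theorem Y_e {u : G} (hu : u ∈ YY V Qf i j) (b : F) : w (u * v 0 b 0 * u⁻¹) = w (v 0 b 0) := by
  have h6 := (mem_centralizer_iff.1 (D.Y_le_C hu)) _ (D.g.v_mem 0 b 0)
  rw [← h6, mul_inv_cancel_right]

theorem Y_perp {u : G} (hu : u ∈ YY V Qf i j) {y : G} (hy : y ∈ Qf i) (h0 : g (w y) (w (v 0 1 0)) = 0) :
    ∃ s : F, w (u * y * u⁻¹) = w y + s • w (v 0 1 0) := by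
  obtain ⟨_, _, a, ha, n, hn, rfl, -, -⟩ := D.rep_Y.1 hu
  obtain ⟨r, -, h1⟩ := o.χ_act n hn.1 hn.2
  have hny : n * y * n⁻¹ ∈ Qf i := nor D o (C_NR D o hn.2) hy
  have e : ∀ z, a * n * z * (a * n)⁻¹ = a * (n * z * n⁻¹) * a⁻¹ := fun z => by group
  refine ⟨g (w y) (ι (χ n)), ?_⟩
  rw [e, Q_triv D o ha.1 hny, h1 y hy, h0, zero_smul, add_zero, mul_zero, add_zero]

end SysB

end Cfsg.Agent.Omega.NO1U
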