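import Cfsg.Agent.Omega.NO1U.PlaneInst
import Cfsg.Agent.Omega.NO1U.Sys0
import Cfsg.Agent.Omega.NO1U.SysB
import Cfsg.Agent.ParSys.Polar.Unip

/-!
# NO-1' (β), closing: the residue `{0, 1}` for the flag stabilisers
-/

set_option autoImplicit false
set_option linter.unusedVariables false
set_option linter.unusedSectionVars false

open Subgroup Module
open Cfsg.Agent.Omega.NO1.Beta.Meet Cfsg.Agent.Omega.NOne.SU Cfsg.Agent.ParSys.RankTwo
open Cfsg.Agent.ParSys.Polar.Flags Cfsg.Agent.ParSys.Polar.Hermit Cfsg.Agent.ParSys.Polar.Unip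

namespace Cfsg.Agent.Omega.NO1U

universe u

variable {G : Type u} [Group G] {k F : Type*} [Field k] [Field F] [Algebra k F] {T : Quad k F} {S : Sylow 2 G}
  {I : Type*} {V : Subgroup G} {Rf Qf : I → Subgroup G} {i j : I} {v : k → F → k → G} {p p' : G → F}
  {Φ : Type*} [AddCommGroup Φ] [Module F Φ] {φ χ : G → Φ} {hm : Φ → Φ → F}
  {W : Type*} [AddCommGroup W] [Module F W] {w : G → W} {g : W → W → F} {f₀ : W} {ι : Φ →ₗ[F] W}

namespace Fst

variable [FiniteDimensional F W] {q : ℕ} {sg : F →+* F} {rho : ↥(normalizer (Rf i : Set G)) → W ≃+ W}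
  {sigma : ↥(normalizer (Rf i : Set G)) →* Equiv.Perm (Submodule F W)} {m : ℕ} {f : ℕ → Submodule F W}
  (D : XD T S V Rf Qf i j v p p' φ χ) (o : Out T V (Rf i) (Qf i) (Qf j) v p φ χ hm w g f₀ ι)
  (P : Pol (normalizer (Rf i : Set G)) q sg g rho sigma m f)
  (hrho : ∀ (c : ↥(normalizer (Rf i : Set G))), ∀ x ∈ Qf i, rho c (w x) = w ((c : G) * x * (c : G)⁻¹))
  (hf1 : f 1 = Submodule.span F {w (v 0 1 0)})
include D o P hrho

/-- `sigma c L = L` in terms of `w` -/
theorem sigma_iff {c : ↥(normalizer (Rf i : Set G))} {L : Submodule F W} (h : sigma c L = L) :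
    ∀ y ∈ Qf i, w y ∈ L → w ((c : G) * y * (c : G)⁻¹) ∈ L := by
  intro y hy hL
  rw [← h, P.A.sig]
  exact ⟨w y, hL, hrho c y hy⟩

theorem sigma_of {c : ↥(normalizer (Rf i : Set G))} {L : Submodule F W}
    (h : ∀ y ∈ Qf i, w y ∈ L → w ((c : G) * y * (c : G)⁻¹) ∈ L) : sigma c L = L := by
  have hle : sigma c L ≤ L := by
    intro x hx
    obtain ⟨z, hz, rfl⟩ := (P.A.sig c L x).1 hx
    obtain ⟨y, hy, rfl⟩ := o.w_surj z
    rw [hrho c y hy]
    exact h y hy hz
  apply Submodule.eq_of_le_of_finrank_eq hle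
  exact P.act.rk c L

theorem sigma_bot (c : ↥(normalizer (Rf i : Set G))) : sigma c ⊥ = ⊥ := by
  rw [eq_bot_iff]
  intro x hx
  obtain ⟨z, hz, rfl⟩ := (P.A.sig c ⊥ x).1 hx
  rw [Submodule.mem_bot] at hz
  rw [hz, map_zero]
  exact Submodule.zero_mem _

include hf1

theorem e_mem {d : ℕ} (hd1 : 1 ≤ d) (hd : d ≤ m) : w (v 0 1 0) ∈ f d := by
  apply P.hf.le hd1 hd
  rw [hf1]
  exact Submodule.mem_span_singleton_self _

theorem iso {d : ℕ} (hd : d ≤ m) : ∀ x ∈ f d, ∀ y ∈ f d, g x y = 0 := P.hf.si P.polSp hd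

/-- `B` normalises `V` -/
theorem BV (hm1 : 1 ≤ m) : fst (normalizer (Rf i : Set G)) sigma m f ∅ ≤ normalizer (V : Set G) := by
  rintro c ⟨hc, h⟩
  apply SysB.BV D o hc
  rw [← hf1]
  exact sigma_iff D o P hrho (h 1 hm1 (by simp)) _ (D.g.E_le 0 1)
    (by rw [hf1]; exact Submodule.mem_span_singleton_self _)

/-- `X ∩ N(R) ≤ B` -/
theorem XB : (Qf i ⊔ Qf j) ⊓ normalizer (Rf i : Set G) ≤ fst (normalizer (Rf i : Set G)) sigma m f ∅ := by
  intro x hx
  obtain ⟨hx, hR⟩ := mem_inf.1 hx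
  refine ⟨hR, fun d hd _ => sigma_of D o P hrho fun y hy hL => ?_⟩
  apply SysB.XB D o hx hR _ hy hL
  rcases Nat.eq_zero_or_pos d with rfl | hd1
  · exact Or.inl P.hf.zero
  · have he := e_mem D o P hrho hf1 hd1 hd
    exact Or.inr ⟨he, fun a ha => iso D o P hrho hf1 hd a ha _ he⟩

theorem nd (hm1 : 1 ≤ m) :
    Nd V Rf Qf i j (fst (normalizer (Rf i : Set G)) sigma m f ∅) (YY V Qf i j) where
  BR := fst_le
  BV := BV D o P hrho hf1 hm1
  XB := XB D o P hrho hf1
  UB := fun u hu => XB D o P hrho hf1 (mem_inf.2 ⟨D.Y_le_X hu, SysB.C_NR D o (D.Y_le_C hu)⟩)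
  nor := fun b hb u hu => by
    have := D.N_Y (inv_mem (BV D o P hrho hf1 hm1 hb)) hu
    rwa [inv_inv] at this
  YU := le_rfl
  UQ := fun u hu => ⟨1, one_mem _, by rw [inv_one, one_mul]; exact D.Y_le_C hu⟩

/-- **the residue `{0, 1}` is a projective plane** -/
theorem gpp [Finite G] (hm2 : 2 ≤ m) {J : Type*} {PP : J → Subgroup G} {a b : J} (hab : a ≠ b)
    (hP : ∀ c, fst (normalizer (Rf i : Set G)) sigma m f ∅ ≤ PP c)
    (ha : PP a = (Qf i ⊔ Qf j) ⊔ fst (normalizer (Rf i : Set G)) sigma m f ∅)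
    (hb : PP b = fst (normalizer (Rf i : Set G)) sigma m f {1}) :
    GPp (fst (normalizer (Rf i : Set G)) sigma m f ∅) PP a b 3 ∧
      GPp (fst (normalizer (Rf i : Set G)) sigma m f ∅) PP b a 3 := by
  have hm1 : 1 ≤ m := by omega
  have hinv : ∀ {c : ↥(normalizer (Rf i : Set G))}, sigma c (f 1) = f 1 → (c : G) ∈ normalizer (V : Set G) := by
    intro c h
    apply SysB.BV D o c.2
    rw [← hf1]
    exact sigma_iff D o P hrho h _ (D.g.E_le 0 1) (by rw [hf1]; exact Submodule.mem_span_singleton_self _)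
  obtain ⟨n, hn⟩ := D.plane o (K := {d : ℕ // 2 ≤ d ∧ d ≤ m}) (Lk := fun d => f d.1) (k₀ := ⟨2, le_rfl, hm2⟩)
    (B := fst (normalizer (Rf i : Set G)) sigma m f ∅) (P₀ := (Qf i ⊔ Qf j) ⊔ fst (normalizer (Rf i : Set G)) sigma m f ∅)
    (P₁ := fst (normalizer (Rf i : Set G)) sigma m f {1})
    (fun d => e_mem D o P hrho hf1 (by have := d.2.1; omega) d.2.2)
    (fun d => iso D o P hrho hf1 d.2.2) fst_le (BV D o P hrho hf1 hm1) rfl (fst_mono (by simp)) fst_le
    (fun d c hc => sigma_iff D o P hrho (c := ⟨c, hc.1⟩) (hc.2 d.1 d.2.2 (by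
      have := d.2.1
      simp only [Set.mem_singleton_iff]; omega)))
    (fun h hh => by
      have hX : sigma ⟨h, hh.1⟩ (f 1) ∈ Pan (TI g (F := F)) m f 1 := by
        refine ⟨P.act.sing _ (P.hf.si P.polSp hm1), by rw [P.act.rk, P.hf.rk 1 hm1], fun d hd => ?_, fun _ => ?_⟩
        · have : d = 0 := by omega
          rw [this, P.hf.zero]
          exact bot_le
        · intro x hx
          obtain ⟨z, hz, rfl⟩ := (P.A.sig _ _ x).1 hx
          rw [hf1, Submodule.mem_span_singleton] at hz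
          obtain ⟨s, rfl⟩ := hz
          rw [← o.w_e, hrho _ _ (D.g.E_le 0 s)]
          exact hh.2 s
      obtain ⟨c, hc, hcX⟩ := exists_pan P.polSp P.act P.hf hm1 hX
      refine ⟨c, hc, ?_⟩
      apply hinv (c := c⁻¹ * ⟨h, hh.1⟩)
      rw [map_mul, map_inv, Equiv.Perm.mul_apply, Equiv.Perm.inv_eq_iff_eq, hcX])
    (fun c hc hcV h => by
      refine ⟨hc, fun d hd _ => ?_⟩
      rcases Nat.lt_or_ge 1 d with h1 | h1
      · exact sigma_of D o P hrho (h ⟨d, h1, hd⟩)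
      · rcases Nat.eq_zero_or_pos d with rfl | h0
        · rw [P.hf.zero]; exact sigma_bot D o P hrho _
        · have hd1 : d = 1 := by omega
          subst hd1
          apply sigma_of D o P hrho
          intro y hy hL
          rw [hf1, Submodule.mem_span_singleton] at hL ⊢
          obtain ⟨s, hs⟩ := hL
          rw [← o.w_e] at hs
          obtain ⟨a', b', he⟩ := OutL.N_e₀ D.g o hc hcV s
          refine ⟨b', ?_⟩
          change b' • w (v 0 1 0) = w (c * y * c⁻¹)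
          rw [OutL.w_conj_congr D.g o hc hy (D.g.E_le 0 s) hs.symm, he, OutL.w_E D.g o a' b'])
    (by
      rw [Nd.card D (nd D o P hrho hf1 hm1), P.relIndex_lt le_rfl (by omega)])
  exact hn.gpp hP hab ha hb

end Fst

end Cfsg.Agent.Omega.NO1U
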