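import Cfsg.Agent.Omega.NOne.SU.Out
import Cfsg.Agent.Omega.NOne.SU.Grp2
import Cfsg.Agent.Omega.NO1U.PlaneInv

/-!
# NO-1' (β), q ≥ 4: the totally isotropic lines of `Q / R` through `e₀` (fields of `Line`)

`Lam L` = the set of the `h ∈ N(R)` with `h e₀ ≤ L`.
-/

set_option autoImplicit false
set_option linter.unusedSectionVars false
set_option linter.unusedVariables false

open Subgroup
open Cfsg.Agent.Omega.NOne.SU

namespace Cfsg.Agent.Omega.NO1U

variable {G : Type*} [Group G] {k F : Type*} [Field k] [Field F] [Algebra k F] {T : Quad k F}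
  {S : Sylow 2 G} {V R Q Q' : Subgroup G} {v : k → F → k → G} {p p' : G → F}
  {Φ : Type*} [AddCommGroup Φ] [Module F Φ] {φ χ : G → Φ} {hm : Φ → Φ → F}
  {W : Type*} [AddCommGroup W] [Module F W] {w : G → W} {g : W → W → F} {f₀ : W} {ι : Φ →ₗ[F] W}

/-- the elements of `N(R)` which map `F e₀` into `L` -/
def Lam (R : Subgroup G) (v : k → F → k → G) (w : G → W) (L : Submodule F W) : Set G :=
  {c | c ∈ normalizer (R : Set G) ∧ ∀ b, w (c * v 0 b 0 * c⁻¹) ∈ L}

namespace OutL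

variable (h : GIn T S V R Q Q' v p p') (o : Out T V R Q Q' v p φ χ hm w g f₀ ι)
include h o

theorem w_R {r : G} (hr : r ∈ R) : w r = 0 := (o.w_eq r (h.sp.le hr)).2 hr

theorem w_E (a : k) (b : F) : w (v a b 0) = b • w (v 0 1 0) := by
  have h1 : v a b 0 = v a 0 0 * v 0 b 0 := by rw [← h.v_add]; simp
  rw [h1, o.w_mul _ (h.E_le a 0) _ (h.E_le 0 b), w_R h o (h.mem_R.2 ⟨a, rfl⟩), zero_add, o.w_e]

theorem w_one : w 1 = 0 := w_R h o (one_mem _)

theorem w_inv {x : G} (hx : x ∈ Q) : w x⁻¹ = - w x := by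
  have h1 := o.w_mul x hx x⁻¹ (inv_mem hx)
  rw [mul_inv_cancel, w_one h o] at h1
  exact (neg_eq_of_add_eq_zero_right h1.symm).symm

theorem e₀_ne : w (v 0 1 0) ≠ 0 := by
  intro h0
  have := o.g_ef
  rw [h0] at this
  have h1 := o.g_smul 0 0 f₀
  rw [zero_smul, zero_mul] at h1
  rw [h1] at this
  exact zero_ne_one this

theorem g_zero (m : W) : g 0 m = 0 := by
  have h1 := o.g_smul 0 0 m
  rwa [zero_smul, zero_mul] at h1

theorem g_zero' (m : W) : g m 0 = 0 := by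
  rw [o.g_sym 0 m, g_zero h o, map_zero]

theorem g_add' (m u u' : W) : g m (u + u') = g m u + g m u' := by
  rw [o.g_sym (u + u') m, o.g_add, map_add, ← o.g_sym, ← o.g_sym]

theorem g_smul' (s : F) (m u : W) : g m (s • u) = T.sg s * g m u := by
  rw [o.g_sym (s • u) m, o.g_smul, map_mul, ← o.g_sym]

theorem g_neg (m u : W) : g (-m) u = - g m u := by
  have h1 := o.g_add m (-m) u
  rw [add_neg_cancel, g_zero h o] at h1
  exact (neg_eq_of_add_eq_zero_right h1.symm).symm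

theorem g_swap {m u : W} (h0 : g m u = 0) : g u m = 0 := by
  rw [o.g_sym, h0, map_zero]

/-- `x`, `y` commute if `g (w x) (w y) = 0` -/
theorem commute_of {x y : G} (hx : x ∈ Q) (hy : y ∈ Q) (h0 : g (w x) (w y) = 0) : x * y = y * x := by
  have h1 := o.comm x hx y hy
  rw [h0, map_zero, h.v_zero] at h1
  calc x * y = (x * y * x⁻¹ * y⁻¹) * (y * x) := by group
    _ = y * x := by rw [h1, one_mul]

theorem tr_of_commute {x y : G} (hx : x ∈ Q) (hy : y ∈ Q) (h0 : x * y = y * x) : T.tr (g (w x) (w y)) = 0 := by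
  have h1 := o.comm x hx y hy
  have h2 : x * y * x⁻¹ * y⁻¹ = 1 := by
    calc x * y * x⁻¹ * y⁻¹ = (x * y) * (y * x)⁻¹ := by group
      _ = 1 := by rw [h0, mul_inv_cancel]
  rw [h2, ← h.v_zero] at h1
  exact (h.v_eq h1).1.symm

theorem mem_CV_iff {y : G} (hy : y ∈ Q) : y ∈ centralizer (V : Set G) ↔ g (w y) (w (v 0 1 0)) = 0 := by
  rw [← h.p_eq_zero hy, o.p_eq y hy]

/-- an element of `Q` which commutes with all `v 0 b 0` centralises `V` -/
theorem mem_CV_of_commute {y : G} (hy : y ∈ Q) (hc : ∀ b, y * v 0 b 0 = v 0 b 0 * y) :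
    y ∈ centralizer (V : Set G) := by
  rw [mem_CV_iff h o hy]
  apply T.eq_zero_of_tr h.h2
  intro b
  have h1 := tr_of_commute h o hy (h.E_le 0 (T.sg b)) (hc (T.sg b))
  rw [o.w_e, g_smul' h o, T.sg_sg] at h1
  rwa [mul_comm]

theorem w_conj_E {c : G} (hc : c ∈ normalizer (R : Set G)) (a : k) (b : F) :
    w (c * v a b 0 * c⁻¹) = w (c * v 0 b 0 * c⁻¹) := by
  have h1 : v a b 0 = v a 0 0 * v 0 b 0 := by rw [← h.v_add]; simp
  have h2 : c * v a 0 0 * c⁻¹ ∈ R := (mem_normalizer_iff.1 hc _).1 (h.mem_R.2 ⟨a, rfl⟩)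
  have h3 : c * v a b 0 * c⁻¹ = (c * v a 0 0 * c⁻¹) * (c * v 0 b 0 * c⁻¹) := by rw [h1]; group
  rw [h3, o.w_mul _ (h.sp.le h2) _ (h.nor c hc _ (h.E_le 0 b)), w_R h o h2, zero_add]

/-- if `w x = w y` then `w (c x c⁻¹) = w (c y c⁻¹)` -/
theorem w_conj_congr {c x y : G} (hc : c ∈ normalizer (R : Set G)) (hx : x ∈ Q) (hy : y ∈ Q)
    (he : w x = w y) : w (c * x * c⁻¹) = w (c * y * c⁻¹) := by
  have h1 : w (x * y⁻¹) = 0 := by
    rw [o.w_mul x hx _ (inv_mem hy), w_inv h o hy, he, add_neg_cancel]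
  have h2 := (o.w_eq _ (mul_mem hx (inv_mem hy))).1 h1
  have h3 : c * (x * y⁻¹) * c⁻¹ ∈ R := (mem_normalizer_iff.1 hc _).1 h2
  have h4 : c * x * c⁻¹ = (c * (x * y⁻¹) * c⁻¹) * (c * y * c⁻¹) := by group
  rw [h4, o.w_mul _ (h.sp.le h3) _ (h.nor c hc _ hy), w_R h o h3, zero_add]

/-- `c e₀` is a point -/
theorem point {c : G} (hc : c ∈ normalizer (R : Set G)) :
    ∃ m, m ≠ 0 ∧ (∀ b, ∃ s : F, w (c * v 0 b 0 * c⁻¹) = s • m) ∧ ∀ s : F, ∃ b, w (c * v 0 b 0 * c⁻¹) = s • m := by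
  obtain ⟨m, -, -, hm⟩ := o.pt c hc
  choose s hs using hm
  have hinj : Function.Injective s := by
    intro b b' hb
    have h1 : w (c * v 0 b 0 * c⁻¹) = w (c * v 0 b' 0 * c⁻¹) := by rw [hs, hs, hb]
    have h2 := w_conj_congr h o (inv_mem hc) (h.nor c hc _ (h.E_le 0 b)) (h.nor c hc _ (h.E_le 0 b')) h1
    have e : ∀ x : G, c⁻¹ * (c * x * c⁻¹) * c⁻¹⁻¹ = x := fun x => by group
    rw [e, e, o.w_e b, o.w_e b'] at h2
    by_contra hne
    apply sub_ne_zero.2 hne
    have h3 : (b - b') • w (v 0 1 0) = 0 := by rw [sub_smul, h2, sub_self]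
    rcases smul_eq_zero.1 h3 with h4 | h4
    · exact h4
    · exact absurd h4 (e₀_ne h o)
  have := T.finF
  have hsur := Finite.surjective_of_injective hinj
  refine ⟨m, ?_, fun b => ⟨s b, hs b⟩, fun t => ?_⟩
  · rintro rfl
    have h1 : s 0 = s 1 ∨ True := Or.inr trivial
    have h2 := hs 1
    rw [smul_zero] at h2
    have h3 := w_conj_congr h o (inv_mem hc) (h.nor c hc _ (h.E_le 0 1)) (one_mem Q) (by rw [h2, w_one h o])
    have e : c⁻¹ * (c * v 0 1 0 * c⁻¹) * c⁻¹⁻¹ = v 0 1 0 := by group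
    have e2 : c⁻¹ * 1 * c⁻¹⁻¹ = 1 := by group
    rw [e, e2, w_one h o] at h3
    exact e₀_ne h o h3
  · obtain ⟨b, rfl⟩ := hsur t
    exact ⟨b, hs b⟩

/-- `stab`, with any element of the point -/
theorem mem_N {c : G} (hc : c ∈ normalizer (R : Set G)) {b s : F} (hb : b ≠ 0)
    (he : w (c * v 0 b 0 * c⁻¹) = s • w (v 0 1 0)) : c ∈ normalizer (V : Set G) := by
  obtain ⟨m, hm0, h1, h2⟩ := point h o hc
  obtain ⟨t, ht⟩ := h1 b
  have ht0 : t ≠ 0 := by
    rintro rfl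
    rw [zero_smul] at ht
    have h3 := w_conj_congr h o (inv_mem hc) (h.nor c hc _ (h.E_le 0 b)) (one_mem Q) (by rw [ht, w_one h o])
    have e : c⁻¹ * (c * v 0 b 0 * c⁻¹) * c⁻¹⁻¹ = v 0 b 0 := by group
    have e2 : c⁻¹ * 1 * c⁻¹⁻¹ = 1 := by group
    rw [e, e2, w_one h o, o.w_e] at h3
    rcases smul_eq_zero.1 h3 with h4 | h4
    · exact hb h4
    · exact e₀_ne h o h4
  apply o.stab c hc
  obtain ⟨r, hr⟩ := h1 1
  refine ⟨r * t⁻¹ * s, ?_⟩
  have h3 : m = (t⁻¹ * s) • w (v 0 1 0) := by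
    rw [mul_smul, ← he, ht, smul_smul, inv_mul_cancel₀ ht0, one_smul]
  rw [hr, h3, smul_smul, mul_assoc]

/-- elements of `N(R) ∩ N(V)` fix `F e₀` -/
theorem N_e₀ {c : G} (hc : c ∈ normalizer (R : Set G)) (hN : c ∈ normalizer (V : Set G)) (b : F) :
    ∃ a b', c * v 0 b 0 * c⁻¹ = v a b' 0 := by
  have h1 : c * v 0 b 0 * c⁻¹ ∈ V := (mem_normalizer_iff.1 hN _).1 (h.v_mem _ _ _)
  have h2 : c * v 0 b 0 * c⁻¹ ∈ Q := h.nor c hc _ (h.E_le 0 b)
  obtain ⟨a, b', d, he⟩ := h.v_surj _ h1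
  rw [← he] at h2
  have := h.V_Q a b' d h2
  exact ⟨a, b', by rw [← he, this]⟩

theorem lam_mul {L : Submodule F W} {c m : G} (hc : c ∈ Lam R v w L) (hm : m ∈ normalizer (R : Set G))
    (hN : m ∈ normalizer (V : Set G)) : c * m ∈ Lam R v w L := by
  refine ⟨mul_mem hc.1 hm, fun b => ?_⟩
  obtain ⟨a, b', he⟩ := N_e₀ h o hm hN b
  have e : c * m * v 0 b 0 * (c * m)⁻¹ = c * (m * v 0 b 0 * m⁻¹) * c⁻¹ := by group
  rw [e, he, w_conj_E h o hc.1]
  exact hc.2 b'

theorem lam_one {L : Submodule F W} (hL : w (v 0 1 0) ∈ L) : (1 : G) ∈ Lam R v w L := by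
  refine ⟨one_mem _, fun b => ?_⟩
  have e : 1 * v 0 b 0 * 1⁻¹ = v 0 b 0 := by group
  rw [e, o.w_e]
  exact L.smul_mem _ hL

section iso

variable {L : Submodule F W} (hL : w (v 0 1 0) ∈ L) (hiso : ∀ x ∈ L, ∀ y ∈ L, g x y = 0)
include hL hiso

/-- the elements `h V h⁻¹` centralise `V ∩ Q` -/
theorem conj_cen {c : G} (hc : c ∈ Lam R v w L) (b : F) : c⁻¹ * v 0 b 0 * c ∈ centralizer (V : Set G) := by
  apply mem_CV_of_commute h o (h.nor_inv hc.1 (h.E_le 0 b))
  intro b'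
  have h1 : v 0 b 0 * (c * v 0 b' 0 * c⁻¹) = c * v 0 b' 0 * c⁻¹ * v 0 b 0 := by
    apply commute_of h o (h.E_le 0 b) (h.nor c hc.1 _ (h.E_le 0 b'))
    rw [o.w_e]
    exact hiso _ (L.smul_mem _ hL) _ (hc.2 b')
  calc c⁻¹ * v 0 b 0 * c * v 0 b' 0 = c⁻¹ * (v 0 b 0 * (c * v 0 b' 0 * c⁻¹)) * c := by group
    _ = c⁻¹ * (c * v 0 b' 0 * c⁻¹ * v 0 b 0) * c := by rw [h1]
    _ = v 0 b' 0 * (c⁻¹ * v 0 b 0 * c) := by group

theorem conj_E {c x : G} (hc : c ∈ Lam R v w L) (hx : x ∈ V) (a : k) (b : F) :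
    (c * x * c⁻¹) * v a b 0 * (c * x * c⁻¹)⁻¹ = v a b 0 := by
  have h1 := conj_cen h o hL hiso hc b
  have h2 : x * (c⁻¹ * v 0 b 0 * c) = c⁻¹ * v 0 b 0 * c * x := (mem_centralizer_iff.1 h1) x hx
  have h3 : (c * x * c⁻¹) * v 0 b 0 * (c * x * c⁻¹)⁻¹ = v 0 b 0 := by
    calc (c * x * c⁻¹) * v 0 b 0 * (c * x * c⁻¹)⁻¹ = c * (x * (c⁻¹ * v 0 b 0 * c)) * x⁻¹ * c⁻¹ := by group
      _ = c * (c⁻¹ * v 0 b 0 * c * x) * x⁻¹ * c⁻¹ := by rw [h2]
      _ = v 0 b 0 := by group
  have h4 : (c * x * c⁻¹) * v a 0 0 * (c * x * c⁻¹)⁻¹ = v a 0 0 := by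
    have h5 : c⁻¹ * v a 0 0 * c ∈ R := by
      have := (mem_normalizer_iff.1 (inv_mem hc.1) (v a 0 0)).1 (h.mem_R.2 ⟨a, rfl⟩)
      rwa [inv_inv] at this
    have h6 : x * (c⁻¹ * v a 0 0 * c) = c⁻¹ * v a 0 0 * c * x := h.V_comm hx (h.R_le_V h5)
    calc (c * x * c⁻¹) * v a 0 0 * (c * x * c⁻¹)⁻¹ = c * (x * (c⁻¹ * v a 0 0 * c)) * x⁻¹ * c⁻¹ := by group
      _ = c * (c⁻¹ * v a 0 0 * c * x) * x⁻¹ * c⁻¹ := by rw [h6]
      _ = v a 0 0 := by group
  have h7 : v a b 0 = v a 0 0 * v 0 b 0 := by rw [← h.v_add]; simp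
  calc (c * x * c⁻¹) * v a b 0 * (c * x * c⁻¹)⁻¹
      = ((c * x * c⁻¹) * v a 0 0 * (c * x * c⁻¹)⁻¹) * ((c * x * c⁻¹) * v 0 b 0 * (c * x * c⁻¹)⁻¹) := by
        rw [h7]; group
    _ = v a b 0 := by rw [h3, h4, h7]

/-- `h V h⁻¹ ≤ C(V)` -/
theorem cen (hpts : ∀ m ∈ normalizer (V : Set G), (∀ d, ∃ a, m * v 0 0 d * m⁻¹ = v a 0 0) ∨
      ∃ y ∈ Q, ∀ d, ∃ d', m * v 0 0 d * m⁻¹ = y * v 0 0 d' * y⁻¹)
    {c x : G} (hc : c ∈ Lam R v w L) (hx : x ∈ V) : c * x * c⁻¹ ∈ centralizer (V : Set G) := by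
  set u := c * x * c⁻¹ with hu
  have hxR : x ∈ centralizer (R : Set G) := h.CV_le_CR (h.V_le_CV hx)
  have huR : u ∈ centralizer (R : Set G) := by
    rw [mem_centralizer_iff]
    intro r hr
    obtain ⟨a, rfl⟩ := h.mem_R.1 hr
    have := conj_E h o hL hiso hc hx a 0
    rw [← hu, mul_inv_eq_iff_eq_mul] at this
    exact this.symm
  have huN : u ∈ normalizer (V : Set G) := by
    apply o.stab u (h.CR_le_NR huR)
    refine ⟨1, ?_⟩
    rw [hu, conj_E h o hL hiso hc hx 0 1, one_smul]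
  have huE : ∀ a b, u * v a b 0 * u⁻¹ = v a b 0 := fun a b => conj_E h o hL hiso hc hx a b
  -- the action on `v 0 0 d`
  have key : ∀ d : k, d ≠ 0 → ∃ a', u * v 0 0 d * u⁻¹ = v a' 0 d := by
    intro d hd
    obtain ⟨a', b', d', he⟩ := h.v_surj _ ((mem_normalizer_iff.1 huN _).1 (h.v_mem 0 0 d))
    have hd' : d' ≠ 0 := by
      rintro rfl
      have h1 : v 0 0 d = u⁻¹ * v a' b' 0 * u := by rw [he]; group
      have h2 : u⁻¹ * v a' b' 0 * u = v a' b' 0 := by
        have := huE a' b'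
        rw [mul_inv_eq_iff_eq_mul] at this
        rw [mul_assoc, ← this]; group
      rw [h2] at h1
      exact hd (h.v_eq h1).2.2
    -- conjugation of `[y, v 0 0 d]`
    have hp : ∀ y ∈ Q, p (u * y * u⁻¹) * algebraMap k F d' = p y * algebraMap k F d ∧
        T.tr (T.sg (p (u * y * u⁻¹)) * b') + T.nm (p (u * y * u⁻¹)) * d' = T.nm (p y) * d := by
      intro y hy
      have h1 := h.act y hy 0 0 d
      have h2 := h.act (u * y * u⁻¹) (h.nor u (h.CR_le_NR huR) y hy) a' b' d'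
      have h3 : (u * y * u⁻¹) * v a' b' d' * (u * y * u⁻¹)⁻¹ = u * (y * v 0 0 d * y⁻¹) * u⁻¹ := by
        rw [he]; group
      rw [h3, h1] at h2
      have h4 : v (0 + T.tr (T.sg (p y) * 0) + T.nm (p y) * d) (0 + p y * algebraMap k F d) d =
          v (T.nm (p y) * d) (p y * algebraMap k F d) 0 * v 0 0 d := by
        rw [← h.v_add]; simp
      have h5 : u * v (0 + T.tr (T.sg (p y) * 0) + T.nm (p y) * d) (0 + p y * algebraMap k F d) d * u⁻¹ =
          v (T.nm (p y) * d + a') (p y * algebraMap k F d + b') (0 + d') := by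
        have h8 := huE (T.nm (p y) * d) (p y * algebraMap k F d)
        rw [h4, h.v_add, he]
        nth_rewrite 2 [← h8]
        group
      rw [h5] at h2
      obtain ⟨h6, h7, -⟩ := h.v_eq h2
      constructor
      · rw [add_comm b'] at h7
        exact (add_right_cancel h7).symm
      · rw [add_comm _ a', add_assoc] at h6
        exact (add_left_cancel h6).symm
    -- `c = d / d'`
    obtain ⟨r, hr⟩ : ∃ r : k, r = d * d'⁻¹ := ⟨_, rfl⟩
    have hp' : ∀ y ∈ Q, p (u * y * u⁻¹) = algebraMap k F r * p y := by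
      intro y hy
      have h1 := (hp y hy).1
      have h2 : algebraMap k F d' ≠ 0 := (map_ne_zero _).2 hd'
      rw [hr, map_mul, map_inv₀]
      field_simp
      rw [h1]; ring
    have hlin : ∀ l : F, r * T.tr (T.sg l * b') = T.nm l * (d + r * r * d') := by
      intro l
      obtain ⟨y, hy, rfl⟩ := h.p_surj l
      have h1 := (hp y hy).2
      rw [hp' y hy] at h1
      have h2 : T.nm (algebraMap k F r * p y) = r * r * T.nm (p y) := by
        apply (algebraMap k F).injective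
        rw [T.nm_eq, map_mul T.sg, map_mul (algebraMap k F), map_mul (algebraMap k F), T.nm_eq, T.sg_alg]
        ring
      have h3 : T.tr (T.sg (algebraMap k F r * p y) * b') = r * T.tr (T.sg (p y) * b') := by
        have e : T.sg (algebraMap k F r * p y) * b' = r • (T.sg (p y) * b') := by
          rw [map_mul, T.sg_alg, Algebra.smul_def]; ring
        rw [e, map_smul, smul_eq_mul]
      rw [h2, h3] at h1
      have h4 : (r * r * T.nm (p y) * d') + (r * r * T.nm (p y) * d') = 0 := T.add_selfk (h2 := h.h2) _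
      calc r * T.tr (T.sg (p y) * b') = r * T.tr (T.sg (p y) * b') + (r * r * T.nm (p y) * d' + r * r * T.nm (p y) * d') := by
            rw [h4, add_zero]
        _ = T.nm (p y) * d + r * r * T.nm (p y) * d' := by rw [← add_assoc, h1]
        _ = _ := by ring
    -- a zero of the linear form
    have hconst : d + r * r * d' = 0 := by
      by_contra hne
      -- the map `l ↦ r tr(sg l b')` is not injective
      let L₀ : F →ₗ[k] k :=
        { toFun := fun l => r * T.tr (T.sg l * b')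
          map_add' := fun x y => by rw [map_add, add_mul, map_add, mul_add]
          map_smul' := fun s x => by
            have e : T.sg (s • x) * b' = s • (T.sg x * b') := by
              rw [map_smul, smul_mul_assoc]
            rw [e, map_smul, smul_eq_mul, smul_eq_mul, RingHom.id_apply]; ring }
      have hninj : ¬ Function.Injective L₀ := by
        intro hinj
        have := T.fink
        have h1 := Nat.card_le_card_of_injective _ hinj
        have h2 := T.card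
        have h4 := T.four
        rw [h2, pow_two] at h1
        nlinarith
      apply hninj
      rw [injective_iff_map_eq_zero]
      intro l hl
      have hl : r * T.tr (T.sg l * b') = 0 := hl
      rw [hlin] at hl
      by_contra hl0
      rcases mul_eq_zero.1 hl with h1 | h1
      · exact T.nm_ne hl0 h1
      · exact hne h1
    have hr1 : d' = d := by
      have h1 : d + r * r * d' = d * (1 + d * d'⁻¹) := by rw [hr]; field_simp
      rw [h1] at hconst
      rcases mul_eq_zero.1 hconst with h2 | h2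
      · exact absurd h2 hd
      · have h3 : d * d'⁻¹ = 1 := by
          have : (1 : k) + 1 = 0 := T.add_selfk (h2 := h.h2) _
          calc d * d'⁻¹ = (1 + 1) + d * d'⁻¹ := by rw [this, zero_add]
            _ = 1 + (1 + d * d'⁻¹) := by ring
            _ = 1 := by rw [h2, add_zero]
        exact (mul_inv_eq_one₀ hd').1 h3 |>.symm
    have hb : b' = 0 := by
      have hr1' : r = 1 := by rw [hr, hr1, mul_inv_cancel₀ hd]
      have h1 : ∀ l, T.tr (b' * l) = 0 := by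
        intro l
        have h2 := hlin (T.sg l)
        rw [hr1', one_mul, T.sg_sg, one_mul, one_mul, hr1, T.add_selfk (h2 := h.h2), mul_zero] at h2
        rwa [mul_comm]
      exact T.eq_zero_of_tr h.h2 h1
    exact ⟨a', by rw [← he, hb, hr1]⟩
  -- `u` maps `R'` to a point
  have key2 : ∀ d, u * v 0 0 d * u⁻¹ = v 0 0 d := by
    intro d
    by_cases hd : d = 0
    · rw [hd, h.v_zero]; group
    obtain ⟨a', he⟩ := key d hd
    rcases hpts u huN with h1 | ⟨y, hy, h1⟩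
    · obtain ⟨a, h2⟩ := h1 d
      rw [h2] at he
      exact absurd (h.v_eq he).2.2.symm hd
    · obtain ⟨d', h2⟩ := h1 d
      rw [he, h.act y hy] at h2
      obtain ⟨h3, h4, h5⟩ := h.v_eq h2
      rw [← h5] at h3 h4
      have h6 : p y = 0 := by
        rw [zero_add] at h4
        rcases mul_eq_zero.1 h4.symm with h7 | h7
        · exact h7
        · exact absurd ((map_eq_zero _).1 h7) hd
      rw [h6, T.nm_zero, mul_zero, map_zero, zero_mul, zero_add, zero_add] at h3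
      rw [he, h3]
  rw [mem_centralizer_iff]
  intro z hz
  obtain ⟨a, b, d, rfl⟩ := h.v_surj z hz
  have h1 : v a b d = v a b 0 * v 0 0 d := by rw [← h.v_add]; simp
  have h2 : u * v a b d * u⁻¹ = v a b d := by
    calc u * v a b d * u⁻¹ = (u * v a b 0 * u⁻¹) * (u * v 0 0 d * u⁻¹) := by rw [h1]; group
      _ = v a b d := by rw [huE, key2, h1]
  rw [mul_inv_eq_iff_eq_mul] at h2
  exact h2.symm

end iso

end OutL

end Cfsg.Agent.Omega.NO1U
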