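import Cfsg.Agent.Omega.NO1U.CSide
import Cfsg.Agent.ParSys.FreeLoc
import Cfsg.Agent.ParSys.FreeCount

/-!
# The parabolic system (closing of NO-1' (β), q ≥ 4, c ≥ 2)

`C = N(R)` acts on the hermitian space `W = Q / R`; `fl` a maximal flag of totally isotropic subspaces with `fl 1 = F e₀`;
`B` its stabiliser, `PP a` (`a ≠ 0`) the stabiliser of the flag without `fl a`, `PP 0 = X B`, `U = Un`.

`gp` : `GP B P M`, `M` of type `B_{m+1}`; `sysL` : the system of THEOREM FREE with local closure; `card_le` : `|U| ≥ q_{w₀}`.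
-/

set_option autoImplicit false
set_option linter.unusedVariables false
set_option linter.unusedSectionVars false

open Subgroup Module
open Cfsg.Agent.Omega.NO1.Beta.Meet Cfsg.Agent.Omega.NOne.SU Cfsg.Agent.ParSys Cfsg.Agent.ParSys.RankTwo
open Cfsg.Agent.ParSys.Free Cfsg.Agent.ParSys.Polar.Flags Cfsg.Agent.ParSys.Polar.Unip Cfsg.Agent.ParSys.RootEpsBD Cfsg.Agent.Omega.NO1U.CSide

namespace Cfsg.Agent.Omega.NO1U.Sys

universe u

variable {G : Type u} [Group G] {k F : Type*} [Field k] [Field F] [Algebra k F]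
variable {T : Quad k F} {S : Sylow 2 G} {I : Type*} {V : Subgroup G} {Rf Qf : I → Subgroup G} {i j : I}
  {v : k → F → k → G} {p p' : G → F} {Φ : Type*} [AddCommGroup Φ] [Module F Φ] {φ χ : G → Φ}
  {hm : Φ → Φ → F} {W : Type*} [AddCommGroup W] [Module F W] [FiniteDimensional F W]
  {w : G → W} {g : W → W → F} {f₀ : W} {ι : Φ →ₗ[F] W}

/-- `PP 0 = X B`, `PP a` the stabiliser of the flag without `fl a` -/
def PP (R X : Subgroup G) (sg : ↥(normalizer (R : Set G)) →* Equiv.Perm (Submodule F W)) (m : ℕ)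
    (f : ℕ → Submodule F W) (a : Fin (m + 1)) : Subgroup G :=
  if a = 0 then X ⊔ fst (normalizer (R : Set G)) sg m f ∅ else fst (normalizer (R : Set G)) sg m f {(a : ℕ)}

section PP

variable (R X : Subgroup G) (sg : ↥(normalizer (R : Set G)) →* Equiv.Perm (Submodule F W)) (m : ℕ)
    (f : ℕ → Submodule F W)

theorem B_le_PP (a : Fin (m + 1)) : fst (normalizer (R : Set G)) sg m f ∅ ≤ PP R X sg m f a := by
  unfold PP
  split_ifs
  · exact le_sup_right
  · exact fst_mono (by simp)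

theorem PP_zero : PP R X sg m f 0 = X ⊔ fst (normalizer (R : Set G)) sg m f ∅ := if_pos rfl

theorem PP_ne {a : Fin (m + 1)} (ha : a ≠ 0) :
    PP R X sg m f a = fst (normalizer (R : Set G)) sg m f {(a : ℕ)} := if_neg ha

end PP

theorem fin_pos {m : ℕ} {a : Fin (m + 1)} (ha : a ≠ 0) : 1 ≤ (a : ℕ) := by
  rcases Nat.eq_zero_or_pos (a : ℕ) with h | h
  · exact absurd (Fin.ext (by simpa using h)) ha
  · exact h

variable {sigma : ↥(normalizer (Rf i : Set G)) →* Equiv.Perm (Submodule F W)} {m : ℕ}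
  {fl : ℕ → Submodule F W}
  (D : XD T S V Rf Qf i j v p p' φ χ) (o : Out T V (Rf i) (Qf i) (Qf j) v p φ χ hm w g f₀ ι)
  (P : Pol (normalizer (Rf i : Set G)) (Nat.card k) (sgR T) g (rho D.g o) sigma m fl)
  (hf1 : fl 1 = F ∙ w (v 0 1 0)) (hm2 : 2 ≤ m)

include D o P hf1 hm2

/-- **the rank two residues** -/
theorem gp [Finite G] {M : CoxeterMatrix (Fin (m + 1))} (hM : TypeB M) :
    GP (fst (normalizer (Rf i : Set G)) sigma m fl ∅) (PP (Rf i) (Qf i ⊔ Qf j) sigma m fl) (fun a b => M a b) := by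
  have hBP := B_le_PP (Rf i) (Qf i ⊔ Qf j) sigma m fl
  have E := nd D o P hf1 (by omega)
  rw [gp_iff]
  intro a b hab
  rw [hM a b hab]
  by_cases ha : a = 0
  · subst ha
    have hb' := PP_ne (Rf i) (Qf i ⊔ Qf j) sigma m fl (Ne.symm hab)
    have hb1 := fin_pos (Ne.symm hab)
    by_cases hb : (b : ℕ) = 1
    · have e : (if (((0 : Fin (m + 1)) : ℕ) + 1 = b ∧ (b : ℕ) = m) ∨ ((b : ℕ) + 1 = ((0 : Fin (m + 1)) : ℕ) ∧
          ((0 : Fin (m + 1)) : ℕ) = m) then 4
          else if ((0 : Fin (m + 1)) : ℕ) + 1 = b ∨ (b : ℕ) + 1 = ((0 : Fin (m + 1)) : ℕ) then 3 else 2) = 3 := by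
        rw [if_neg (by simp only [Fin.val_zero]; omega), if_pos (by simp only [Fin.val_zero]; omega)]
      rw [e]
      rw [hb] at hb'
      exact (gpp01 D o P hf1 (by omega) hm2 hab hBP (PP_zero _ _ _ _ _) hb').1
    · have e : (if (((0 : Fin (m + 1)) : ℕ) + 1 = b ∧ (b : ℕ) = m) ∨ ((b : ℕ) + 1 = ((0 : Fin (m + 1)) : ℕ) ∧
          ((0 : Fin (m + 1)) : ℕ) = m) then 4
          else if ((0 : Fin (m + 1)) : ℕ) + 1 = b ∨ (b : ℕ) + 1 = ((0 : Fin (m + 1)) : ℕ) then 3 else 2) = 2 := by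
        rw [if_neg (by simp only [Fin.val_zero]; omega), if_neg (by simp only [Fin.val_zero]; omega)]
      rw [e]
      refine Nd.digon D E hBP (PP_zero _ _ _ _ _) ?_ ?_
      · rw [hb']
        exact fst_le_N D o P hf1 (by omega) (by simpa using Ne.symm hb)
      · rw [hb']
        exact fst_le
  by_cases hb : b = 0
  · subst hb
    have ha' := PP_ne (Rf i) (Qf i ⊔ Qf j) sigma m fl ha
    have ha0 := fin_pos ha
    by_cases ha1 : (a : ℕ) = 1
    · have e : (if ((a : ℕ) + 1 = ((0 : Fin (m + 1)) : ℕ) ∧ ((0 : Fin (m + 1)) : ℕ) = m) ∨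
          (((0 : Fin (m + 1)) : ℕ) + 1 = a ∧ (a : ℕ) = m) then 4
          else if (a : ℕ) + 1 = ((0 : Fin (m + 1)) : ℕ) ∨ ((0 : Fin (m + 1)) : ℕ) + 1 = a then 3 else 2) = 3 := by
        rw [if_neg (by simp only [Fin.val_zero]; omega), if_pos (by simp only [Fin.val_zero]; omega)]
      rw [e]
      rw [ha1] at ha'
      exact (gpp01 D o P hf1 (by omega) hm2 (Ne.symm hab) hBP (PP_zero _ _ _ _ _) ha').2
    · have e : (if ((a : ℕ) + 1 = ((0 : Fin (m + 1)) : ℕ) ∧ ((0 : Fin (m + 1)) : ℕ) = m) ∨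
          (((0 : Fin (m + 1)) : ℕ) + 1 = a ∧ (a : ℕ) = m) then 4
          else if (a : ℕ) + 1 = ((0 : Fin (m + 1)) : ℕ) ∨ ((0 : Fin (m + 1)) : ℕ) + 1 = a then 3 else 2) = 2 := by
        rw [if_neg (by simp only [Fin.val_zero]; omega), if_neg (by simp only [Fin.val_zero]; omega)]
      rw [e]
      refine Nd.digon' D E hBP (PP_zero _ _ _ _ _) ?_ ?_
      · rw [ha']
        exact fst_le_N D o P hf1 (by omega) (by simpa using Ne.symm ha1)
      · rw [ha']
        exact fst_le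
  · -- both nodes in the polar space
    have key : ∀ a b : Fin (m + 1), a ≠ 0 → b ≠ 0 → (a : ℕ) < b →
        (GPp (fst (normalizer (Rf i : Set G)) sigma m fl ∅) (PP (Rf i) (Qf i ⊔ Qf j) sigma m fl) a b
          (if (a : ℕ) + 1 = b ∧ (b : ℕ) = m then 4 else if (a : ℕ) + 1 = b then 3 else 2)) ∧
        (GPp (fst (normalizer (Rf i : Set G)) sigma m fl ∅) (PP (Rf i) (Qf i ⊔ Qf j) sigma m fl) b a
          (if (a : ℕ) + 1 = b ∧ (b : ℕ) = m then 4 else if (a : ℕ) + 1 = b then 3 else 2)) := by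
      intro a b ha hb hlt
      have ha1 := fin_pos ha
      have hbm : (b : ℕ) ≤ m := by omega
      have ha' := PP_ne (Rf i) (Qf i ⊔ Qf j) sigma m fl ha
      have hb' := PP_ne (Rf i) (Qf i ⊔ Qf j) sigma m fl hb
      split_ifs with h1 h2
      · exact P.rk_four hBP ha' hb' ha1 h1.1 h1.2
      · exact P.rk_three hBP ha' hb' ha1 h2 (by omega)
      · exact P.rk_two hBP ha' hb' (by omega) hbm
    rcases lt_trichotomy (a : ℕ) b with h | h | h
    · have h1 := (key a b ha hb h).1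
      have e : (if ((a : ℕ) + 1 = b ∧ (b : ℕ) = m) ∨ ((b : ℕ) + 1 = a ∧ (a : ℕ) = m) then 4
          else if (a : ℕ) + 1 = b ∨ (b : ℕ) + 1 = a then 3 else 2) =
          (if (a : ℕ) + 1 = b ∧ (b : ℕ) = m then 4 else if (a : ℕ) + 1 = b then 3 else 2) := by
        split_ifs <;> omega
      rw [e]; exact h1
    · exact absurd (Fin.ext h) hab
    · have h1 := (key b a hb ha h).2
      have e : (if ((a : ℕ) + 1 = b ∧ (b : ℕ) = m) ∨ ((b : ℕ) + 1 = a ∧ (a : ℕ) = m) then 4
          else if (a : ℕ) + 1 = b ∨ (b : ℕ) + 1 = a then 3 else 2) =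
          (if (b : ℕ) + 1 = a ∧ (a : ℕ) = m then 4 else if (b : ℕ) + 1 = a then 3 else 2) := by
        split_ifs <;> omega
      rw [e]; exact h1

omit [FiniteDimensional F W] P hf1 hm2 in
theorem C_ne_top [IsSimpleGroup G] : normalizer (Rf i : Set G) ≠ ⊤ := by
  intro h
  have h1 : (Rf i).Normal := normalizer_eq_top_iff.1 h
  rcases h1.eq_bot_or_eq_top with h2 | h2
  · have h3 : v 1 0 0 ∈ Rf i := D.g.sp.a_mem 1
    rw [h2, mem_bot] at h3
    exact one_ne_zero (D.g.v_inj _ _ _ h3).1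
  · -- `R = ⊤`
    have h3 : v 0 0 1 ∈ Rf i := by rw [h2]; exact mem_top _
    obtain ⟨a, ha⟩ := (GEnd.mem_R D.g _).1 h3
    exact one_ne_zero (GEnd.v_eq D.g ha).2.2

/-- **the system of THEOREM FREE with local closure** -/
theorem sysL [Finite G] [IsSimpleGroup G] {M : CoxeterMatrix (Fin (m + 1))} (hM : TypeB M)
    (hMC : normalizer (V : Set G) ⊔ normalizer (Rf i : Set G) = ⊤) :
    FreeLoc.SysL M.toCoxeterSystem (fst (normalizer (Rf i : Set G)) sigma m fl ∅)
      (PP (Rf i) (Qf i ⊔ Qf j) sigma m fl) (Un P.A m fl)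
      (fun a => if (a : ℕ) = m then Nat.card k * Nat.card F ^ (finrank F W - 2 * m) else Nat.card F) := by
  have N := nd D o P hf1 (by omega)
  have hBP := B_le_PP (Rf i) (Qf i ⊔ Qf j) sigma m fl
  have hF2 : 2 ≤ Nat.card F := by
    have h1 := T.card
    have h2 := T.four
    rw [h1]
    nlinarith
  refine ⟨hBP, ?_, gp D o P hf1 hm2 hM, ?_, ?_, N.UB, ?_, ?_, ?_⟩
  · refine Nd.gen D N hMC (P.gen (by omega) fun d hd1 hdm => ?_) ?_
    · have h0 : (⟨d, by omega⟩ : Fin (m + 1)) ≠ 0 := fun h => by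
        have := congrArg Fin.val h
        simp at this; omega
      have h2 : fst (normalizer (Rf i : Set G)) sigma m fl {d} =
          PP (Rf i) (Qf i ⊔ Qf j) sigma m fl ⟨d, by omega⟩ := (PP_ne (Rf i) (Qf i ⊔ Qf j) sigma m fl h0).symm
      rw [h2]
      exact le_iSup (PP (Rf i) (Qf i ⊔ Qf j) sigma m fl) ⟨d, by omega⟩
    · rw [← PP_zero]
      exact le_iSup (PP (Rf i) (Qf i ⊔ Qf j) sigma m fl) 0
  · intro a
    by_cases ha : a = 0
    · subst ha
      rw [PP_zero, Nd.card D N, if_neg (by simp only [Fin.val_zero]; omega)]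
    · have ha1 := fin_pos ha
      rw [PP_ne _ _ _ _ _ ha]
      by_cases ham : (a : ℕ) = m
      · rw [if_pos ham, ham, P.relIndex_last (by omega)]
      · rw [if_neg ham, P.relIndex_lt ha1 (by omega)]
  · intro a
    split_ifs
    · have h2 := T.four
      have h3 : 1 ≤ Nat.card F ^ (finrank F W - 2 * m) := Nat.one_le_pow _ _ (by omega)
      nlinarith
    · exact hF2
  · intro a
    by_cases ha : a = 0
    · subst ha
      rw [PP_zero]
      exact Nd.pan D N
    · rw [PP_ne _ _ _ _ _ ha]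
      exact P.pan (fin_pos ha) (by omega)
  · intro a
    by_cases ha : a = 0
    · subst ha
      rw [PP_zero]
      exact Nd.clo D N
    · rw [PP_ne _ _ _ _ _ ha]
      exact P.clo (fin_pos ha) (by omega)
  · intro u hu hall
    by_contra hne
    have h1 : (Subgroup.normalClosure {u}).Normal := inferInstance
    have h2 : Subgroup.normalClosure {u} ≤ fst (normalizer (Rf i : Set G)) sigma m fl ∅ := by
      rw [Subgroup.normalClosure, Subgroup.closure_le]
      intro z hz
      rw [Group.mem_conjugatesOfSet_iff] at hz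
      obtain ⟨a, ha, hc⟩ := hz
      rw [Set.mem_singleton_iff] at ha
      subst ha
      rw [isConj_iff] at hc
      obtain ⟨c, rfl⟩ := hc
      have := hall c⁻¹
      rwa [inv_inv] at this
    rcases h1.eq_bot_or_eq_top with h3 | h3
    · apply hne
      have h4 : u ∈ Subgroup.normalClosure {u} := Subgroup.subset_normalClosure rfl
      rw [h3, mem_bot] at h4
      exact h4
    · rw [h3] at h2
      exact C_ne_top D o (top_le_iff.1 (h2.trans fst_le))

omit P hf1 hm2 in
/-- `|Q| = |k| |W|` -/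
theorem card_Q [Finite G] : Nat.card k * Nat.card W = Nat.card (Qf i) := by
  have hR : Nat.card (Rf i) = Nat.card k := by
    refine (Nat.card_congr (Equiv.ofBijective (fun a : k => (⟨v a 0 0, D.g.sp.a_mem a⟩ : ↥(Rf i))) ⟨?_, ?_⟩)).symm
    · intro a b hab
      exact (GEnd.v_eq D.g (congrArg Subtype.val hab)).1
    · rintro ⟨r, hr⟩
      obtain ⟨a, ha⟩ := (GEnd.mem_R D.g r).1 hr
      exact ⟨a, Subtype.ext ha.symm⟩
  let h : ↥(Qf i) →* Multiplicative W :=
    { toFun := fun x => Multiplicative.ofAdd (w x)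
      map_one' := by
        rw [show ((1 : ↥(Qf i)) : G) = 1 from rfl, OutL.w_one D.g o]; rfl
      map_mul' := fun x y => by
        rw [show ((x * y : ↥(Qf i)) : G) = x * y from rfl, o.w_mul _ x.2 _ y.2]; rfl }
  have hk : h.ker = (Rf i).subgroupOf (Qf i) := by
    ext x
    rw [MonoidHom.mem_ker, mem_subgroupOf, ← o.w_eq _ x.2]
    exact ⟨fun e => congrArg Multiplicative.toAdd e, fun e => by
      show Multiplicative.ofAdd (w x) = 1
      rw [e]; rfl⟩
  have hs : Function.Surjective h := fun y => by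
    obtain ⟨x, hx, he⟩ := o.w_surj (Multiplicative.toAdd y)
    exact ⟨⟨x, hx⟩, by
      show Multiplicative.ofAdd (w x) = y
      rw [he]; rfl⟩
  have h1 := Subgroup.card_eq_card_quotient_mul_card_subgroup h.ker
  rw [Nat.card_congr (QuotientGroup.quotientKerEquivOfSurjective h hs).toEquiv, hk,
    Nat.card_congr (Subgroup.subgroupOfEquivOfLe (D.M.R_Q i)).toEquiv, hR] at h1
  rw [h1, mul_comm]
  rfl

/-- **`|U| ≥ q_{w₀}`** -/
theorem card_le [Finite G] :
    Nat.card F ^ ((m + 1) * m) * (Nat.card k * Nat.card F ^ (finrank F W - 2 * m)) ^ (m + 1) ≤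
      Nat.card (Un P.A m fl) := by
  have hF := P.finF
  have h1 := P.card_un (Q := Qf i) (Q_le D.g) (fun x h y => rho_Q D.g o h _ y)
  refine le_trans (le_of_eq ?_) h1
  rw [← card_Q D o, Module.natCard_eq_pow_finrank (K := F) (V := W), T.card]
  rcases P.finrank_eq with h | h
  · rw [h]
    have e1 : 2 * m * (2 * m - 1) / 2 = m * (2 * m - 1) := by
      rw [mul_assoc, Nat.mul_div_cancel_left _ (by norm_num)]
    rw [e1, Nat.sub_self, pow_zero, mul_one, ← pow_mul, ← pow_add, ← pow_mul, ← pow_succ', ← pow_add]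
    congr 1
    obtain ⟨r, rfl⟩ : ∃ r, m = r + 1 := ⟨m - 1, by omega⟩
    have : 2 * (r + 1) - 1 = 2 * r + 1 := by omega
    rw [this]; ring
  · rw [h]
    have e1 : (2 * m + 1) * (2 * m + 1 - 1) / 2 = (2 * m + 1) * m := by
      rw [Nat.add_sub_cancel, mul_comm 2 m, ← mul_assoc, Nat.mul_div_cancel _ (by norm_num)]
    have e2 : 2 * m + 1 - 2 * m = 1 := by omega
    rw [e1, e2, pow_one, ← pow_mul, ← pow_succ', ← pow_mul, ← pow_add, ← pow_mul, ← pow_succ', ← pow_add]
    congr 1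
    ring

end Cfsg.Agent.Omega.NO1U.Sys
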