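import Cfsg.Agent.Omega.NOne.SU.FieldEnd

/-!
# The group `X = ⟨Q, Q'⟩` (closing of NO-1' (β), q ≥ 4, node 0)

`XD` : the data `GIn`, `Mt` (output of THEOREM BETA), `Fld` and MX (`N(V) = X (N(V) ∩ N(R))`).
`X = Q i ⊔ Q j`, `Y = (Q i ⊓ C(V)) ⊔ (Q j ⊓ C(V))`.

* `X`, `N(V)` permute the points `R k` of `V` and the groups `Q k` (`XD.permN`); `N(V)` normalises `X`, `Y`;
* `[X, C(V)] ≤ Y` (`XD.comm`); `Q` is transitive on the points `≠ R` (`XD.Qtr`).
-/

set_option autoImplicit false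
set_option linter.unusedVariables false
set_option linter.unusedSectionVars false

open Subgroup
open Cfsg.Agent.Omega.NO1.Beta.Meet Cfsg.Agent.Omega.NOne.SU

namespace Cfsg.Agent.Omega.NO1U

universe u

variable {G : Type u} [Group G] {k F : Type*} [Field k] [Field F] [Algebra k F]

/-- The data: `GIn`, `Mt`, `Fld`, MX. -/
structure XD (T : Quad k F) (S : Sylow 2 G) {I : Type*} (V : Subgroup G) (Rf Qf : I → Subgroup G) (i j : I)
    (v : k → F → k → G) (p p' : G → F) {Φ : Type*} [AddCommGroup Φ] [Module F Φ] (φ χ : G → Φ) : Prop where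
  g : GIn T S V (Rf i) (Qf i) (Qf j) v p p'
  M : Mt V Rf Qf
  ne : i ≠ j
  Rj : ∀ x, x ∈ Rf j ↔ ∃ d, x = v 0 0 d
  f : Fld T V (Rf i) (Qf i) (Qf j) v p φ χ
  mx : ∀ m ∈ normalizer (V : Set G), ∃ x ∈ Qf i ⊔ Qf j, x * m ∈ normalizer (Rf i : Set G)

variable {T : Quad k F} {S : Sylow 2 G} {I : Type*} {V : Subgroup G} {Rf Qf : I → Subgroup G} {i j : I}
  {v : k → F → k → G} {p p' : G → F} {Φ : Type*} [AddCommGroup Φ] [Module F Φ] {φ χ : G → Φ}

/-- `Y = C_Q(V) C_{Q'}(V)` -/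
def YY (V : Subgroup G) (Qf : I → Subgroup G) (i j : I) : Subgroup G :=
  (Qf i ⊓ centralizer (V : Set G)) ⊔ (Qf j ⊓ centralizer (V : Set G))

namespace XD

section mt

variable (M : Mt V Rf Qf)
include M

theorem X_le_N : Qf i ⊔ Qf j ≤ normalizer (V : Set G) := sup_le (M.Q_V i) (M.Q_V j)

/-- `X` permutes the points -/
theorem permX {x : G} (hx : x ∈ Qf i ⊔ Qf j) : ∀ l, ∃ m, cj x (Rf l) = Rf m ∧ cj x (Qf l) = Qf m := by
  rw [Subgroup.sup_eq_closure] at hx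
  have key : ∀ y, y ∈ (Qf i : Set G) ∪ (Qf j : Set G) → ∀ l, ∃ m, cj y (Rf l) = Rf m ∧ cj y (Qf l) = Qf m := by
    intro y hy l
    rcases hy with hy | hy
    · exact M.perm i y hy l
    · exact M.perm j y hy l
  induction hx using Subgroup.closure_induction_left with
  | one => intro l; exact ⟨l, by rw [cj, map_one, one_smul], by rw [cj, map_one, one_smul]⟩
  | mul_left a ha b hb ih =>
    intro l
    obtain ⟨m, h1, h2⟩ := ih l
    obtain ⟨m', h3, h4⟩ := key a ha m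
    exact ⟨m', by rw [cj_mul, h1, h3], by rw [cj_mul, h2, h4]⟩
  | inv_mul_cancel a ha b hb ih =>
    intro l
    obtain ⟨m, h1, h2⟩ := ih l
    have ha' : a⁻¹ ∈ (Qf i : Set G) ∪ (Qf j : Set G) := by
      rcases ha with ha | ha
      · exact Or.inl ((Qf i).inv_mem ha)
      · exact Or.inr ((Qf j).inv_mem ha)
    obtain ⟨m', h3, h4⟩ := key _ ha' m
    exact ⟨m', by rw [cj_mul, h1, h3], by rw [cj_mul, h2, h4]⟩

end mt

variable (D : XD T S V Rf Qf i j v p p' φ χ)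
include D

theorem frame : ∃ x y : F → G, (∀ l, p (x l) = l) ∧ (∀ l, p' (y l) = l) ∧ Fr F V Rf Qf i j x y :=
  GEnd.exists_frame D.g D.M D.ne D.Rj

/-- `n` swaps `R` and `R'` -/
theorem exists_n : ∃ n ∈ Qf i ⊔ Qf j, cj n (Qf i) = Qf j ∧ cj n (Qf j) = Qf i ∧ cj n (Rf i) = Rf j ∧
    cj n (Rf j) = Rf i := by
  obtain ⟨x, y, -, -, Fr⟩ := D.frame
  have h := D.M.swap D.ne (Fr.hx 1) (Fr.hy 1⁻¹) (Fr.mat 1 one_ne_zero)
  exact ⟨_, mul_mem (mul_mem (mem_sup_left (Fr.hx 1)) (mem_sup_right (Fr.hy _))) (mem_sup_left (Fr.hx 1)), h⟩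

/-- `X` is transitive on the points -/
theorem tranX (l : I) : ∃ x ∈ Qf i ⊔ Qf j, cj x (Rf i) = Rf l ∧ cj x (Qf i) = Qf l := by
  by_cases hl : l = i
  · subst hl
    exact ⟨1, one_mem _, by rw [cj, map_one, one_smul], by rw [cj, map_one, one_smul]⟩
  · obtain ⟨n, hn, h1, h2, h3, h4⟩ := D.exists_n
    obtain ⟨y, hy, h5⟩ := D.M.tran i j l D.ne.symm hl
    refine ⟨y * n, mul_mem (mem_sup_left hy) hn, by rw [cj_mul, h3, h5], ?_⟩
    rw [cj_mul, h1]
    exact D.M.Q_of_R hy h5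

theorem Q_le_X (l : I) : Qf l ≤ Qf i ⊔ Qf j := by
  obtain ⟨x, hx, h1, h2⟩ := D.tranX l
  rw [← h2]
  intro y hy
  rw [mem_cj] at hy
  have : y = x * (x⁻¹ * y * x) * x⁻¹ := by group
  rw [this]
  exact mul_mem (mul_mem hx (mem_sup_left hy)) (inv_mem hx)

/-- `N(V)` permutes the points -/
theorem permN {m : G} (hm : m ∈ normalizer (V : Set G)) (l : I) :
    ∃ l', cj m (Rf l) = Rf l' ∧ cj m (Qf l) = Qf l' := by
  obtain ⟨x, hx, h1, h2⟩ := D.tranX l
  obtain ⟨x', hx', h3⟩ := D.mx (m * x) (mul_mem hm (X_le_N D.M hx))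
  have h4 : cj (x' * (m * x)) (Rf i) = Rf i := cj_of_mem_normalizer h3
  have h5 : cj (x' * (m * x)) (Qf i) = Qf i := D.M.nor i _ h3
  obtain ⟨l', h6, h7⟩ := permX D.M (inv_mem hx') i
  refine ⟨l', ?_, ?_⟩
  · rw [← h6, ← h4, ← cj_mul, ← h1, ← cj_mul]
    congr 1; group
  · rw [← h7, ← h5, ← cj_mul, ← h2, ← cj_mul]
    congr 1; group

theorem N_X {m x : G} (hm : m ∈ normalizer (V : Set G)) (hx : x ∈ Qf i ⊔ Qf j) : m * x * m⁻¹ ∈ Qf i ⊔ Qf j := by
  have key : ∀ l, ∀ y ∈ Qf l, m * y * m⁻¹ ∈ Qf i ⊔ Qf j := by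
    intro l y hy
    obtain ⟨l', -, h2⟩ := D.permN hm l
    have := conj_mem_cj (c := m) hy
    rw [h2] at this
    exact D.Q_le_X l' this
  have h1 : Qf i ⊔ Qf j ≤ (Qf i ⊔ Qf j).comap (MulAut.conj m).toMonoidHom :=
    sup_le (fun y hy => key i y hy) (fun y hy => key j y hy)
  exact h1 hx

theorem NX {m : G} (hm : m ∈ normalizer (V : Set G)) :
    ∃ x ∈ Qf i ⊔ Qf j, ∃ c ∈ normalizer (V : Set G), c ∈ normalizer (Rf i : Set G) ∧ m = x * c := by
  obtain ⟨x, hx, h⟩ := D.mx m hm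
  exact ⟨x⁻¹, inv_mem hx, x * m, mul_mem (X_le_N D.M hx) hm, h, by group⟩

theorem X_le_norX {m : G} (hm : m ∈ normalizer (V : Set G)) : m ∈ normalizer ((Qf i ⊔ Qf j : Subgroup G) : Set G) := by
  rw [mem_normalizer_iff]
  intro x
  constructor
  · exact fun hx => D.N_X hm hx
  · intro hx
    have := D.N_X (inv_mem hm) hx
    have e : m⁻¹ * (m * x * m⁻¹) * m⁻¹⁻¹ = x := by group
    rwa [e] at this

/-! ### The group `Y` -/

theorem E_mem {l : I} : Rf l ≤ centralizer (V : Set G) := (D.M.R_le l).trans D.M.V_le_C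

theorem QC_le_Y (l : I) : Qf l ⊓ centralizer (V : Set G) ≤ YY V Qf i j := by
  by_cases hl : l = i
  · subst hl; exact le_sup_left
  · obtain ⟨y, hy, h5⟩ := D.M.tran i j l D.ne.symm hl
    have h6 := D.M.Q_of_R hy h5
    rintro b ⟨hb, hbC⟩
    rw [← h6] at hb
    change b ∈ cj y (Qf j) at hb
    rw [mem_cj] at hb
    have hbC' : y⁻¹ * b * y ∈ centralizer (V : Set G) := by
      have := D.M.Q_cent ((Qf i).inv_mem hy) hbC
      rwa [inv_inv] at this
    have e : b = (y * (y⁻¹ * b * y) * y⁻¹ * (y⁻¹ * b * y)⁻¹) * (y⁻¹ * b * y) := by group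
    rw [e]
    exact mul_mem (mem_sup_left (mem_inf.mpr (D.M.comm_mem hy hb hbC'))) (mem_sup_right (mem_inf.mpr ⟨hb, hbC'⟩))

theorem V_le_Y : V ≤ YY V Qf i j := by
  refine (D.M.VE i j D.ne).trans (sup_le ?_ ?_)
  · exact (le_inf inf_le_right (inf_le_left.trans D.M.V_le_C)).trans le_sup_left
  · exact (le_inf (D.M.R_Q j) (D.E_mem)).trans le_sup_right

theorem Y_le_C : YY V Qf i j ≤ centralizer (V : Set G) := sup_le inf_le_right inf_le_right

theorem Y_le_X : YY V Qf i j ≤ Qf i ⊔ Qf j := sup_le_sup inf_le_left inf_le_left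

theorem N_Y {m y : G} (hm : m ∈ normalizer (V : Set G)) (hy : y ∈ YY V Qf i j) : m * y * m⁻¹ ∈ YY V Qf i j := by
  have key : ∀ l, ∀ y ∈ Qf l ⊓ centralizer (V : Set G), m * y * m⁻¹ ∈ YY V Qf i j := by
    intro l y hy
    obtain ⟨l', -, h2⟩ := D.permN hm l
    have := conj_mem_cj (c := m) hy.1
    rw [h2] at this
    exact D.QC_le_Y l' (mem_inf.mpr ⟨this, cent_conj hm hy.2⟩)
  have h1 : YY V Qf i j ≤ (YY V Qf i j).comap (MulAut.conj m).toMonoidHom :=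
    sup_le (fun y hy => key i y hy) (fun y hy => key j y hy)
  exact h1 hy

theorem N_le_norY {m : G} (hm : m ∈ normalizer (V : Set G)) : m ∈ normalizer ((YY V Qf i j : Subgroup G) : Set G) := by
  rw [mem_normalizer_iff]
  intro x
  constructor
  · exact fun hx => D.N_Y hm hx
  · intro hx
    have := D.N_Y (inv_mem hm) hx
    have e : m⁻¹ * (m * x * m⁻¹) * m⁻¹⁻¹ = x := by group
    rwa [e] at this

/-- `[X, C(V)] ≤ Y` -/
theorem comm {x c : G} (hx : x ∈ Qf i ⊔ Qf j) (hc : c ∈ centralizer (V : Set G)) :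
    x * c * x⁻¹ * c⁻¹ ∈ YY V Qf i j := by
  have hone : ∀ l, ∀ y ∈ Qf l, y * c * y⁻¹ * c⁻¹ ∈ Qf l ⊓ centralizer (V : Set G) := by
    intro l y hy
    refine mem_inf.mpr ⟨?_, ?_⟩
    · have h1 := D.M.C_conj l hc ((Qf l).inv_mem hy)
      have e : y * c * y⁻¹ * c⁻¹ = y * (c * y⁻¹ * c⁻¹) := by group
      rw [e]; exact mul_mem hy h1
    · exact mul_mem (D.M.Q_cent hy hc) (inv_mem hc)
  have hcN : ∀ {c : G}, c ∈ centralizer (V : Set G) → c ∈ normalizer (V : Set G) := by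
    intro c hc
    apply mem_normalizer_of_cj
    exact cj_eq_of_comm fun x hx => ((mem_centralizer_iff.mp hc) x hx).symm
  have hgen : ∀ y, y ∈ (Qf i : Set G) ∪ (Qf j : Set G) → y * c * y⁻¹ * c⁻¹ ∈ YY V Qf i j := by
    intro y hy
    rcases hy with hy | hy
    · exact D.QC_le_Y i (hone i y hy)
    · exact D.QC_le_Y j (hone j y hy)
  have hle := X_le_N (i := i) (j := j) D.M
  rw [Subgroup.sup_eq_closure] at hx
  induction hx using Subgroup.closure_induction_left with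
  | one => have : (1 : G) * c * 1⁻¹ * c⁻¹ = 1 := by group
           rw [this]; exact one_mem _
  | mul_left a ha b hb ih =>
    have e : a * b * c * (a * b)⁻¹ * c⁻¹ = a * (b * c * b⁻¹ * c⁻¹) * a⁻¹ * (a * c * a⁻¹ * c⁻¹) := by group
    rw [e]
    have haN : a ∈ normalizer (V : Set G) := by
      rcases ha with ha | ha
      · exact D.M.Q_V i ha
      · exact D.M.Q_V j ha
    exact mul_mem (D.N_Y haN ih) (hgen a ha)
  | inv_mul_cancel a ha b hb ih =>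
    have e : a⁻¹ * b * c * (a⁻¹ * b)⁻¹ * c⁻¹ = a⁻¹ * (b * c * b⁻¹ * c⁻¹) * a⁻¹⁻¹ * (a⁻¹ * c * a⁻¹⁻¹ * c⁻¹) := by group
    rw [e]
    have ha' : a⁻¹ ∈ (Qf i : Set G) ∪ (Qf j : Set G) := by
      rcases ha with ha | ha
      · exact Or.inl ((Qf i).inv_mem ha)
      · exact Or.inr ((Qf j).inv_mem ha)
    have haN : a⁻¹ ∈ normalizer (V : Set G) := by
      rcases ha' with ha | ha
      · exact D.M.Q_V i ha
      · exact D.M.Q_V j ha
    exact mul_mem (D.N_Y haN ih) (hgen _ ha')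

/-- 2-transitivity -/
theorem Qtr {x n : G} (hx : x ∈ Qf i ⊔ Qf j) (hxC : x ∉ normalizer (Rf i : Set G))
    (hn : cj n (Rf i) = Rf j) : ∃ u ∈ Qf i, (u * n)⁻¹ * x ∈ normalizer (Rf i : Set G) := by
  obtain ⟨l, h1, -⟩ := permX D.M hx i
  have hl : l ≠ i := by
    rintro rfl
    exact hxC (mem_normalizer_of_cj h1)
  obtain ⟨u, hu, h2⟩ := D.M.tran i j l D.ne.symm hl
  refine ⟨u, hu, mem_normalizer_of_cj ?_⟩
  rw [cj_mul, h1, ← h2, ← hn, ← cj_mul, ← cj_mul]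
  have e : (u * n)⁻¹ * u * n = 1 := by group
  rw [e, cj, map_one, one_smul]

end XD

end Cfsg.Agent.Omega.NO1U
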