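import Cfsg.Agent.Omega.NO1U.XMat

/-!
# The group `X = ⟨Q, Q'⟩`: the stabiliser of `R`, the elements trivial on `V`, the number of points

* `XD.mem_NR_iff`, `XD.scal` : `X ∩ N(R)` acts on `C_Q(V) / (V ∩ Q) = Φ` by scalars of `F`;
* `XD.triv` : `X ∩ C(V)` centralises `Y / V`;
* `XD.relIndex` : `|X : X ∩ N(R)| = |F| + 1`;
* `XD.mem_QC` : an element of `N(V) ∩ N(R)` which is trivial on `R`, `(V ∩ Q) / R`, `Q / C_Q(V)` lies in `Q C(V)`.
-/

set_option autoImplicit false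
set_option linter.unusedVariables false
set_option linter.unusedSectionVars false

open Subgroup
open Cfsg.Agent.Omega.NO1.Beta.Meet Cfsg.Agent.Omega.NOne.SU

namespace Cfsg.Agent.Omega.NO1U

universe u

variable {G : Type u} [Group G] {k F : Type*} [Field k] [Field F] [Algebra k F]
variable {T : Quad k F} {S : Sylow 2 G} {I : Type*} {V : Subgroup G} {Rf Qf : I → Subgroup G} {i j : I}
  {v : k → F → k → G} {p p' : G → F} {Φ : Type*} [AddCommGroup Φ] [Module F Φ] {φ χ : G → Φ}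

namespace XD

variable (D : XD T S V Rf Qf i j v p p' φ χ)
include D

theorem mem_NR {x : G} (hx : x ∈ normalizer (Rf i : Set G)) (a : k) : ∃ a', x * v a 0 0 * x⁻¹ = v a' 0 0 := by
  have h1 : x * v a 0 0 * x⁻¹ ∈ Rf i := (mem_normalizer_iff.mp hx _).mp (D.g.sp.a_mem a)
  exact (GEnd.mem_R D.g _).mp h1

/-- the matrix of an element of `X ∩ N(R)` is upper triangular -/
theorem matR {x : G} (hx : x ∈ Qf i ⊔ Qf j) (hR : x ∈ normalizer (Rf i : Set G)) : ∃ α β : F, α ≠ 0 ∧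
    (∀ m u w, Rep V Qf i j φ χ m u w → Rep V Qf i j φ χ (x * m * x⁻¹) (α • u + β • w) (α⁻¹ • w)) ∧
    Act T v x α β 0 α⁻¹ := by
  obtain ⟨α, β, γ, δ, h1, h2, h3⟩ := D.mat hx
  obtain ⟨a', d', ha, hd, hv⟩ := h3 1 0 0
  obtain ⟨a'', ha''⟩ := D.mem_NR hR 1
  rw [ha''] at hv
  obtain ⟨-, -, e⟩ := GEnd.v_eq D.g hv
  rw [← e] at hd
  simp only [map_zero, map_one, mul_one, mul_zero, add_zero] at hd
  have hγ : γ = 0 := by
    rcases mul_eq_zero.mp hd.symm with h | h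
    · exact h
    · simpa using h
  subst hγ
  rw [mul_zero, add_zero] at h1
  have hα : α ≠ 0 := left_ne_zero_of_mul_eq_one h1
  have hδ : δ = α⁻¹ := eq_inv_of_mul_eq_one_right h1
  subst hδ
  refine ⟨α, β, hα, ?_, h3⟩
  intro m u w h
  have := h2 m u w h
  rwa [zero_smul, zero_add] at this

/-- **`X ∩ N(R)` acts on `C_Q(V) / (V ∩ Q)` by scalars** -/
theorem scal {x : G} (hx : x ∈ Qf i ⊔ Qf j) (hR : x ∈ normalizer (Rf i : Set G)) : ∃ s : F, s ≠ 0 ∧
    ∀ a ∈ Qf i ⊓ centralizer (V : Set G), x * a * x⁻¹ ∈ Qf i ⊓ centralizer (V : Set G) ∧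
      φ (x * a * x⁻¹) = s • φ a := by
  obtain ⟨α, β, hα, h1, -⟩ := D.matR hx hR
  refine ⟨α, hα, fun a ha => ?_⟩
  have h2 := h1 a _ _ (D.rep_left ha)
  have h3 : x * a * x⁻¹ ∈ Qf i ⊓ centralizer (V : Set G) := by
    refine mem_inf.mpr ⟨?_, cent_conj (X_le_N D.M hx) ha.2⟩
    have := conj_mem_cj (c := x) ha.1
    rwa [D.M.nor i x hR] at this
  refine ⟨h3, ?_⟩
  have h4 := (D.rep_uniq h2 (D.rep_left h3)).1
  rw [← h4, smul_zero, add_zero]

/-- **`X ∩ C(V)` centralises `Y / V`** -/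
theorem triv {x m : G} {u w : Φ} (hx : x ∈ Qf i ⊔ Qf j) (hC : x ∈ centralizer (V : Set G))
    (h : Rep V Qf i j φ χ m u w) : Rep V Qf i j φ χ (x * m * x⁻¹) u w := by
  have h2 := GEnd.h2 D.g
  have hR : x ∈ normalizer (Rf i : Set G) := by
    apply mem_normalizer_of_cj
    exact cj_eq_of_comm fun r hr => ((mem_centralizer_iff.mp hC) r (D.M.R_le i hr)).symm
  obtain ⟨α, β, hα, h1, h3⟩ := D.matR hx hR
  rw [GEnd.cent_iff D.g] at hC
  -- `β = 0`
  obtain ⟨a', d', ha, hd, hv⟩ := h3 0 0 1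
  rw [hC] at hv
  obtain ⟨e1, e2, e3⟩ := GEnd.v_eq D.g hv
  rw [← e1] at ha
  simp only [map_zero, map_one, mul_one, mul_zero, zero_add] at ha
  have hβ : β = 0 := by
    rcases mul_eq_zero.mp ha.symm with h | h
    · exact h
    · simpa using h
  subst hβ
  -- `α σ(α⁻¹) = 1`
  obtain ⟨a', d', ha, hd, hv⟩ := h3 0 1 0
  rw [hC] at hv
  obtain ⟨e1, e2, e3⟩ := GEnd.v_eq D.g hv
  simp only [map_zero, map_one, mul_one, mul_zero, zero_add, add_zero, zero_mul] at e2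
  -- `α σ(α) = 1`
  obtain ⟨a', d', ha, hd, hv⟩ := h3 1 0 0
  rw [hC] at hv
  obtain ⟨e1, e2', e3⟩ := GEnd.v_eq D.g hv
  rw [← e1] at ha
  simp only [map_zero, map_one, mul_one, mul_zero, zero_add, add_zero, zero_mul] at ha
  have hs : T.sg α ≠ 0 := QuadF.sg_ne T hα
  have e4 : T.sg α = α := by
    rw [map_inv₀] at e2
    field_simp at e2
    exact e2
  rw [e4] at ha
  have e5 : (α - 1) * (α - 1) = 0 := by linear_combination -ha - (α - 1) * h2
  have e6 : α = 1 := by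
    have := mul_self_eq_zero.mp e5
    exact sub_eq_zero.mp this
  have := h1 m u w h
  rw [e6, zero_smul, add_zero, one_smul, inv_one, one_smul] at this
  exact this

theorem triv' {x y : G} (hx : x ∈ Qf i ⊔ Qf j) (hC : x ∈ centralizer (V : Set G)) (hy : y ∈ YY V Qf i j) :
    x * y * x⁻¹ * y⁻¹ ∈ V := by
  obtain ⟨u, w, h⟩ := D.rep_Y.mp hy
  obtain ⟨u', w', h'⟩ := D.rep_Y.mp (inv_mem hy)
  have h1 := D.rep_mul h h'
  rw [mul_inv_cancel] at h1
  obtain ⟨e1, e2⟩ := D.rep_uniq h1 (D.rep_V (one_mem V))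
  have h2 := D.rep_mul (D.triv hx hC h) h'
  rw [e1, e2] at h2
  exact D.rep_zero h2

/-! ### The number of points -/

theorem cj_Rf_eq {x y : G} : cj x (Rf i) = cj y (Rf i) ↔ x⁻¹ * y ∈ normalizer (Rf i : Set G) := by
  constructor
  · intro h
    apply mem_normalizer_of_cj
    rw [cj_mul, ← h, ← cj_mul, inv_mul_cancel, cj, map_one, one_smul]
  · intro h
    have h1 := cj_of_mem_normalizer h
    calc cj x (Rf i) = cj x (cj (x⁻¹ * y) (Rf i)) := by rw [h1]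
      _ = cj y (Rf i) := by rw [← cj_mul, mul_inv_cancel_left]

theorem card_I : Nat.card I = Nat.card F + 1 := by
  classical
  have hF := GEnd.finF T
  obtain ⟨x, y, hpx, hpy, Fr⟩ := D.frame
  -- `l ≠ i ↦ p u`, `cj u (R j) = R l`
  have h1 : ∀ c : F, ∃ l, l ≠ i ∧ cj (x c) (Rf j) = Rf l := by
    intro c
    obtain ⟨l, h, h', -⟩ := D.M.move D.ne.symm (Fr.hx c)
    exact ⟨l, h, h'⟩
  choose f hf hf' using h1
  have hinj : Function.Injective f := by
    intro c d h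
    have h2 : cj (x c) (Rf j) = cj (x d) (Rf j) := by rw [hf', hf', h]
    have h3 : (x c)⁻¹ * x d ∈ centralizer (V : Set G) := by
      apply D.M.fixj i j D.ne _ (mul_mem (inv_mem (Fr.hx c)) (Fr.hx d))
      rw [cj_mul, ← h2, ← cj_mul, inv_mul_cancel, cj, map_one, one_smul]
    rw [GEnd.mem_C D.g (mul_mem (inv_mem (Fr.hx c)) (Fr.hx d)), D.g.p_add _ (inv_mem (Fr.hx c)) _ (Fr.hx d),
      GEnd.p_inv D.g (Fr.hx c), hpx, hpx] at h3
    exact (neg_add_eq_zero.mp h3)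
  have hsurj : ∀ l, l ≠ i → ∃ c, f c = l := by
    intro l hl
    obtain ⟨u, hu, h2⟩ := D.M.tran i j l D.ne.symm hl
    refine ⟨p u, D.M.inj _ _ ?_⟩
    rw [← hf', ← h2]
    have h3 : (x (p u))⁻¹ * u ∈ centralizer (V : Set G) := by
      rw [GEnd.mem_C D.g (mul_mem (inv_mem (Fr.hx _)) hu), D.g.p_add _ (inv_mem (Fr.hx _)) _ hu,
        GEnd.p_inv D.g (Fr.hx _), hpx, neg_add_cancel]
    have h4 : cj ((x (p u))⁻¹ * u) (Rf j) = Rf j :=
      cj_eq_of_comm fun r hr => ((mem_centralizer_iff.mp h3) r (D.M.R_le j hr)).symm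
    calc cj (x (p u)) (Rf j) = cj (x (p u)) (cj ((x (p u))⁻¹ * u) (Rf j)) := by rw [h4]
      _ = cj u (Rf j) := by rw [← cj_mul, mul_inv_cancel_left]
  let e : Option F ≃ I := Equiv.ofBijective (fun o => o.elim i f) (by
    constructor
    · rintro (_ | c) (_ | d) h
      · rfl
      · exact absurd h.symm (hf d)
      · exact absurd h (hf c)
      · rw [hinj h]
    · intro l
      by_cases hl : l = i
      · exact ⟨none, hl.symm⟩
      · obtain ⟨c, hc⟩ := hsurj l hl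
        exact ⟨some c, hc⟩)
  rw [← Nat.card_congr e, Finite.card_option]

/-- `|X : X ∩ N(R)| = |F| + 1` -/
theorem relIndex : (normalizer (Rf i : Set G)).relIndex (Qf i ⊔ Qf j) = Nat.card F + 1 := by
  rw [← D.card_I, Subgroup.relIndex, Subgroup.index]
  have h1 : ∀ x : ↥(Qf i ⊔ Qf j), ∃ l, cj (x : G) (Rf i) = Rf l := fun x => by
    obtain ⟨l, h, -⟩ := permX D.M x.2 i
    exact ⟨l, h⟩
  choose f hf using h1
  refine Nat.card_congr (Equiv.ofBijective (Quotient.lift f ?_) ⟨?_, ?_⟩)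
  · intro a b hab
    have h2 : (a : G)⁻¹ * b ∈ normalizer (Rf i : Set G) := by
      have := (QuotientGroup.leftRel_apply.mp hab)
      rw [mem_subgroupOf] at this
      exact this
    apply D.M.inj
    rw [← hf, ← hf]
    exact D.cj_Rf_eq.mpr h2
  · intro a b
    induction a using QuotientGroup.induction_on with | _ a => ?_
    induction b using QuotientGroup.induction_on with | _ b => ?_
    intro hab
    change f a = f b at hab
    rw [QuotientGroup.eq, mem_subgroupOf]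
    apply D.cj_Rf_eq.mp
    rw [hf, hf, hab]
  · intro l
    obtain ⟨x, hx, h2, -⟩ := D.tranX l
    refine ⟨((⟨x, hx⟩ : ↥(Qf i ⊔ Qf j)) : ↥(Qf i ⊔ Qf j) ⧸ _), D.M.inj _ _ ?_⟩
    change Rf (f ⟨x, hx⟩) = Rf l
    rw [← hf, h2]

/-! ### The elements which act on `V` as an element of `Q` -/

/-- an element of `N(V)` which is trivial on `R`, `(V ∩ Q) / R`, `Q / C_Q(V)` lies in `Q C(V)` -/
theorem mem_QC {g : G} (hN : g ∈ normalizer (V : Set G)) (hR : g ∈ centralizer (Rf i : Set G))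
    (hE : ∀ b, ∃ a, g * v 0 b 0 * g⁻¹ = v a b 0) (hp : ∀ y ∈ Qf i, p (g * y * g⁻¹) = p y) :
    ∃ y ∈ Qf i, y⁻¹ * g ∈ centralizer (V : Set G) := by
  have hRN : g ∈ normalizer (Rf i : Set G) := by
    apply mem_normalizer_of_cj
    exact cj_eq_of_comm fun r hr => ((mem_centralizer_iff.mp hR) r hr).symm
  -- the point `g R'`
  obtain ⟨l, hl1, hl2⟩ := D.permN hN j
  have hl : l ≠ i := by
    rintro rfl
    have h1 : cj g (Rf j) = cj g (Rf l) := by rw [hl1, cj_of_mem_normalizer hRN]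
    exact D.ne (D.M.inj _ _ (cj_inj h1)).symm
  obtain ⟨y, hy, h2⟩ := D.M.tran i j l D.ne.symm hl
  refine ⟨y, hy, ?_⟩
  set h := y⁻¹ * g with hh
  have hyN : y⁻¹ ∈ normalizer (V : Set G) := inv_mem (D.M.Q_V i hy)
  have hhN : h ∈ normalizer (V : Set G) := mul_mem hyN hN
  have hyR : y⁻¹ ∈ centralizer (Rf i : Set G) := by
    rw [mem_centralizer_iff]
    intro r hr
    exact D.M.RQ i r hr _ (inv_mem hy)
  have hhR : h ∈ centralizer (Rf i : Set G) := mul_mem hyR hR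
  have hj : cj h (Rf j) = Rf j := by
    rw [hh, cj_mul, hl1, ← h2, ← cj_mul, inv_mul_cancel, cj, map_one, one_smul]
  have hjQ : cj h (Qf j) = Qf j := D.M.nor j h (mem_normalizer_of_cj hj)
  have hE' : ∀ b, ∃ a, h * v 0 b 0 * h⁻¹ = v a b 0 := by
    intro b
    obtain ⟨a, ha⟩ := hE b
    have e : h * v 0 b 0 * h⁻¹ = y⁻¹ * (g * v 0 b 0 * g⁻¹) * y⁻¹⁻¹ := by rw [hh]; group
    rw [e, ha, D.g.act _ (inv_mem hy)]
    refine ⟨a + T.tr (T.sg (p y⁻¹) * b), ?_⟩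
    rw [map_zero, mul_zero, mul_zero, add_zero, add_zero]
  have hp' : ∀ z ∈ Qf i, p (h * z * h⁻¹) = p z := by
    intro z hz
    have hgz : g * z * g⁻¹ ∈ Qf i := by
      have := conj_mem_cj (c := g) hz
      rwa [D.M.nor i g hRN] at this
    have e : h * z * h⁻¹ = y⁻¹ * (g * z * g⁻¹) * y := by rw [hh]; group
    rw [e, D.g.p_add _ (mul_mem (inv_mem hy) hgz) _ hy, D.g.p_add _ (inv_mem hy) _ hgz, GEnd.p_inv D.g hy, hp z hz]
    ring
  -- `h v 0 b 0 h⁻¹ = v 0 b 0`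
  have hb : ∀ b, h * v 0 b 0 * h⁻¹ = v 0 b 0 := by
    intro b
    obtain ⟨a, ha⟩ := hE' b
    have h3 : v 0 b 0 ∈ Qf j := D.g.E'_le b 0
    have h4 : h * v 0 b 0 * h⁻¹ ∈ Qf j := by
      have := conj_mem_cj (c := h) h3
      rwa [hjQ] at this
    have h5 : h * v 0 b 0 * h⁻¹ ∈ V := (mem_normalizer_iff.mp hhN _).mp (D.g.v_mem 0 b 0)
    obtain ⟨b', d', h6⟩ := D.V_Q' h5 h4
    rw [ha] at h6
    obtain ⟨h7, -, -⟩ := GEnd.v_eq D.g h6
    rw [ha, h7]
  have hd : ∀ d, h * v 0 0 d * h⁻¹ = v 0 0 d := by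
    intro d
    have h3 : v 0 0 d ∈ Rf j := (D.Rj _).mpr ⟨d, rfl⟩
    have h4 : h * v 0 0 d * h⁻¹ ∈ Rf j := by
      have := conj_mem_cj (c := h) h3
      rwa [hj] at this
    obtain ⟨d', h5⟩ := (D.Rj _).mp h4
    -- `[y, v 0 0 d] ≡ v 0 (p y d) 0`
    obtain ⟨z, hz, hz1⟩ := D.g.p_surj 1
    have h6 := D.g.act z hz 0 0 d
    have hhz : h * z * h⁻¹ ∈ Qf i := by
      have := conj_mem_cj (c := h) hz
      rwa [D.M.nor i h (by
        apply mem_normalizer_of_cj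
        exact cj_eq_of_comm fun r hr => ((mem_centralizer_iff.mp hhR) r hr).symm)] at this
    have h7 := D.g.act _ hhz 0 0 d'
    rw [hp' z hz, ← h5] at h7
    have h8 : h * z * h⁻¹ * (h * v 0 0 d * h⁻¹) * (h * z * h⁻¹)⁻¹ = h * (z * v 0 0 d * z⁻¹) * h⁻¹ := by group
    rw [h8, h6] at h7
    rw [hz1] at h7
    simp only [map_one, mul_zero, map_zero, one_mul, zero_add, add_zero] at h7
    have e1 : ∀ (a : k) (b : F) (d : k), v a b d = v a 0 0 * v 0 b 0 * v 0 0 d := by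
      intro a b d
      simp only [← D.g.v_add, add_zero, zero_add]
    have h9 : h * v (T.nm 1 * d) (algebraMap k F d) d * h⁻¹ =
        v (T.nm 1 * d) 0 0 * v 0 (algebraMap k F d) 0 * v 0 0 d' := by
      rw [e1, ← h5]
      have h10 : h * v (T.nm 1 * d) 0 0 * h⁻¹ = v (T.nm 1 * d) 0 0 := by
        have := (mem_centralizer_iff.mp hhR) _ (D.g.sp.a_mem (T.nm 1 * d))
        change v (T.nm 1 * d) 0 0 * h = h * v (T.nm 1 * d) 0 0 at this
        rw [← this, mul_inv_cancel_right]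
      calc h * (v (T.nm 1 * d) 0 0 * v 0 (algebraMap k F d) 0 * v 0 0 d) * h⁻¹ =
          (h * v (T.nm 1 * d) 0 0 * h⁻¹) * (h * v 0 (algebraMap k F d) 0 * h⁻¹) * (h * v 0 0 d * h⁻¹) := by group
        _ = _ := by rw [h10, hb]
    rw [h9, ← e1] at h7
    obtain ⟨-, h11, -⟩ := GEnd.v_eq D.g h7
    have h12 : d = d' := (algebraMap k F).injective h11
    rw [h5, ← h12]
  rw [GEnd.cent_iff D.g]
  intro a b d
  have e1 : v a b d = v a 0 0 * v 0 b 0 * v 0 0 d := by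
    simp only [← D.g.v_add, add_zero, zero_add]
  have h10 : h * v a 0 0 * h⁻¹ = v a 0 0 := by
    have := (mem_centralizer_iff.mp hhR) _ (D.g.sp.a_mem a)
    change v a 0 0 * h = h * v a 0 0 at this
    rw [← this, mul_inv_cancel_right]
  rw [e1]
  calc h * (v a 0 0 * v 0 b 0 * v 0 0 d) * h⁻¹ =
      (h * v a 0 0 * h⁻¹) * (h * v 0 b 0 * h⁻¹) * (h * v 0 0 d * h⁻¹) := by group
    _ = _ := by rw [h10, hb, hd]

end XD

end Cfsg.Agent.Omega.NO1U
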