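import Cfsg.Agent.Omega.NO1U.XAct

/-!
# The group `X = ⟨Q, Q'⟩` acts on `Y / V = Φ ⊗ F²` and on `V` as `SL₂(F)`

`XD.bil'` : `[y', a] = p'(y') φ(a)` for `y' ∈ Q'`, `a ∈ C_Q(V)`.
`XD.Rep y u w` : `y = a b`, `a ∈ C_Q(V)`, `b ∈ C_{Q'}(V)`, `φ a = u`, `χ b = w`.
`XD.mat` : every `x ∈ X` acts by a matrix of determinant one.
-/

set_option autoImplicit false
set_option linter.unusedVariables false
set_option linter.unusedSectionVars false

open Subgroup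
open Cfsg.Agent.Omega.NO1.Beta.Meet Cfsg.Agent.Omega.NOne.SU

namespace Cfsg.Agent.Omega.NO1U

universe u

variable {G : Type u} [Group G] {k F : Type*} [Field k] [Field F] [Algebra k F]
variable {T : Quad k F} {S : Sylow 2 G} {I : Type*} {V : Subgroup G} {Rf Qf : I → Subgroup G} {i j : I}
  {v : k → F → k → G} {p p' : G → F} {Φ : Type*} [AddCommGroup Φ] [Module F Φ] {φ χ : G → Φ}

/-- `y = a b`, `a ∈ C_Q(V)`, `b ∈ C_{Q'}(V)`, `φ a = u`, `χ b = w` -/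
def Rep (V : Subgroup G) (Qf : I → Subgroup G) (i j : I) (φ χ : G → Φ) (y : G) (u w : Φ) : Prop :=
  ∃ a ∈ Qf i ⊓ centralizer (V : Set G), ∃ b ∈ Qf j ⊓ centralizer (V : Set G), y = a * b ∧ φ a = u ∧ χ b = w

namespace XD

variable (D : XD T S V Rf Qf i j v p p' φ χ)
include D

theorem two_inv {w : G} (hw : w ∈ V) : w * w = 1 := by
  obtain ⟨a, b, d, rfl⟩ := D.g.v_surj w hw
  rw [← D.g.v_add]
  have h2 := GEnd.h2 D.g
  have hk : (2 : k) = 0 := D.g.sp.two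
  have ea : a + a = 0 := by rw [← two_mul, hk, zero_mul]
  have eb : b + b = 0 := by rw [← two_mul, h2, zero_mul]
  have ed : d + d = 0 := by rw [← two_mul, hk, zero_mul]
  rw [ea, eb, ed]
  exact GEnd.v_zero D.g

theorem meetV : Qf i ⊓ Qf j ≤ V := GEnd.meet_V D.g

theorem comm_V' {a b : G} (ha : a ∈ Qf i ⊓ centralizer (V : Set G)) (hb : b ∈ Qf j ⊓ centralizer (V : Set G)) :
    a * b * a⁻¹ * b⁻¹ ∈ V := D.M.comm_V D.ne D.meetV ha.1 ha.2 hb.1 hb.2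

theorem negΦ (u : Φ) : -u = u := by
  have h1 : (2 : F) • u = 0 := by rw [GEnd.h2 D.g, zero_smul]
  rw [two_smul] at h1
  exact neg_eq_of_add_eq_zero_left h1

theorem addΦ (u : Φ) : u + u = 0 := by
  have h1 : (2 : F) • u = 0 := by rw [GEnd.h2 D.g, zero_smul]
  rwa [two_smul] at h1

theorem φ_one : φ 1 = 0 := by
  have h1 := D.f.φ_add 1 (one_mem _) (one_mem _) 1 (one_mem _) (one_mem _)
  rw [mul_one] at h1
  exact left_eq_add.mp h1

theorem χ_one : χ 1 = 0 := by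
  have h1 := D.f.χ_add 1 (one_mem _) (one_mem _) 1 (one_mem _) (one_mem _)
  rw [mul_one] at h1
  exact left_eq_add.mp h1

theorem φ_inv {a : G} (ha : a ∈ Qf i) (haC : a ∈ centralizer (V : Set G)) : φ a⁻¹ = φ a := by
  have h1 := D.f.φ_add a ha haC a⁻¹ (inv_mem ha) (inv_mem haC)
  rw [mul_inv_cancel, D.φ_one] at h1
  rw [← D.negΦ (φ a)]
  exact (neg_eq_of_add_eq_zero_right h1.symm).symm

theorem χ_inv {a : G} (ha : a ∈ Qf j) (haC : a ∈ centralizer (V : Set G)) : χ a⁻¹ = χ a := by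
  have h1 := D.f.χ_add a ha haC a⁻¹ (inv_mem ha) (inv_mem haC)
  rw [mul_inv_cancel, D.χ_one] at h1
  rw [← D.negΦ (χ a)]
  exact (neg_eq_of_add_eq_zero_right h1.symm).symm

theorem VC {w : G} (hw : w ∈ V) : w ∈ centralizer (V : Set G) := D.M.V_le_C hw

theorem φ_V {w : G} (hw : w ∈ V) (hQ : w ∈ Qf i) : φ w = 0 := by
  rw [D.f.φ_ker w hQ (D.VC hw)]
  obtain ⟨a, b, d, rfl⟩ := D.g.v_surj w hw
  exact ⟨a, b, by rw [D.g.V_Q _ _ _ hQ]⟩

theorem V_Q' {w : G} (hw : w ∈ V) (hQ : w ∈ Qf j) : ∃ b d, w = v 0 b d := by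
  obtain ⟨a, b, d, rfl⟩ := D.g.v_surj w hw
  have h1 : v a b d = v a 0 0 * v 0 b d := by
    rw [← D.g.v_add, add_zero, zero_add, zero_add]
  have h3 : v a 0 0 ∈ Qf j := by
    have : v a 0 0 = v a b d * (v 0 b d)⁻¹ := by rw [h1]; group
    rw [this]
    exact mul_mem hQ (inv_mem (D.g.E'_le b d))
  have h4 : v a 0 0 ∈ Rf i ⊓ Qf j := ⟨D.g.sp.a_mem a, h3⟩
  rw [D.M.RQj i j D.ne, mem_bot] at h4
  have h5 := (D.g.v_inj _ _ _ h4).1
  exact ⟨b, d, by rw [h5]⟩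

theorem χ_V {w : G} (hw : w ∈ V) (hQ : w ∈ Qf j) : χ w = 0 := by
  obtain ⟨y, hy, hy1⟩ := D.g.p_surj 1
  have h1 := D.f.bil y hy w hQ (D.VC hw)
  rw [hy1, one_smul] at h1
  rw [← h1]
  refine D.φ_V ?_ ?_
  · have h2 : w * y * w⁻¹ * y⁻¹ = w * (y * w⁻¹ * y⁻¹) := by group
    rw [h2]
    exact mul_mem hw (D.M.Q_V' hy (inv_mem hw))
  · have h2 : w * y * w⁻¹ * y⁻¹ = (y * w * y⁻¹ * w⁻¹)⁻¹ := by group
    rw [h2]
    exact inv_mem (D.M.comm_mem hy hQ (D.VC hw)).1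

/-- only the class mod `V` counts -/
theorem φ_congr {a a' : G} (ha : a ∈ Qf i) (haC : a ∈ centralizer (V : Set G)) (ha' : a' ∈ Qf i)
    (haC' : a' ∈ centralizer (V : Set G)) (h : a * a'⁻¹ ∈ V) : φ a = φ a' := by
  have h1 := D.f.φ_add (a * a'⁻¹) (mul_mem ha (inv_mem ha')) (mul_mem haC (inv_mem haC')) a' ha' haC'
  rw [inv_mul_cancel_right, D.φ_V h (mul_mem ha (inv_mem ha')), zero_add] at h1
  exact h1

theorem χ_congr {a a' : G} (ha : a ∈ Qf j) (haC : a ∈ centralizer (V : Set G)) (ha' : a' ∈ Qf j)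
    (haC' : a' ∈ centralizer (V : Set G)) (h : a * a'⁻¹ ∈ V) : χ a = χ a' := by
  have h1 := D.f.χ_add (a * a'⁻¹) (mul_mem ha (inv_mem ha')) (mul_mem haC (inv_mem haC')) a' ha' haC'
  rw [inv_mul_cancel_right, D.χ_V h (mul_mem ha (inv_mem ha')), zero_add] at h1
  exact h1

/-- `φ [y, b] = p(y) χ(b)` -/
theorem bil₁ {y b : G} (hy : y ∈ Qf i) (hb : b ∈ Qf j ⊓ centralizer (V : Set G)) :
    y * b * y⁻¹ * b⁻¹ ∈ Qf i ⊓ centralizer (V : Set G) ∧ φ (y * b * y⁻¹ * b⁻¹) = p y • χ b := by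
  have h1 := D.M.comm_mem hy hb.1 hb.2
  refine ⟨mem_inf.mpr h1, ?_⟩
  rw [← D.φ_inv h1.1 h1.2, ← D.f.bil y hy b hb.1 hb.2]
  congr 1; group

/-- `χ [y', a] = p'(y') φ(a)` -/
theorem bil' {y a : G} (hy : y ∈ Qf j) (ha : a ∈ Qf i ⊓ centralizer (V : Set G)) :
    y * a * y⁻¹ * a⁻¹ ∈ Qf j ⊓ centralizer (V : Set G) ∧ χ (y * a * y⁻¹ * a⁻¹) = p' y • φ a := by
  have h1 := D.M.comm_mem hy ha.1 ha.2
  refine ⟨mem_inf.mpr h1, ?_⟩
  by_cases h0 : p' y = 0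
  · have hyC := (GEnd.mem_C' D.g hy).mpr h0
    have h2 : y * a * y⁻¹ * a⁻¹ ∈ V := D.M.comm_V D.ne D.meetV hy hyC ha.1 ha.2
    rw [D.χ_V h2 h1.1, h0, zero_smul]
  · obtain ⟨z, hz, hpz⟩ := D.g.p_surj (p' y)⁻¹
    have hpz0 : p z ≠ 0 := by rw [hpz]; exact inv_ne_zero h0
    have hm := (GEnd.match_iff D.g D.Rj hz hy hpz0).mpr (by rw [hpz, inv_inv])
    have h2 := D.M.surj_V D.ne D.meetV hz hy hm ha.1 ha.2
    obtain ⟨h3, h4⟩ := D.bil₁ hz (mem_inf.mpr h1)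
    have h5 := D.φ_congr h3.1 h3.2 ha.1 ha.2 h2
    rw [h4, hpz] at h5
    rw [← h5, smul_smul, mul_inv_cancel₀ h0, one_smul]

/-! ### coordinates on `Y` -/

theorem rep_mul {y y' : G} {u w u' w' : Φ} (h : Rep V Qf i j φ χ y u w) (h' : Rep V Qf i j φ χ y' u' w') :
    Rep V Qf i j φ χ (y * y') (u + u') (w + w') := by
  obtain ⟨a, ha, b, hb, rfl, rfl, rfl⟩ := h
  obtain ⟨a', ha', b', hb', rfl, rfl, rfl⟩ := h'
  -- `b a' = a' z b`, `z ∈ V`
  have hz : a'⁻¹ * b * a' * b⁻¹ ∈ V := by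
    have h1 := D.comm_V' (mem_inf.mpr ⟨inv_mem ha'.1, inv_mem ha'.2⟩) hb
    rwa [inv_inv] at h1
  obtain ⟨α, β, δ, e⟩ := D.g.v_surj _ hz
  have e1 : v α β δ = v α β 0 * v 0 0 δ := by
    rw [← D.g.v_add, add_zero, add_zero, zero_add]
  have m1 : v α β 0 ∈ Qf i ⊓ centralizer (V : Set G) := mem_inf.mpr ⟨D.g.E_le _ _, D.VC (D.g.v_mem _ _ _)⟩
  have m2 : v 0 0 δ ∈ Qf j ⊓ centralizer (V : Set G) := mem_inf.mpr ⟨D.g.E'_le _ _, D.VC (D.g.v_mem _ _ _)⟩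
  refine ⟨a * a' * v α β 0, mul_mem (mul_mem ha ha') m1, v 0 0 δ * b * b', mul_mem (mul_mem m2 hb) hb', ?_, ?_, ?_⟩
  · calc a * b * (a' * b') = a * a' * (a'⁻¹ * b * a' * b⁻¹) * b * b' := by group
      _ = a * a' * (v α β 0 * v 0 0 δ) * b * b' := by rw [← e, e1]
      _ = a * a' * v α β 0 * (v 0 0 δ * b * b') := by group
  · rw [D.f.φ_add _ (mul_mem ha.1 ha'.1) (mul_mem ha.2 ha'.2) _ m1.1 m1.2, D.f.φ_add _ ha.1 ha.2 _ ha'.1 ha'.2,
      D.φ_V (D.g.v_mem _ _ _) m1.1, add_zero]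
  · rw [D.f.χ_add _ (mul_mem m2.1 hb.1) (mul_mem m2.2 hb.2) _ hb'.1 hb'.2, D.f.χ_add _ m2.1 m2.2 _ hb.1 hb.2,
      D.χ_V (D.g.v_mem _ _ _) m2.1, zero_add]

theorem rep_left {a : G} (ha : a ∈ Qf i ⊓ centralizer (V : Set G)) : Rep V Qf i j φ χ a (φ a) 0 :=
  ⟨a, ha, 1, one_mem _, by rw [mul_one], rfl, D.χ_one⟩

theorem rep_right {b : G} (hb : b ∈ Qf j ⊓ centralizer (V : Set G)) : Rep V Qf i j φ χ b 0 (χ b) :=
  ⟨1, one_mem _, b, hb, by rw [one_mul], D.φ_one, rfl⟩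

theorem rep_Y {y : G} : y ∈ YY V Qf i j ↔ ∃ u w, Rep V Qf i j φ χ y u w := by
  constructor
  · intro hy
    rw [YY, Subgroup.sup_eq_closure] at hy
    have key : ∀ a, a ∈ ((Qf i ⊓ centralizer (V : Set G) : Subgroup G) : Set G) ∪
        ((Qf j ⊓ centralizer (V : Set G) : Subgroup G) : Set G) → ∃ u w, Rep V Qf i j φ χ a u w := by
      intro a ha
      rcases ha with ha | ha
      · exact ⟨_, _, D.rep_left ha⟩
      · exact ⟨_, _, D.rep_right ha⟩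
    induction hy using Subgroup.closure_induction_left with
    | one => exact ⟨_, _, D.rep_left (one_mem _)⟩
    | mul_left a ha b hb ih =>
      obtain ⟨u, w, h⟩ := ih
      obtain ⟨u', w', h'⟩ := key a ha
      exact ⟨_, _, D.rep_mul h' h⟩
    | inv_mul_cancel a ha b hb ih =>
      obtain ⟨u, w, h⟩ := ih
      obtain ⟨u', w', h'⟩ := key a⁻¹ (by
        rcases ha with ha | ha
        · exact Or.inl (inv_mem (S := Subgroup G) ha)
        · exact Or.inr (inv_mem (S := Subgroup G) ha))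
      exact ⟨_, _, D.rep_mul h' h⟩
  · rintro ⟨u, w, a, ha, b, hb, rfl, -, -⟩
    exact mul_mem (mem_sup_left ha) (mem_sup_right hb)

theorem rep_uniq {y : G} {u w u' w' : Φ} (h : Rep V Qf i j φ χ y u w) (h' : Rep V Qf i j φ χ y u' w') :
    u = u' ∧ w = w' := by
  obtain ⟨a, ha, b, hb, rfl, rfl, rfl⟩ := h
  obtain ⟨a', ha', b', hb', e, rfl, rfl⟩ := h'
  have e1 : a'⁻¹ * a = b' * b⁻¹ := by
    calc a'⁻¹ * a = a'⁻¹ * (a * b) * b⁻¹ := by group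
      _ = b' * b⁻¹ := by rw [e]; group
  have hV : a'⁻¹ * a ∈ V := D.meetV (mem_inf.mpr ⟨mul_mem (inv_mem ha'.1) ha.1, by
    rw [e1]; exact mul_mem hb'.1 (inv_mem hb.1)⟩)
  constructor
  · have h1 := D.f.φ_add _ ha'.1 ha'.2 (a'⁻¹ * a) (mul_mem (inv_mem ha'.1) ha.1) (mul_mem (inv_mem ha'.2) ha.2)
    rw [mul_inv_cancel_left, D.φ_V hV (mul_mem (inv_mem ha'.1) ha.1), add_zero] at h1
    exact h1
  · symm
    refine D.χ_congr hb'.1 hb'.2 hb.1 hb.2 ?_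
    rw [← e1]; exact hV

theorem rep_V {y : G} (hy : y ∈ V) : Rep V Qf i j φ χ y 0 0 := by
  obtain ⟨α, β, δ, rfl⟩ := D.g.v_surj _ hy
  have e1 : v α β δ = v α β 0 * v 0 0 δ := by
    rw [← D.g.v_add, add_zero, add_zero, zero_add]
  have m1 : v α β 0 ∈ Qf i ⊓ centralizer (V : Set G) := mem_inf.mpr ⟨D.g.E_le _ _, D.VC (D.g.v_mem _ _ _)⟩
  have m2 : v 0 0 δ ∈ Qf j ⊓ centralizer (V : Set G) := mem_inf.mpr ⟨D.g.E'_le _ _, D.VC (D.g.v_mem _ _ _)⟩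
  exact ⟨_, m1, _, m2, e1, D.φ_V (D.g.v_mem _ _ _) m1.1, D.χ_V (D.g.v_mem _ _ _) m2.1⟩

theorem rep_zero {y : G} (h : Rep V Qf i j φ χ y 0 0) : y ∈ V := by
  obtain ⟨a, ha, b, hb, rfl, h1, h2⟩ := h
  obtain ⟨α, β, e⟩ := (D.f.φ_ker a ha.1 ha.2).mp h1
  obtain ⟨β', δ, e'⟩ := D.f.χ_ker b hb.1 hb.2 h2
  rw [e, e']
  exact mul_mem (D.g.v_mem _ _ _) (D.g.v_mem _ _ _)

theorem rep_conj₁ {y m : G} {u w : Φ} (hy : y ∈ Qf i) (h : Rep V Qf i j φ χ m u w) :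
    Rep V Qf i j φ χ (y * m * y⁻¹) (u + p y • w) w := by
  obtain ⟨a, ha, b, hb, rfl, rfl, rfl⟩ := h
  obtain ⟨h1, h2⟩ := D.bil₁ hy hb
  have h3 : y * a * y⁻¹ ∈ Qf i ⊓ centralizer (V : Set G) :=
    mem_inf.mpr ⟨mul_mem (mul_mem hy ha.1) (inv_mem hy), D.M.Q_cent hy ha.2⟩
  have h4 : φ (y * a * y⁻¹) = φ a := D.φ_congr h3.1 h3.2 ha.1 ha.2 (D.M.R_le i (D.M.QQ i y hy a ha.1))
  refine ⟨y * a * y⁻¹ * (y * b * y⁻¹ * b⁻¹), mul_mem h3 h1, b, hb, by group, ?_, rfl⟩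
  rw [D.f.φ_add _ h3.1 h3.2 _ h1.1 h1.2, h4, h2]

theorem rep_conj₂ {y m : G} {u w : Φ} (hy : y ∈ Qf j) (h : Rep V Qf i j φ χ m u w) :
    Rep V Qf i j φ χ (y * m * y⁻¹) u (p' y • u + w) := by
  obtain ⟨a, ha, b, hb, rfl, rfl, rfl⟩ := h
  obtain ⟨h1, h2⟩ := D.bil' hy ha
  have h3 : y * b * y⁻¹ ∈ Qf j ⊓ centralizer (V : Set G) :=
    mem_inf.mpr ⟨mul_mem (mul_mem hy hb.1) (inv_mem hy), D.M.Q_cent hy hb.2⟩
  have h4 : χ (y * b * y⁻¹) = χ b := D.χ_congr h3.1 h3.2 hb.1 hb.2 (D.M.R_le j (D.M.QQ j y hy b hb.1))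
  have e : y * (a * b) * y⁻¹ = (y * a * y⁻¹ * a⁻¹) * a * (y * b * y⁻¹) := by group
  rw [e]
  have h5 := D.rep_mul (D.rep_mul (D.rep_right h1) (D.rep_left ha)) (D.rep_right h3)
  rw [zero_add, add_zero, add_zero, h2, h4] at h5
  exact h5

/-- the action of a matrix on the hermitian matrices -/
def Act (T : Quad k F) (v : k → F → k → G) (x : G) (α β γ δ : F) : Prop :=
  ∀ a b d, ∃ a' d', algebraMap k F a' = α * T.sg α * algebraMap k F a + α * T.sg β * b + β * T.sg α * T.sg b +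
      β * T.sg β * algebraMap k F d ∧
    algebraMap k F d' = γ * T.sg γ * algebraMap k F a + γ * T.sg δ * b + δ * T.sg γ * T.sg b +
      δ * T.sg δ * algebraMap k F d ∧
    x * v a b d * x⁻¹ = v a' (α * T.sg γ * algebraMap k F a + α * T.sg δ * b + β * T.sg γ * T.sg b +
      β * T.sg δ * algebraMap k F d) d'

/-- **every `x ∈ X` acts on `Y / V` and on `V` as a matrix of determinant one** -/
theorem mat {x : G} (hx : x ∈ Qf i ⊔ Qf j) : ∃ α β γ δ : F, α * δ + β * γ = 1 ∧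
    (∀ m u w, Rep V Qf i j φ χ m u w → Rep V Qf i j φ χ (x * m * x⁻¹) (α • u + β • w) (γ • u + δ • w)) ∧
    Act T v x α β γ δ := by
  have h2 := GEnd.h2 D.g
  have key : ∀ y, y ∈ (Qf i : Set G) ∪ (Qf j : Set G) → ∀ x, (∃ α β γ δ : F, α * δ + β * γ = 1 ∧
    (∀ m u w, Rep V Qf i j φ χ m u w → Rep V Qf i j φ χ (x * m * x⁻¹) (α • u + β • w) (γ • u + δ • w)) ∧
    Act T v x α β γ δ) → ∃ α β γ δ : F, α * δ + β * γ = 1 ∧
    (∀ m u w, Rep V Qf i j φ χ m u w → Rep V Qf i j φ χ (y * x * m * (y * x)⁻¹) (α • u + β • w) (γ • u + δ • w)) ∧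
    Act T v (y * x) α β γ δ := by
    rintro y (hy | hy) x ⟨α, β, γ, δ, h1, h3, h4⟩
    · refine ⟨α + p y * γ, β + p y * δ, γ, δ, ?_, ?_, ?_⟩
      · linear_combination h1 + p y * γ * δ * h2
      · intro m u w h
        have h5 := D.rep_conj₁ hy (h3 m u w h)
        have e : y * x * m * (y * x)⁻¹ = y * (x * m * x⁻¹) * y⁻¹ := by group
        rw [e]
        have e2 : α • u + β • w + p y • (γ • u + δ • w) = (α + p y * γ) • u + (β + p y * δ) • w := by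
          module
        rwa [e2] at h5
      · intro a b d
        obtain ⟨a', d', ha, hd, hv⟩ := h4 a b d
        have e : y * x * v a b d * (y * x)⁻¹ = y * (x * v a b d * x⁻¹) * y⁻¹ := by group
        rw [e, hv, D.g.act y hy]
        refine ⟨_, _, ?_, hd, congrArg₂ (fun s t => v s t d') rfl ?_⟩
        · simp only [map_add, map_mul, T.tr_eq, T.nm_eq, T.sg_sg, AlgEquiv.commutes, ha, hd]
          ring
        · simp only [map_add, map_mul, hd]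
          ring
    · refine ⟨α, β, γ + p' y * α, δ + p' y * β, ?_, ?_, ?_⟩
      · linear_combination h1 + p' y * α * β * h2
      · intro m u w h
        have h5 := D.rep_conj₂ hy (h3 m u w h)
        have e : y * x * m * (y * x)⁻¹ = y * (x * m * x⁻¹) * y⁻¹ := by group
        rw [e]
        have e2 : p' y • (α • u + β • w) + (γ • u + δ • w) = (γ + p' y * α) • u + (δ + p' y * β) • w := by
          module
        rwa [e2] at h5
      · intro a b d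
        obtain ⟨a', d', ha, hd, hv⟩ := h4 a b d
        have e : y * x * v a b d * (y * x)⁻¹ = y * (x * v a b d * x⁻¹) * y⁻¹ := by group
        rw [e, hv, D.g.act' y hy]
        refine ⟨_, _, ha, ?_, congrArg₂ (fun s t => v a' s t) ?_ rfl⟩
        · simp only [map_add, map_mul, T.tr_eq, T.nm_eq, T.sg_sg, AlgEquiv.commutes, ha, hd]
          ring
        · simp only [map_add, map_mul, ha]
          ring
  rw [Subgroup.sup_eq_closure] at hx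
  induction hx using Subgroup.closure_induction_left with
  | one =>
    refine ⟨1, 0, 0, 1, by ring, ?_, ?_⟩
    · intro m u w h
      simpa using h
    · intro a b d
      refine ⟨a, d, by simp, by simp, by simp⟩
  | mul_left a ha b hb ih => exact key a ha b ih
  | inv_mul_cancel a ha b hb ih =>
    refine key a⁻¹ ?_ b ih
    rcases ha with ha | ha
    · exact Or.inl (inv_mem (S := Subgroup G) ha)
    · exact Or.inr (inv_mem (S := Subgroup G) ha)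

end XD

end Cfsg.Agent.Omega.NO1U
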